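import Cfsg.Agent.N2.Ex.Mu.LatC
import Cfsg.Agent.N2.Ex.Al.RwE6
import Cfsg.Agent.N2.Ex.Cb.Main

/-!
# N2, multiplicities: the rows of `E6` (helper40, generated data)
-/

set_option autoImplicit false
set_option maxRecDepth 100000

namespace Cfsg.Agent.N2.Ex.Mu.Lt

open Cfsg Cfsg.Lie Cfsg.Agent.Nodes.RGDChev Cfsg.Agent.N2.Ex.Al Cfsg.Agent.N2.Ex.Al.Ck Cfsg.Agent.N2.Ex.Cb

/-- the certificates -/
def xE6_2 : List Rt := [⟨0, 0, [], [], [], [], 0, false⟩,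
  ⟨0, 0, [], [], [], [[0, 1, 0, 0, 0, 0], [1, 0, 2, 0, 0, 0], [0, 0, 0, 1, 0, 0], [0, 0, 0, 0, 1, 0], [0, 0, 0, 0, 0, 1]], 0, false⟩,
  ⟨0, 0, [], [], [], [], 4, false⟩,
  ⟨0, 0, [], [], [], [], 6, false⟩,
  ⟨0, 0, [], [], [], [], 6, false⟩,
  ⟨0, 0, [], [], [], [], 8, false⟩,
  ⟨2, 8, [-1, -1, -1, 1], [], [], [], 8, false⟩,
  ⟨0, 0, [], [], [], [], 10, false⟩,
  ⟨0, 0, [], [], [], [[0, 1, 0, 2, 1, 0], [1, 0, 2, 0, 1, 0], [0, 0, 0, 0, 0, 1]], 5, false⟩,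
  ⟨0, 0, [], [12], [], [[0, 0, 0, 0, 1, 0], [0, 0, 0, 0, 0, 1]], 9, false⟩,
  ⟨0, 0, [], [], [], [], 14, false⟩,
  ⟨0, 0, [], [], [], [], 14, false⟩,
  ⟨2, 3, [0, -1, -1, -1, 1], [], [], [], 16, false⟩,
  ⟨3, 3, [-1, -1, -2, -2, -1, 1], [], [], [], 15, false⟩,
  ⟨0, 0, [], [], [], [[-2, -3, -4, -6, -5, 0], [0, 0, 0, 0, 0, 1]], 13, false⟩,
  ⟨0, 0, [], [], [], [[4, 6, 8, 12, 10, 5]], 15, false⟩,
  ⟨0, 0, [], [], [], [[0, 1, 0, 2, 1, 0], [1, 0, 2, 0, 1, 2]], 9, false⟩,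
  ⟨0, 0, [], [], [], [[0, 0, 0, 0, 0, 1]], 15, false⟩,
  ⟨2, 4, [0, -1, -1, -2, -1, 1], [], [], [], 32, false⟩,
  ⟨0, 0, [], [], [], [], 40, false⟩,
  ⟨0, 0, [], [], [], [], 72, false⟩]

/-- the check -/
noncomputable def cE6_2 (j : ℕ) : Bool :=
  rowT tbE6 6 2 tpE6 (5, 9, 0, 15) 40 (nr tbE6 2 [] []) (rw0 rwE6 j) (xE6_2.getD j ⟨0, 0, [], [], [], [], 0, false⟩)

theorem cE6_2_0 : aL (fun j => cE6_2 (j + 0)) 21 = true := by decide +kernel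

theorem allE6_2 : ∀ j < rwE6.length, cE6_2 j = true := fun j (hj : j < 21) => by
  simpa only [Nat.sub_add_cancel (show 0 ≤ j by omega)] using aL_iff.1 cE6_2_0 (j - 0) (by omega)

/-- the certificates -/
def xE6_3 : List Rt := [⟨0, 0, [], [], [], [], 0, false⟩,
  ⟨0, 0, [], [], [], [[0, 1, 0, 0, 0, 0], [1, 0, 2, 0, 0, 0], [0, 0, 0, 1, 0, 0], [0, 0, 0, 0, 1, 0], [0, 0, 0, 0, 0, 1]], 1, false⟩,
  ⟨0, 0, [], [], [], [], 4, false⟩,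
  ⟨0, 0, [], [], [], [], 6, false⟩,
  ⟨0, 0, [], [], [], [], 6, false⟩,
  ⟨0, 0, [], [], [], [], 8, false⟩,
  ⟨2, 8, [-1, -1, -1, 1], [], [], [], 8, false⟩,
  ⟨0, 0, [], [], [], [], 10, false⟩,
  ⟨0, 0, [], [], [], [[0, 1, 0, 2, 1, 0], [1, 0, 2, 0, 1, 0], [0, 0, 0, 0, 0, 1]], 7, false⟩,
  ⟨0, 0, [], [], [], [[0, 0, 0, 0, 1, 0], [0, 0, 0, 0, 0, 1]], 7, false⟩,
  ⟨0, 0, [], [], [], [], 14, false⟩,
  ⟨0, 0, [], [], [], [], 14, false⟩,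
  ⟨2, 3, [0, -1, -1, -1, 1], [], [], [], 16, false⟩,
  ⟨3, 3, [-1, -1, -2, -2, -1, 1], [], [], [], 18, false⟩,
  ⟨0, 0, [], [], [], [[-2, -3, -4, -6, -5, 0], [0, 0, 0, 0, 0, 1]], 13, false⟩,
  ⟨0, 0, [], [], [], [[4, 6, 8, 12, 10, 5]], 15, true⟩,
  ⟨0, 0, [], [], [], [[0, 1, 0, 2, 1, 0], [1, 0, 2, 0, 1, 2]], 13, false⟩,
  ⟨0, 0, [], [], [], [[0, 0, 0, 0, 0, 1]], 15, true⟩,
  ⟨2, 4, [0, -1, -1, -2, -1, 1], [], [], [], 32, false⟩,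
  ⟨0, 0, [], [], [], [], 40, false⟩,
  ⟨0, 0, [], [], [], [], 72, false⟩]

/-- the check -/
noncomputable def cE6_3 (j : ℕ) : Bool :=
  rowT tbE6 6 3 tpE6 (7, 13, 1, 15) 40 (nr tbE6 3 [(22, 20, 30, 30)] [(30, 30, 22, 20)]) (rw0 rwE6 j) (xE6_3.getD j ⟨0, 0, [], [], [], [], 0, false⟩)

theorem cE6_3_0 : aL (fun j => cE6_3 (j + 0)) 16 = true := by decide +kernel

theorem cE6_3_16 : aL (fun j => cE6_3 (j + 16)) 2 = true := by decide +kernel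

theorem cE6_3_18 : aL (fun j => cE6_3 (j + 18)) 3 = true := by decide +kernel

theorem allE6_3 : ∀ j < rwE6.length, cE6_3 j = true := fun j (hj : j < 21) => by
  by_cases h0 : j < 16
  · simpa only [Nat.sub_add_cancel (show 0 ≤ j by omega)] using aL_iff.1 cE6_3_0 (j - 0) (by omega)
  by_cases h16 : j < 18
  · simpa only [Nat.sub_add_cancel (show 16 ≤ j by omega)] using aL_iff.1 cE6_3_16 (j - 16) (by omega)
  simpa only [Nat.sub_add_cancel (show 18 ≤ j by omega)] using aL_iff.1 cE6_3_18 (j - 18) (by omega)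

theorem slE6 : sl tbE6 = true := by decide +kernel

theorem tpkE6 : ∀ f ∈ tpE6, f.1 ≠ 0 ∧ f.1 ≤ 30 := by decide

variable {r h : ℕ} [Fact r.Prime]

theorem cnE6_2 {M : CoxeterMatrix (Fin 6)} {hp : IsType chevE6 6 M} {F G : LL 6 →+ ℤ} (S : Si hp r 2 h tpE6 F G) :
    Cn h (5, 9, 0, 15) 40 (Ne0 [] []) (Kl hp r F) (Kl hp 2 G) :=
  cn_of (gsE6 hp) (by decide) (by decide) (by decide) tpkE6 rowE6 (by decide) rfl ne0_of_image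
    (nr_spec (gsE6 hp) slE6) allE6_2 S

theorem cnE6_3 {M : CoxeterMatrix (Fin 6)} {hp : IsType chevE6 6 M} {F G : LL 6 →+ ℤ} (S : Si hp r 3 h tpE6 F G) :
    Cn h (7, 13, 1, 15) 40 (Ne0 [(22, 20, 30, 30)] [(30, 30, 22, 20)]) (Kl hp r F) (Kl hp 3 G) :=
  cn_of (gsE6 hp) (by decide) (by decide) (by decide) tpkE6 rowE6 (by decide) rfl ne0_of_image
    (nr_spec (gsE6 hp) slE6) allE6_3 S

end Cfsg.Agent.N2.Ex.Mu.Lt
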