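import Cfsg.Agent.N2.Ex.Mu.LatC
import Cfsg.Agent.N2.Ex.Al.RwE7
import Cfsg.Agent.N2.Ex.Cb.Main

/-!
# N2, multiplicities: the rows of `E7` (helper40, generated data)
-/

set_option autoImplicit false
set_option maxRecDepth 100000

namespace Cfsg.Agent.N2.Ex.Mu.Lt

open Cfsg Cfsg.Lie Cfsg.Agent.Nodes.RGDChev Cfsg.Agent.N2.Ex.Al Cfsg.Agent.N2.Ex.Al.Ck Cfsg.Agent.N2.Ex.Cb

/-- the certificates -/
def xE7_2 : List Rt := [⟨0, 0, [], [], [], [], 0, false⟩,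
  ⟨0, 0, [], [], [], [], 2, false⟩,
  ⟨0, 0, [], [], [], [], 4, false⟩,
  ⟨0, 0, [], [], [], [[1, 0, 2, 3, 0, 0, 0], [0, 1, 0, 0, 0, 0, 0], [0, 0, 0, 0, 1, 0, 0], [0, 0, 0, 0, 0, 1, 0], [0, 0, 0, 0, 0, 0, 1]], 3, false⟩,
  ⟨0, 0, [], [], [], [[0, 1, 0, 2, 1, 0, 0], [0, 0, 0, 0, 1, 2, 0], [1, 0, 2, 0, 0, 0, 0], [0, 0, 0, 0, 0, 0, 1]], 0, false⟩,
  ⟨0, 0, [], [], [], [[1, 1, 2, 2, 0, 0, 0], [0, 0, 0, 0, 1, 0, 0], [0, 0, 0, 0, 0, 1, 0], [0, 0, 0, 0, 0, 0, 1]], 1, false⟩,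
  ⟨0, 0, [], [], [], [], 8, false⟩,
  ⟨0, 0, [], [], [], [], 8, false⟩,
  ⟨2, 9, [-1, -1, -1, 1], [], [], [], 8, false⟩,
  ⟨0, 0, [], [], [], [], 10, false⟩,
  ⟨2, 9, [-1, -1, -1, 1, 0], [], [], [], 10, false⟩,
  ⟨0, 0, [], [], [], [], 12, false⟩,
  ⟨0, 0, [], [], [], [], 12, false⟩,
  ⟨0, 0, [], [], [], [], 12, false⟩,
  ⟨2, 5, [0, 0, -1, -1, -1, 1], [], [], [], 12, false⟩,
  ⟨0, 0, [], [], [], [], 14, false⟩,
  ⟨0, 0, [], [], [], [], 14, false⟩,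
  ⟨0, 0, [], [], [], [], 14, false⟩,
  ⟨2, 2, [-1, 0, 0, 1, 0, 1, -1], [], [], [], 14, false⟩,
  ⟨2, 3, [0, -1, -1, -1, 1], [], [], [], 16, false⟩,
  ⟨0, 0, [], [], [], [], 16, false⟩,
  ⟨0, 0, [], [], [], [], 18, false⟩,
  ⟨3, 3, [-1, -1, -2, -2, -1, 1], [], [], [], 18, false⟩,
  ⟨2, 3, [0, -1, -1, -1, 0, 1], [], [], [], 18, false⟩,
  ⟨0, 0, [], [], [], [], 20, false⟩,
  ⟨0, 0, [], [], [], [], 20, false⟩,
  ⟨0, 0, [], [], [], [], 22, false⟩,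
  ⟨0, 0, [], [], [], [[0, 1, 0, 2, 1, 0, 0], [1, 0, 2, 0, 1, 2, 0], [0, 0, 0, 0, 0, 0, 1]], 9, false⟩,
  ⟨2, 3, [0, -1, -1, -1, 1, 0], [], [], [], 24, false⟩,
  ⟨0, 0, [], [], [], [[0, 0, 0, 0, 1, 0, 0], [0, 0, 0, 0, 0, 0, 1]], 13, false⟩,
  ⟨0, 0, [], [18], [], [], 26, false⟩,
  ⟨2, 27, [-1, 0, 0, -1, -2, -1, 1], [], [], [], 26, false⟩,
  ⟨2, 3, [0, -1, -1, -1, 1, 0], [], [], [], 28, false⟩,
  ⟨0, 0, [], [], [], [[0, 0, 0, 0, 0, 1, 0], [-2, -3, -4, -6, -5, 0, -3]], 15, false⟩,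
  ⟨0, 0, [], [], [], [[0, 0, 0, 0, 0, 1, 0], [0, 0, 0, 0, 0, 0, 1]], 21, false⟩,
  ⟨2, 3, [0, -1, -1, -1, 0, 1, 0], [], [], [], 30, false⟩,
  ⟨2, 4, [0, -1, -1, -2, -1, 1], [], [], [], 32, false⟩,
  ⟨0, 0, [], [], [], [[0, 0, 0, 0, 0, 1, 2]], 23, false⟩,
  ⟨3, 4, [-1, -1, -2, -3, -2, -1, 1], [], [], [], 27, true⟩,
  ⟨0, 0, [], [], [], [[-2, -3, -4, -6, -5, -4, 0], [0, 0, 0, 0, 0, 0, 1]], 25, false⟩,
  ⟨0, 0, [], [], [], [[-2, -3, -4, -6, -5, -4, -2]], 27, true⟩,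
  ⟨0, 0, [], [], [], [[-2, -3, -4, -6, -5, -2, 1]], 31, false⟩,
  ⟨2, 4, [0, -1, -1, -2, -1, 0, 1], [], [], [], 56, false⟩,
  ⟨0, 0, [], [], [], [[0, 0, 0, 0, 0, 0, 1]], 31, false⟩,
  ⟨2, 5, [0, -1, -1, -2, -2, -1, 1], [], [], [], 62, false⟩,
  ⟨0, 0, [], [], [], [], 72, false⟩,
  ⟨0, 0, [], [], [], [], 126, false⟩]

/-- the check -/
noncomputable def cE7_2 (j : ℕ) : Bool :=
  rowT tbE7 7 2 tpE7 (13, 21, 3, 31) 72 (nr tbE7 2 [(36, 30, 62, 60), (42, 40, 72, 72)] []) (rw0 rwE7 j) (xE7_2.getD j ⟨0, 0, [], [], [], [], 0, false⟩)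

theorem cE7_2_0 : aL (fun j => cE7_2 (j + 0)) 39 = true := by decide +kernel

theorem cE7_2_39 : aL (fun j => cE7_2 (j + 39)) 2 = true := by decide +kernel

theorem cE7_2_41 : aL (fun j => cE7_2 (j + 41)) 6 = true := by decide +kernel

theorem allE7_2 : ∀ j < rwE7.length, cE7_2 j = true := fun j (hj : j < 47) => by
  by_cases h0 : j < 39
  · simpa only [Nat.sub_add_cancel (show 0 ≤ j by omega)] using aL_iff.1 cE7_2_0 (j - 0) (by omega)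
  by_cases h39 : j < 41
  · simpa only [Nat.sub_add_cancel (show 39 ≤ j by omega)] using aL_iff.1 cE7_2_39 (j - 39) (by omega)
  simpa only [Nat.sub_add_cancel (show 41 ≤ j by omega)] using aL_iff.1 cE7_2_41 (j - 41) (by omega)

/-- the certificates -/
def xE7_3 : List Rt := [⟨0, 0, [], [], [], [], 0, false⟩,
  ⟨0, 0, [], [], [], [], 2, false⟩,
  ⟨0, 0, [], [], [], [], 4, false⟩,
  ⟨0, 0, [], [], [], [[1, 0, 2, 3, 0, 0, 0], [0, 1, 0, 0, 0, 0, 0], [0, 0, 0, 0, 1, 0, 0], [0, 0, 0, 0, 0, 1, 0], [0, 0, 0, 0, 0, 0, 1]], 1, false⟩,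
  ⟨0, 0, [], [], [], [[0, 1, 0, 2, 1, 0, 0], [0, 0, 0, 0, 1, 2, 0], [1, 0, 2, 0, 0, 0, 0], [0, 0, 0, 0, 0, 0, 1]], 5, false⟩,
  ⟨0, 0, [], [], [], [[1, 1, 2, 2, 0, 0, 0], [0, 0, 0, 0, 1, 0, 0], [0, 0, 0, 0, 0, 1, 0], [0, 0, 0, 0, 0, 0, 1]], 5, false⟩,
  ⟨0, 0, [], [], [], [], 8, false⟩,
  ⟨0, 0, [], [], [], [], 8, false⟩,
  ⟨2, 9, [-1, -1, -1, 1], [], [], [], 8, false⟩,
  ⟨0, 0, [], [], [], [], 10, false⟩,
  ⟨2, 9, [-1, -1, -1, 1, 0], [], [], [], 10, false⟩,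
  ⟨0, 0, [], [], [], [], 12, false⟩,
  ⟨0, 0, [], [], [], [], 12, false⟩,
  ⟨0, 0, [], [], [], [], 12, false⟩,
  ⟨2, 5, [0, 0, -1, -1, -1, 1], [], [], [], 12, false⟩,
  ⟨0, 0, [], [], [], [], 14, false⟩,
  ⟨0, 0, [], [], [], [], 14, false⟩,
  ⟨0, 0, [], [], [], [], 14, false⟩,
  ⟨2, 2, [-1, 0, 0, 1, 0, 1, -1], [], [], [], 14, false⟩,
  ⟨2, 3, [0, -1, -1, -1, 1], [], [], [], 16, false⟩,
  ⟨0, 0, [], [], [], [], 16, false⟩,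
  ⟨0, 0, [], [], [], [], 18, false⟩,
  ⟨3, 3, [-1, -1, -2, -2, -1, 1], [], [], [], 18, false⟩,
  ⟨2, 3, [0, -1, -1, -1, 0, 1], [], [], [], 18, false⟩,
  ⟨0, 0, [], [], [], [], 20, false⟩,
  ⟨0, 0, [], [], [], [], 20, false⟩,
  ⟨0, 0, [], [], [], [], 22, false⟩,
  ⟨0, 0, [], [], [], [[0, 1, 0, 2, 1, 0, 0], [1, 0, 2, 0, 1, 2, 0], [0, 0, 0, 0, 0, 0, 1]], 13, false⟩,
  ⟨2, 3, [0, -1, -1, -1, 1, 0], [], [], [], 24, false⟩,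
  ⟨0, 0, [], [], [], [[0, 0, 0, 0, 1, 0, 0], [0, 0, 0, 0, 0, 0, 1]], 25, false⟩,
  ⟨0, 0, [], [], [], [[6, 9, 12, 18, 15, 10, 5]], 21, false⟩,
  ⟨2, 27, [-1, 0, 0, -1, -2, -1, 1], [], [], [], 26, false⟩,
  ⟨2, 3, [0, -1, -1, -1, 1, 0], [], [], [], 28, false⟩,
  ⟨0, 0, [], [], [], [[0, 0, 0, 0, 0, 1, 0], [-2, -3, -4, -6, -5, 0, -3]], 13, false⟩,
  ⟨0, 0, [], [], [], [[0, 0, 0, 0, 0, 1, 0], [0, 0, 0, 0, 0, 0, 1]], 13, false⟩,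
  ⟨2, 3, [0, -1, -1, -1, 0, 1, 0], [], [], [], 30, false⟩,
  ⟨2, 4, [0, -1, -1, -2, -1, 1], [], [], [], 32, false⟩,
  ⟨0, 0, [], [], [], [[0, 0, 0, 0, 0, 1, 2]], 31, false⟩,
  ⟨3, 4, [-1, -1, -2, -3, -2, -1, 1], [], [], [], 36, false⟩,
  ⟨0, 0, [], [], [], [[-2, -3, -4, -6, -5, -4, 0], [0, 0, 0, 0, 0, 0, 1]], 25, false⟩,
  ⟨0, 0, [], [], [], [[-2, -3, -4, -6, -5, -4, -2]], 27, true⟩,
  ⟨0, 0, [], [], [], [[-2, -3, -4, -6, -5, -2, 1]], 31, false⟩,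
  ⟨2, 4, [0, -1, -1, -2, -1, 0, 1], [], [], [], 56, false⟩,
  ⟨0, 0, [], [], [], [[0, 0, 0, 0, 0, 0, 1]], 31, true⟩,
  ⟨2, 5, [0, -1, -1, -2, -2, -1, 1], [], [], [], 62, false⟩,
  ⟨0, 0, [], [], [], [], 72, false⟩,
  ⟨0, 0, [], [], [], [], 126, false⟩]

/-- the check -/
noncomputable def cE7_3 (j : ℕ) : Bool :=
  rowT tbE7 7 3 tpE7 (25, 13, 5, 31) 72 (nr tbE7 3 [(42, 40, 60, 60)] [(60, 60, 42, 40)]) (rw0 rwE7 j) (xE7_3.getD j ⟨0, 0, [], [], [], [], 0, false⟩)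

theorem cE7_3_0 : aL (fun j => cE7_3 (j + 0)) 4 = true := by decide +kernel

theorem cE7_3_4 : aL (fun j => cE7_3 (j + 4)) 1 = true := by decide +kernel

theorem cE7_3_5 : aL (fun j => cE7_3 (j + 5)) 1 = true := by decide +kernel

theorem cE7_3_6 : aL (fun j => cE7_3 (j + 6)) 22 = true := by decide +kernel

theorem cE7_3_28 : aL (fun j => cE7_3 (j + 28)) 2 = true := by decide +kernel

theorem cE7_3_30 : aL (fun j => cE7_3 (j + 30)) 1 = true := by decide +kernel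

theorem cE7_3_31 : aL (fun j => cE7_3 (j + 31)) 3 = true := by decide +kernel

theorem cE7_3_34 : aL (fun j => cE7_3 (j + 34)) 1 = true := by decide +kernel

theorem cE7_3_35 : aL (fun j => cE7_3 (j + 35)) 3 = true := by decide +kernel

theorem cE7_3_38 : aL (fun j => cE7_3 (j + 38)) 2 = true := by decide +kernel

theorem cE7_3_40 : aL (fun j => cE7_3 (j + 40)) 1 = true := by decide +kernel

theorem cE7_3_41 : aL (fun j => cE7_3 (j + 41)) 1 = true := by decide +kernel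

theorem cE7_3_42 : aL (fun j => cE7_3 (j + 42)) 2 = true := by decide +kernel

theorem cE7_3_44 : aL (fun j => cE7_3 (j + 44)) 3 = true := by decide +kernel

theorem allE7_3 : ∀ j < rwE7.length, cE7_3 j = true := fun j (hj : j < 47) => by
  by_cases h0 : j < 4
  · simpa only [Nat.sub_add_cancel (show 0 ≤ j by omega)] using aL_iff.1 cE7_3_0 (j - 0) (by omega)
  by_cases h4 : j < 5
  · simpa only [Nat.sub_add_cancel (show 4 ≤ j by omega)] using aL_iff.1 cE7_3_4 (j - 4) (by omega)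
  by_cases h5 : j < 6
  · simpa only [Nat.sub_add_cancel (show 5 ≤ j by omega)] using aL_iff.1 cE7_3_5 (j - 5) (by omega)
  by_cases h6 : j < 28
  · simpa only [Nat.sub_add_cancel (show 6 ≤ j by omega)] using aL_iff.1 cE7_3_6 (j - 6) (by omega)
  by_cases h28 : j < 30
  · simpa only [Nat.sub_add_cancel (show 28 ≤ j by omega)] using aL_iff.1 cE7_3_28 (j - 28) (by omega)
  by_cases h30 : j < 31
  · simpa only [Nat.sub_add_cancel (show 30 ≤ j by omega)] using aL_iff.1 cE7_3_30 (j - 30) (by omega)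
  by_cases h31 : j < 34
  · simpa only [Nat.sub_add_cancel (show 31 ≤ j by omega)] using aL_iff.1 cE7_3_31 (j - 31) (by omega)
  by_cases h34 : j < 35
  · simpa only [Nat.sub_add_cancel (show 34 ≤ j by omega)] using aL_iff.1 cE7_3_34 (j - 34) (by omega)
  by_cases h35 : j < 38
  · simpa only [Nat.sub_add_cancel (show 35 ≤ j by omega)] using aL_iff.1 cE7_3_35 (j - 35) (by omega)
  by_cases h38 : j < 40
  · simpa only [Nat.sub_add_cancel (show 38 ≤ j by omega)] using aL_iff.1 cE7_3_38 (j - 38) (by omega)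
  by_cases h40 : j < 41
  · simpa only [Nat.sub_add_cancel (show 40 ≤ j by omega)] using aL_iff.1 cE7_3_40 (j - 40) (by omega)
  by_cases h41 : j < 42
  · simpa only [Nat.sub_add_cancel (show 41 ≤ j by omega)] using aL_iff.1 cE7_3_41 (j - 41) (by omega)
  by_cases h42 : j < 44
  · simpa only [Nat.sub_add_cancel (show 42 ≤ j by omega)] using aL_iff.1 cE7_3_42 (j - 42) (by omega)
  simpa only [Nat.sub_add_cancel (show 44 ≤ j by omega)] using aL_iff.1 cE7_3_44 (j - 44) (by omega)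

theorem slE7 : sl tbE7 = true := by decide +kernel

theorem tpkE7 : ∀ f ∈ tpE7, f.1 ≠ 0 ∧ f.1 ≤ 30 := by decide

variable {r h : ℕ} [Fact r.Prime]

theorem cnE7_2 {M : CoxeterMatrix (Fin 7)} {hp : IsType chevE7 7 M} {F G : LL 7 →+ ℤ} (S : Si hp r 2 h tpE7 F G) :
    Cn h (13, 21, 3, 31) 72 (Ne0 [(36, 30, 62, 60), (42, 40, 72, 72)] []) (Kl hp r F) (Kl hp 2 G) :=
  cn_of (gsE7 hp) (by decide) (by decide) (by decide) tpkE7 rowE7 (by decide) rfl ne0_of_image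
    (nr_spec (gsE7 hp) slE7) allE7_2 S

theorem cnE7_3 {M : CoxeterMatrix (Fin 7)} {hp : IsType chevE7 7 M} {F G : LL 7 →+ ℤ} (S : Si hp r 3 h tpE7 F G) :
    Cn h (25, 13, 5, 31) 72 (Ne0 [(42, 40, 60, 60)] [(60, 60, 42, 40)]) (Kl hp r F) (Kl hp 3 G) :=
  cn_of (gsE7 hp) (by decide) (by decide) (by decide) tpkE7 rowE7 (by decide) rfl ne0_of_image
    (nr_spec (gsE7 hp) slE7) allE7_3 S

end Cfsg.Agent.N2.Ex.Mu.Lt
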