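import Cfsg.Agent.N2.Ex.Mu.LatC
import Cfsg.Agent.N2.Ex.Al.RwE8
import Cfsg.Agent.N2.Ex.Cb.Main

/-!
# N2, multiplicities: the rows of `E8` (helper40, generated data)
-/

set_option autoImplicit false
set_option maxRecDepth 100000

namespace Cfsg.Agent.N2.Ex.Mu.Lt

open Cfsg Cfsg.Lie Cfsg.Agent.Nodes.RGDChev Cfsg.Agent.N2.Ex.Al Cfsg.Agent.N2.Ex.Al.Ck Cfsg.Agent.N2.Ex.Cb

/-- the certificates -/
def xE8_2 : List Rt := [⟨0, 0, [], [], [], [], 0, false⟩,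
  ⟨0, 0, [], [], [], [], 2, false⟩,
  ⟨0, 0, [], [], [], [], 4, false⟩,
  ⟨0, 0, [], [], [], [], 6, false⟩,
  ⟨0, 0, [], [], [], [], 6, false⟩,
  ⟨0, 0, [], [], [], [], 8, false⟩,
  ⟨0, 0, [], [], [], [], 8, false⟩,
  ⟨2, 10, [-1, -1, -1, 1], [], [], [], 8, false⟩,
  ⟨0, 0, [], [], [], [], 10, false⟩,
  ⟨2, 10, [-1, -1, -1, 0, 1], [], [], [], 10, false⟩,
  ⟨0, 0, [], [], [], [], 12, false⟩,
  ⟨0, 0, [], [], [], [], 12, false⟩,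
  ⟨0, 0, [], [], [], [], 12, false⟩,
  ⟨2, 5, [0, 0, -1, -1, 1, -1], [], [], [], 12, false⟩,
  ⟨0, 0, [], [], [], [], 14, false⟩,
  ⟨0, 0, [], [], [], [], 14, false⟩,
  ⟨2, 82, [0, -1, 0, -1, -1, 1], [], [], [], 14, false⟩,
  ⟨2, 2, [-1, 0, 0, 0, 1, 1, -1], [], [], [], 14, false⟩,
  ⟨2, 3, [0, -1, -1, -1, 1], [], [], [], 16, false⟩,
  ⟨0, 0, [], [], [], [], 16, false⟩,
  ⟨0, 0, [], [], [], [], 16, false⟩,
  ⟨2, 2, [-1, 0, 0, 0, 1, -1, 1, 0], [], [], [], 16, false⟩,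
  ⟨0, 0, [], [], [], [], 18, false⟩,
  ⟨3, 3, [-1, -1, -2, -2, -1, 1], [], [], [], 18, false⟩,
  ⟨2, 3, [0, -1, -1, -1, 0, 1], [], [], [], 18, false⟩,
  ⟨0, 0, [], [], [], [[-2, -3, -4, -6, -5, 0, 0, 0], [0, 0, 0, 0, 0, 1, 0, 0], [0, 0, 0, 0, 0, 0, 1, 0], [0, 0, 0, 0, 0, 0, 0, 1]], 13, false⟩,
  ⟨0, 0, [], [20], [], [], 20, false⟩,
  ⟨3, 3, [-1, -1, -2, -2, -1, 0, 1], [], [], [], 20, false⟩,
  ⟨2, 3, [0, -1, -1, -1, 0, 1, 0], [], [], [], 20, false⟩,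
  ⟨0, 0, [], [], [], [], 22, false⟩,
  ⟨2, 76, [0, -1, 0, -1, -2, -1, 1], [], [], [], 22, false⟩,
  ⟨0, 0, [], [], [], [[0, 1, 0, 2, 1, 0, 0, 0], [1, 0, 2, 0, 1, 2, 0, 0], [0, 0, 0, 0, 0, 0, 1, 0], [0, 0, 0, 0, 0, 0, 0, 1]], 9, false⟩,
  ⟨0, 0, [], [], [(20, [6, 126])], [], 24, false⟩,
  ⟨2, 3, [0, -1, -1, -1, 0, 1], [], [], [], 24, false⟩,
  ⟨0, 0, [], [], [(16, [6, 31, 126, 151])], [], 24, false⟩,
  ⟨3, 3, [-1, -1, -2, -2, -1, 0, 0, 1], [], [], [], 24, false⟩,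
  ⟨0, 0, [], [], [], [], 26, false⟩,
  ⟨0, 0, [], [], [], [], 26, false⟩,
  ⟨2, 31, [-1, 0, 0, -1, -2, -1, 1], [], [], [], 26, false⟩,
  ⟨2, 3, [0, -1, -1, -1, 1, 0], [], [], [], 28, false⟩,
  ⟨0, 0, [], [], [], [], 28, false⟩,
  ⟨2, 31, [-1, 0, 0, -1, -2, -1, 1, 0], [], [], [], 28, false⟩,
  ⟨0, 0, [], [], [], [], 30, false⟩,
  ⟨0, 0, [], [], [], [], 30, false⟩,
  ⟨2, 3, [0, -1, -1, -1, 0, 1, 0], [], [], [], 30, false⟩,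
  ⟨2, 4, [0, -1, -1, -2, -1, 1], [], [], [], 32, false⟩,
  ⟨0, 0, [], [], [], [], 32, false⟩,
  ⟨0, 0, [], [], [], [], 32, false⟩,
  ⟨2, 3, [0, -1, -1, -1, 0, 1, 0, 0], [], [], [], 32, false⟩,
  ⟨2, 4, [0, -1, -1, -2, -1, 0, 1], [], [], [], 34, false⟩,
  ⟨3, 4, [-1, -1, -2, -3, -2, -1, 1], [], [], [], 36, false⟩,
  ⟨2, 3, [0, -1, -1, -1, 0, 1, 0], [], [], [], 36, false⟩,
  ⟨2, 28, [-1, -2, -2, -3, 0, 0, -1, 1], [], [], [], 38, false⟩,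
  ⟨0, 0, [], [], [], [[-2, -3, -4, -6, -5, -4, 0, 0], [0, 0, 0, 0, 0, 0, 1, 0], [0, 0, 0, 0, 0, 0, 0, 1]], 25, false⟩,
  ⟨5, 4, [-2, -3, -4, -6, -3, -2, -1, 1], [], [], [], 33, false⟩,
  ⟨0, 0, [], [], [], [], 42, false⟩,
  ⟨0, 0, [], [], [], [], 42, false⟩,
  ⟨2, 67, [-2, -1, -2, -2, -1, -1, 1], [], [], [], 44, false⟩,
  ⟨0, 0, [], [], [], [], 44, false⟩,
  ⟨0, 0, [], [], [], [], 46, false⟩,
  ⟨2, 3, [0, -1, -1, -1, 0, 1, 0, 0], [], [], [], 48, false⟩,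
  ⟨2, 60, [-2, -1, -2, -2, -1, 0, -1, 1], [], [], [], 52, false⟩,
  ⟨2, 4, [0, -1, -1, -2, -1, 0, 1], [], [], [], 56, false⟩,
  ⟨0, 0, [], [], [], [], 56, false⟩,
  ⟨2, 4, [0, -1, -1, -2, -1, 0, 1, 0], [], [], [], 58, false⟩,
  ⟨0, 0, [], [], [], [[0, 0, 0, 0, 0, 0, 1, 0], [-2, -3, -4, -6, -5, -4, 0, -2]], 29, false⟩,
  ⟨2, 5, [0, -1, -1, -2, -2, -1, 1], [], [], [], 62, false⟩,
  ⟨2, 5, [0, -1, -1, -2, -2, -1, 1, 0], [], [], [], 64, false⟩,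
  ⟨0, 0, [], [], [], [[-2, -3, -4, -6, -5, -4, -3, 0], [0, 0, 0, 0, 0, 0, 0, 1]], 41, false⟩,
  ⟨3, 4, [-1, -1, -2, -3, -2, -1, 0, 1], [], [], [], 57, false⟩,
  ⟨0, 0, [], [], [], [[4, 6, 8, 12, 10, 8, 6, 3]], 43, false⟩,
  ⟨3, 6, [-2, -3, -4, -6, -5, -4, -1, 1], [], [], [], 47, true⟩,
  ⟨0, 0, [], [], [], [[-2, -3, -4, -6, -5, -4, -2, 0]], 61, false⟩,
  ⟨2, 5, [0, -1, -1, -2, -2, -1, 0, 1], [], [], [], 112, false⟩,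
  ⟨0, 0, [], [], [], [[-2, -3, -4, -6, -5, -4, -3, -2]], 63, false⟩,
  ⟨2, 7, [-2, -3, -4, -6, -5, -4, -3, 1], [], [], [], 128, false⟩,
  ⟨0, 0, [], [], [], [], 240, false⟩]

/-- the check -/
noncomputable def cE8_2 (j : ℕ) : Bool :=
  rowT tbE8 8 2 tpE8 (33, 41, 13, 63) 1 (nr tbE8 2 [(78, 72, 128, 126)] []) (rw0 rwE8 j) (xE8_2.getD j ⟨0, 0, [], [], [], [], 0, false⟩)

theorem cE8_2_0 : aL (fun j => cE8_2 (j + 0)) 72 = true := by decide +kernel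

theorem cE8_2_72 : aL (fun j => cE8_2 (j + 72)) 5 = true := by decide +kernel

theorem allE8_2 : ∀ j < rwE8.length, cE8_2 j = true := fun j (hj : j < 77) => by
  by_cases h0 : j < 72
  · simpa only [Nat.sub_add_cancel (show 0 ≤ j by omega)] using aL_iff.1 cE8_2_0 (j - 0) (by omega)
  simpa only [Nat.sub_add_cancel (show 72 ≤ j by omega)] using aL_iff.1 cE8_2_72 (j - 72) (by omega)

/-- the certificates -/
def xE8_3 : List Rt := [⟨0, 0, [], [], [], [], 0, false⟩,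
  ⟨0, 0, [], [], [], [], 2, false⟩,
  ⟨0, 0, [], [], [], [], 4, false⟩,
  ⟨0, 0, [], [], [], [], 6, false⟩,
  ⟨0, 0, [], [], [], [], 6, false⟩,
  ⟨0, 0, [], [], [], [], 8, false⟩,
  ⟨0, 0, [], [], [], [], 8, false⟩,
  ⟨2, 10, [-1, -1, -1, 1], [], [], [], 8, false⟩,
  ⟨0, 0, [], [], [], [], 10, false⟩,
  ⟨2, 10, [-1, -1, -1, 0, 1], [], [], [], 10, false⟩,
  ⟨0, 0, [], [], [], [], 12, false⟩,
  ⟨0, 0, [], [], [], [], 12, false⟩,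
  ⟨0, 0, [], [], [], [], 12, false⟩,
  ⟨2, 5, [0, 0, -1, -1, 1, -1], [], [], [], 12, false⟩,
  ⟨0, 0, [], [], [], [], 14, false⟩,
  ⟨0, 0, [], [], [], [], 14, false⟩,
  ⟨2, 82, [0, -1, 0, -1, -1, 1], [], [], [], 14, false⟩,
  ⟨2, 2, [-1, 0, 0, 0, 1, 1, -1], [], [], [], 14, false⟩,
  ⟨2, 3, [0, -1, -1, -1, 1], [], [], [], 16, false⟩,
  ⟨0, 0, [], [], [], [], 16, false⟩,
  ⟨0, 0, [], [], [], [], 16, false⟩,
  ⟨2, 2, [-1, 0, 0, 0, 1, -1, 1, 0], [], [], [], 16, false⟩,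
  ⟨0, 0, [], [], [], [], 18, false⟩,
  ⟨3, 3, [-1, -1, -2, -2, -1, 1], [], [], [], 18, false⟩,
  ⟨2, 3, [0, -1, -1, -1, 0, 1], [], [], [], 18, false⟩,
  ⟨0, 0, [], [], [], [[-2, -3, -4, -6, -5, 0, 0, 0], [0, 0, 0, 0, 0, 1, 0, 0], [0, 0, 0, 0, 0, 0, 1, 0], [0, 0, 0, 0, 0, 0, 0, 1]], 13, false⟩,
  ⟨0, 0, [], [20], [], [], 20, false⟩,
  ⟨3, 3, [-1, -1, -2, -2, -1, 0, 1], [], [], [], 20, false⟩,
  ⟨2, 3, [0, -1, -1, -1, 0, 1, 0], [], [], [], 20, false⟩,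
  ⟨0, 0, [], [], [], [], 22, false⟩,
  ⟨2, 76, [0, -1, 0, -1, -2, -1, 1], [], [], [], 22, false⟩,
  ⟨0, 0, [], [], [], [[0, 1, 0, 2, 1, 0, 0, 0], [1, 0, 2, 0, 1, 2, 0, 0], [0, 0, 0, 0, 0, 0, 1, 0], [0, 0, 0, 0, 0, 0, 0, 1]], 13, false⟩,
  ⟨0, 0, [], [], [(20, [6, 126])], [], 24, false⟩,
  ⟨2, 3, [0, -1, -1, -1, 0, 1], [], [], [], 24, false⟩,
  ⟨0, 0, [], [], [(16, [6, 31, 126, 151])], [], 24, false⟩,
  ⟨3, 3, [-1, -1, -2, -2, -1, 0, 0, 1], [], [], [], 24, false⟩,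
  ⟨0, 0, [], [], [], [], 26, false⟩,
  ⟨0, 0, [], [], [], [], 26, false⟩,
  ⟨2, 31, [-1, 0, 0, -1, -2, -1, 1], [], [], [], 26, false⟩,
  ⟨2, 3, [0, -1, -1, -1, 1, 0], [], [], [], 28, false⟩,
  ⟨0, 0, [], [], [], [], 28, false⟩,
  ⟨2, 31, [-1, 0, 0, -1, -2, -1, 1, 0], [], [], [], 28, false⟩,
  ⟨0, 0, [], [], [], [], 30, false⟩,
  ⟨0, 0, [], [], [], [], 30, false⟩,
  ⟨2, 3, [0, -1, -1, -1, 0, 1, 0], [], [], [], 30, false⟩,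
  ⟨2, 4, [0, -1, -1, -2, -1, 1], [], [], [], 32, false⟩,
  ⟨0, 0, [], [], [], [], 32, false⟩,
  ⟨0, 0, [], [], [], [], 32, false⟩,
  ⟨2, 3, [0, -1, -1, -1, 0, 1, 0, 0], [], [], [], 32, false⟩,
  ⟨2, 4, [0, -1, -1, -2, -1, 0, 1], [], [], [], 34, false⟩,
  ⟨3, 4, [-1, -1, -2, -3, -2, -1, 1], [], [], [], 36, false⟩,
  ⟨2, 3, [0, -1, -1, -1, 0, 1, 0], [], [], [], 36, false⟩,
  ⟨2, 28, [-1, -2, -2, -3, 0, 0, -1, 1], [], [], [], 38, false⟩,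
  ⟨0, 0, [], [], [], [], 40, false⟩,
  ⟨5, 4, [-2, -3, -4, -6, -3, -2, -1, 1], [], [], [], 40, false⟩,
  ⟨0, 0, [], [], [], [], 42, false⟩,
  ⟨0, 0, [], [], [], [], 42, false⟩,
  ⟨2, 67, [-2, -1, -2, -2, -1, -1, 1], [], [], [], 44, false⟩,
  ⟨0, 0, [], [], [], [], 44, false⟩,
  ⟨0, 0, [], [], [], [], 46, false⟩,
  ⟨2, 3, [0, -1, -1, -1, 0, 1, 0, 0], [], [], [], 48, false⟩,
  ⟨2, 60, [-2, -1, -2, -2, -1, 0, -1, 1], [], [], [], 52, false⟩,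
  ⟨2, 4, [0, -1, -1, -2, -1, 0, 1], [], [], [], 56, false⟩,
  ⟨0, 0, [], [], [], [], 56, false⟩,
  ⟨2, 4, [0, -1, -1, -2, -1, 0, 1, 0], [], [], [], 58, false⟩,
  ⟨0, 0, [], [], [], [[0, 0, 0, 0, 0, 0, 1, 0], [-2, -3, -4, -6, -5, -4, 0, -2]], 41, false⟩,
  ⟨2, 5, [0, -1, -1, -2, -2, -1, 1], [], [], [], 62, false⟩,
  ⟨2, 5, [0, -1, -1, -2, -2, -1, 1, 0], [], [], [], 64, false⟩,
  ⟨0, 0, [], [], [], [[-2, -3, -4, -6, -5, -4, -3, 0], [0, 0, 0, 0, 0, 0, 0, 1]], 31, false⟩,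
  ⟨3, 4, [-1, -1, -2, -3, -2, -1, 0, 1], [], [], [], 72, false⟩,
  ⟨0, 0, [], [], [], [[4, 6, 8, 12, 10, 8, 6, 3]], 33, true⟩,
  ⟨3, 6, [-2, -3, -4, -6, -5, -4, -1, 1], [], [], [], 78, false⟩,
  ⟨0, 0, [], [], [], [[-2, -3, -4, -6, -5, -4, -2, 0]], 61, false⟩,
  ⟨2, 5, [0, -1, -1, -2, -2, -1, 0, 1], [], [], [], 112, false⟩,
  ⟨0, 0, [], [], [], [[-2, -3, -4, -6, -5, -4, -3, -2]], 61, true⟩,
  ⟨2, 7, [-2, -3, -4, -6, -5, -4, -3, 1], [], [], [], 128, false⟩,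
  ⟨0, 0, [], [], [], [], 240, false⟩]

/-- the check -/
noncomputable def cE8_3 (j : ℕ) : Bool :=
  rowT tbE8 8 3 tpE8 (41, 31, 13, 61) 1 (nr tbE8 3 [(74, 72, 126, 126)] [(126, 126, 78, 72)]) (rw0 rwE8 j) (xE8_3.getD j ⟨0, 0, [], [], [], [], 0, false⟩)

theorem cE8_3_0 : aL (fun j => cE8_3 (j + 0)) 26 = true := by decide +kernel

theorem cE8_3_26 : aL (fun j => cE8_3 (j + 26)) 6 = true := by decide +kernel

theorem cE8_3_32 : aL (fun j => cE8_3 (j + 32)) 34 = true := by decide +kernel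

theorem cE8_3_66 : aL (fun j => cE8_3 (j + 66)) 3 = true := by decide +kernel

theorem cE8_3_69 : aL (fun j => cE8_3 (j + 69)) 2 = true := by decide +kernel

theorem cE8_3_71 : aL (fun j => cE8_3 (j + 71)) 2 = true := by decide +kernel

theorem cE8_3_73 : aL (fun j => cE8_3 (j + 73)) 2 = true := by decide +kernel

theorem cE8_3_75 : aL (fun j => cE8_3 (j + 75)) 2 = true := by decide +kernel

theorem allE8_3 : ∀ j < rwE8.length, cE8_3 j = true := fun j (hj : j < 77) => by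
  by_cases h0 : j < 26
  · simpa only [Nat.sub_add_cancel (show 0 ≤ j by omega)] using aL_iff.1 cE8_3_0 (j - 0) (by omega)
  by_cases h26 : j < 32
  · simpa only [Nat.sub_add_cancel (show 26 ≤ j by omega)] using aL_iff.1 cE8_3_26 (j - 26) (by omega)
  by_cases h32 : j < 66
  · simpa only [Nat.sub_add_cancel (show 32 ≤ j by omega)] using aL_iff.1 cE8_3_32 (j - 32) (by omega)
  by_cases h66 : j < 69
  · simpa only [Nat.sub_add_cancel (show 66 ≤ j by omega)] using aL_iff.1 cE8_3_66 (j - 66) (by omega)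
  by_cases h69 : j < 71
  · simpa only [Nat.sub_add_cancel (show 69 ≤ j by omega)] using aL_iff.1 cE8_3_69 (j - 69) (by omega)
  by_cases h71 : j < 73
  · simpa only [Nat.sub_add_cancel (show 71 ≤ j by omega)] using aL_iff.1 cE8_3_71 (j - 71) (by omega)
  by_cases h73 : j < 75
  · simpa only [Nat.sub_add_cancel (show 73 ≤ j by omega)] using aL_iff.1 cE8_3_73 (j - 73) (by omega)
  simpa only [Nat.sub_add_cancel (show 75 ≤ j by omega)] using aL_iff.1 cE8_3_75 (j - 75) (by omega)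

theorem slE8 : sl tbE8 = true := by decide +kernel

theorem tpkE8 : ∀ f ∈ tpE8, f.1 ≠ 0 ∧ f.1 ≤ 30 := by decide

variable {r h : ℕ} [Fact r.Prime]

theorem cnE8_2 {M : CoxeterMatrix (Fin 8)} {hp : IsType chevE8 8 M} {F G : LL 8 →+ ℤ} (S : Si hp r 2 h tpE8 F G) :
    Cn h (33, 41, 13, 63) 1 (Ne0 [(78, 72, 128, 126)] []) (Kl hp r F) (Kl hp 2 G) :=
  cn_of (gsE8 hp) (by decide) (by decide) (by decide) tpkE8 rowE8 (by decide) rfl ne0_of_image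
    (nr_spec (gsE8 hp) slE8) allE8_2 S

theorem cnE8_3 {M : CoxeterMatrix (Fin 8)} {hp : IsType chevE8 8 M} {F G : LL 8 →+ ℤ} (S : Si hp r 3 h tpE8 F G) :
    Cn h (41, 31, 13, 61) 1 (Ne0 [(74, 72, 126, 126)] [(126, 126, 78, 72)]) (Kl hp r F) (Kl hp 3 G) :=
  cn_of (gsE8 hp) (by decide) (by decide) (by decide) tpkE8 rowE8 (by decide) rfl ne0_of_image
    (nr_spec (gsE8 hp) slE8) allE8_3 S

end Cfsg.Agent.N2.Ex.Mu.Lt
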