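import Cfsg.Agent.N2.Ex.Mu.LatD
import Cfsg.Agent.N2.Ex.Al.RwF4
import Cfsg.Agent.N2.Ex.Al.RwE6
import Cfsg.Agent.N2.Ex.Al.RwE7
import Cfsg.Agent.N2.Ex.Al.RwE8

/-!
# N2, multiplicities: data for the pairs and the ranks (helper40, generated data)
-/

set_option autoImplicit false
set_option maxRecDepth 100000

namespace Cfsg.Agent.N2.Ex.Mu.Lt

open Cfsg Cfsg.Lie Cfsg.Agent.Nodes.RGDChev Cfsg.Agent.N2.Ex.Al Cfsg.Agent.N2.Ex.Al.Ck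

/-- dual functionals -/
def yF4 : List (List (List ℤ)) := [[],
  [[1, 0, 0, 0]],
  [[0, 0, 1, 0]],
  [[1, 0, 0, 0], [0, 0, 1, 0]],
  [[-1, 0, 1, 0], [0, 1, 0, 0]],
  [[0, 1, 0, 0], [0, 1, -2, 0]],
  [[1, 0, 0, 0], [0, 1, 0, 0]],
  [[0, 0, 1, 0], [0, 0, 0, 1]],
  [[-2, 1, 0, 0], [0, 1, -2, 0], [0, 1, 0, 0]],
  [[-1, 0, 0, 1], [0, 0, -2, 3], [0, 1, 0, 0]],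
  [[-1, 0, 1, 0], [0, 0, -1, 1], [0, 0, 0, 1]],
  [[0, 1, -2, 0], [1, -1, 0, 0], [1, 0, 0, 0]],
  [[1, 0, 0, 0], [0, 1, 0, 0]],
  [[1, 0, 0, 0], [0, 1, 0, 0], [0, 0, 0, 1]],
  [[1, 0, 0, 0], [0, 0, 1, 0], [0, 0, 0, 1]],
  [[-2, 1, 0, 0], [0, 1, -2, 1], [0, 1, 0, -2], [0, 0, 0, 1]],
  [[-2, 1, 0, 0], [0, 1, 0, -2], [0, 1, -2, 2], [0, 1, -2, 0]],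
  [[0, 1, -2, 1], [1, -1, 0, 1], [-1, 0, 0, 1], [0, 0, 0, 1]],
  [[1, 0, 0, 0], [0, 1, -2, 0], [0, 1, 0, 0]],
  [[-1, 0, 0, 1], [0, 0, -1, 1], [0, 1, 0, 0]],
  [[1, 0, 0, 0], [0, -1, 1, 0], [0, 0, 1, 0]],
  [[0, 1, -2, 0], [0, 0, 0, 1], [0, 1, 0, 0]],
  [[3, 0, -2, 0], [0, -3, 4, 0], [0, 0, 1, -3], [0, 0, 1, 0]],
  [[-1, 0, 0, 1], [0, 1, -2, 1], [0, 1, 0, -2], [0, 0, 0, 1]],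
  [[-2, 1, 0, 0], [0, 1, -2, 0], [0, 1, 0, -2], [0, 0, 0, 1]],
  [[-2, 0, 1, 0], [0, 1, -1, 0], [0, 0, 1, -2], [0, 0, 1, 0]],
  [[-2, 1, 0, 0], [0, 1, -2, 0], [0, 1, 0, -4], [0, 1, 0, 0]],
  [[-1, 0, 0, 1], [0, 1, -2, 0], [0, 1, 0, -2], [0, 0, 0, 1]],
  [[1, 0, 0, 0], [0, 1, 0, 0], [0, 0, 1, 0]],
  [[1, 0, 0, 0], [0, 0, -1, 1], [0, 1, 0, 0]],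
  [[-1, 0, 0, 1], [0, 1, 0, -2], [0, 0, -2, 3], [0, 0, 0, 1]],
  [[-2, 1, 0, 0], [0, 1, -2, 0], [0, 0, 0, 1], [0, 1, 0, 0]],
  [[1, 0, 0, 0], [0, -1, 1, 0], [0, 0, -1, 1], [0, 0, 0, 1]],
  [[0, 1, -2, 0], [0, 0, 0, 1], [-1, 1, 0, 0], [1, 0, 0, 0]],
  [[1, 0, 0, 0], [0, -1, 0, 1], [0, 0, -1, 1], [0, 0, 0, 1]],
  [[1, 0, 0, 0], [0, 1, -2, 0], [0, 0, 0, 1], [0, 1, 0, 0]],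
  [[1, 0, 0, 0], [0, 1, 0, 0], [0, 0, 1, 0], [0, 0, 0, 1]]]

theorem rkkF4 : aL (fun j => rkk tbF4 4 [0, 2, 8, 18, 48] (rw0 rwF4 j) (yF4.getD j [])) 37 = true := by decide +kernel

theorem rkF4 {M : CoxeterMatrix (Fin 4)} {hp : IsType chevF4 4 M} {A : Set (LL 4)} (h1 : Sy hp A) (h2 : Rc hp A) {ρ : ℕ}
    (h9 : ρ < 9) (hρ : rk' A ≤ ρ) : A.ncard ≤ [0, 2, 8, 18, 48].getD ρ 240 :=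
  rk_of (gsF4 hp).toGt rowF4 (by decide) rfl (Y := fun j => yF4.getD j []) (aL_iff.1 rkkF4) h1 h2 h9 hρ

/-- dual functionals -/
def yE6 : List (List (List ℤ)) := [[],
  [[1, 0, 0, 0, 0, 0]],
  [[1, 0, 0, 0, 0, 0], [0, 1, 0, 0, 0, 0]],
  [[1, 0, 0, 0, 0, 0], [0, 0, 1, 0, 0, 0]],
  [[1, 0, 0, 0, 0, 0], [0, 1, 0, 0, 0, 0], [0, 0, 0, 0, 1, 0]],
  [[1, 0, 0, 0, 0, 0], [0, 1, 0, 0, 0, 0], [0, 0, 1, 0, 0, 0]],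
  [[-2, 0, 0, 1, 0, 0], [0, -2, 0, 1, 0, 0], [0, 0, 0, 1, -2, 0], [0, 0, 0, 1, 0, 0]],
  [[1, 0, 0, 0, 0, 0], [0, 1, 0, 0, 0, 0], [0, 0, 1, 0, 0, 0], [0, 0, 0, 0, 1, 0]],
  [[1, 0, 0, 0, 0, 0], [0, 1, 0, 0, 0, 0], [0, 0, 1, 0, 0, 0]],
  [[-1, 0, 0, 0, 0, 1], [0, -1, 0, 0, 0, 1], [0, 0, 1, 0, 0, -2], [0, 0, 0, 1, 0, 0]],
  [[1, 0, 0, 0, 0, 0], [0, -1, 0, 0, 1, 0], [0, 0, -1, 0, 1, 0], [0, 0, 0, 1, 0, 0]],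
  [[1, 0, 0, 0, 0, 0], [0, 1, 0, 0, 0, 0], [0, 0, 1, 0, 0, 0], [0, 0, 0, 0, 1, 0], [0, 0, 0, 0, 0, 1]],
  [[1, 0, 0, 0, 0, 0], [0, -2, 0, 1, 0, 0], [0, 0, -2, 1, 0, 0], [0, 0, 0, 1, -2, 0], [0, 0, 0, 1, 0, 0]],
  [[-3, 0, 0, 1, 0, 0], [0, -3, 0, 1, 0, 0], [0, 0, 3, -2, 0, 0], [0, 0, 0, -2, 3, 0], [0, 0, 0, 1, 0, -3], [0, 0, 0, 1, 0, 0]],
  [[1, 0, 0, 0, 0, 0], [0, 1, 0, 0, 0, 0], [0, 0, 1, 0, 0, 0], [0, 0, 0, 1, 0, 0]],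
  [[1, 0, 0, 0, 0, 0], [0, 1, 0, 0, 0, 0], [0, 0, 1, 0, 0, 0], [0, 0, 0, 1, 0, 0], [0, 0, 0, 0, 0, 1]],
  [[1, 0, 0, 0, 0, 0], [0, 1, 0, 0, 0, 0], [0, 0, 0, 0, 1, 0], [0, 0, 0, 1, 0, 0]],
  [[1, 0, 0, 0, 0, 0], [0, -1, 0, 0, 0, 1], [0, 0, -1, 0, 0, 1], [0, 0, 0, 1, 0, -2], [0, 0, 0, 0, 1, 0]],
  [[1, 0, 0, 0, 0, 0], [0, -2, 0, 0, 1, 0], [0, 0, -2, 0, 1, 0], [0, 0, 0, 1, -1, 0], [0, 0, 0, 0, 1, -2], [0, 0, 0, 0, 1, 0]],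
  [[1, 0, 0, 0, 0, 0], [0, 1, 0, 0, 0, 0], [0, 0, 1, 0, 0, 0], [0, 0, 0, 1, 0, 0], [0, 0, 0, 0, 1, 0]],
  [[1, 0, 0, 0, 0, 0], [0, 1, 0, 0, 0, 0], [0, 0, 1, 0, 0, 0], [0, 0, 0, 1, 0, 0], [0, 0, 0, 0, 1, 0], [0, 0, 0, 0, 0, 1]]]

theorem rkkE6 : aL (fun j => rkk tbE6 6 [0, 2, 6, 12, 24, 40, 72, 126] (rw0 rwE6 j) (yE6.getD j [])) 21 = true := by decide +kernel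

theorem rkE6 {M : CoxeterMatrix (Fin 6)} {hp : IsType chevE6 6 M} {A : Set (LL 6)} (h1 : Sy hp A) (h2 : Rc hp A) {ρ : ℕ}
    (h9 : ρ < 9) (hρ : rk' A ≤ ρ) : A.ncard ≤ [0, 2, 6, 12, 24, 40, 72, 126].getD ρ 240 :=
  rk_of (gsE6 hp).toGt rowE6 (by decide) rfl (Y := fun j => yE6.getD j []) (aL_iff.1 rkkE6) h1 h2 h9 hρ

/-- an orbit -/
def oE6 : List (List ℤ) := [[-4, -3, -5, -6, -4, -2], [-1, -3, -5, -6, -4, -2], [-1, -3, -2, -6, -4, -2], [-1, -3, -2, -3, -4, -2], [-1, -3, -2, -3, -1, -2], [-1, -3, -2, -3, -1, 1], [-1, 0, -2, -3, -4, -2], [-1, 0, -2, -3, -1, -2], [-1, 0, -2, -3, -1, 1], [-1, 0, -2, 0, -1, -2], [-1, 0, -2, 0, -1, 1], [-1, 0, -2, 0, 2, 1], [-1, 0, 1, 0, -1, -2], [-1, 0,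 1, 0, -1, 1], [-1, 0, 1, 0, 2, 1], [-1, 0, 1, 3, 2, 1], [-1, 3, 1, 3, 2, 1], [2, 0, 1, 0, -1, -2], [2, 0, 1, 0, -1, 1], [2, 0, 1, 0, 2, 1], [2, 0, 1, 3, 2, 1], [2, 0, 4, 3, 2, 1], [2, 3, 1, 3, 2, 1], [2, 3, 4, 3, 2, 1], [2, 3, 4, 6, 2, 1], [2, 3, 4, 6, 5, 1]]

theorem eekE6 : eek tbE6 6 rwE6 40 21506867384333859807 5 [2, 3, 4, 6, 5, 4] oE6 = true := by decide +kernel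

theorem eeE6 {M : CoxeterMatrix (Fin 6)} {hp : IsType chevE6 6 M} {r r' : ℕ} (hr : r'.Prime) (h2 : r' ≠ 2)
    {F G : LL 6 →+ ℤ} (h1 : ∀ x, (∀ a ∈ Kl hp r F, cp hp x a = 0) → (r' : ℤ) ∣ G x) (nz : ∃ a ∈ Kl hp r F, ¬ (r' : ℤ) ∣ G a)
    (e : (Kl hp r F).ncard = 40) : (Kl hp r' G).ncard ≠ 40 :=
  ee_of (gsE6 hp).toGt rowE6 (by decide) rfl (i := 5) eekE6 hr h2 h1 nz e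

/-- dual functionals -/
def yE7 : List (List (List ℤ)) := [[],
  [[1, 0, 0, 0, 0, 0, 0]],
  [[1, 0, 0, 0, 0, 0, 0], [0, 1, 0, 0, 0, 0, 0]],
  [[1, 0, 0, 0, 0, 0, 0], [0, 0, 1, 0, 0, 0, 0]],
  [[1, 0, 0, 0, 0, 0, 0], [0, 1, 0, 0, 0, 0, 0], [0, 0, 0, 0, 1, 0, 0]],
  [[-1, 0, 0, 0, 0, 0, 1], [0, 1, 0, 0, 0, 0, -2], [0, 0, 1, 0, 0, 0, 0]],
  [[1, 0, 0, 0, 0, 0, 0], [0, 1, 0, 0, 0, 0, 0], [0, 0, 1, 0, 0, 0, 0]],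
  [[1, 0, 0, 0, 0, 0, 0], [0, 1, 0, 0, 0, 0, 0], [0, 0, 0, 0, 1, 0, 0], [0, 0, 0, 0, 0, 0, 1]],
  [[-2, 0, 0, 1, 0, 0, 0], [0, -2, 0, 1, 0, 0, 0], [0, 0, 0, 1, -2, 0, 0], [0, 0, 0, 1, 0, 0, 0]],
  [[1, 0, 0, 0, 0, 0, 0], [0, 1, 0, 0, 0, 0, 0], [0, 0, 1, 0, 0, 0, 0], [0, 0, 0, 0, 1, 0, 0]],
  [[-2, 0, 1, 0, 0, 0, 0], [0, -2, 1, 0, 0, 0, 0], [0, 0, 1, 0, -2, 0, 0], [0, 0, 1, 0, 0, 0, 0], [0, 0, 0, 0, 0, 0, 1]],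
  [[1, 0, 0, 0, 0, 0, 0], [0, 1, 0, 0, 0, 0, 0], [0, 0, 1, 0, 0, 0, 0]],
  [[-1, 0, 0, 0, 0, 1, 0], [0, -1, 0, 0, 0, 1, 0], [0, 0, 1, 0, 0, -2, 0], [0, 0, 0, 1, 0, 0, 0]],
  [[1, 0, 0, 0, 0, 0, 0], [0, 1, 0, 0, 0, 0, 0], [0, 0, 1, 0, 0, 0, 0], [0, 0, 0, 0, 1, 0, 0], [0, 0, 0, 0, 0, 0, 1]],
  [[-2, 0, 1, 0, 0, 0, 0], [0, -2, 1, 0, 0, 0, 0], [0, 0, 1, 0, -2, 1, 0], [0, 0, -1, 0, 0, 1, 0], [0, 0, 0, 0, 0, 1, -2], [0, 0, 0, 0, 0, 1, 0]],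
  [[1, 0, 0, 0, 0, 0, 0], [0, -1, 0, 0, 1, 0, 0], [0, 0, -1, 0, 1, 0, 0], [0, 0, 0, 1, 0, 0, 0]],
  [[-1, 0, 0, 0, 0, 0, 1], [0, 1, 0, 0, 0, 0, -2], [0, 0, 1, 0, 0, 0, -2], [0, 0, 0, 1, 0, 0, 0]],
  [[1, 0, 0, 0, 0, 0, 0], [0, 1, 0, 0, 0, 0, 0], [0, 0, 1, 0, 0, 0, 0], [0, 0, 0, 0, 1, 0, 0], [0, 0, 0, 0, 0, 1, 0]],
  [[-2, 0, 1, 0, 0, 0, 0], [0, -2, 0, 1, 0, 0, 0], [0, 0, 0, 1, -2, 1, 0], [0, 0, -1, 0, 0, 1, 0], [0, 0, 0, 0, 0, 1, -2], [0, 0, 1, -1, 0, 1, 0], [0, 0, 1, -1, 0, 0, 0]],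
  [[1, 0, 0, 0, 0, 0, 0], [0, -2, 0, 1, 0, 0, 0], [0, 0, -2, 1, 0, 0, 0], [0, 0, 0, 1, -2, 0, 0], [0, 0, 0, 1, 0, 0, 0]],
  [[1, 0, 0, 0, 0, 0, 0], [0, -1, 0, 0, 0, 0, 1], [0, 0, -1, 0, 0, 0, 1], [0, 0, 0, 0, 1, 0, -2], [0, 0, 0, 1, 0, 0, 0]],
  [[-1, 0, 0, 0, 0, 0, 1], [0, -1, 0, 0, 0, 0, 1], [0, 0, 1, 0, 0, 0, -2], [0, 0, 0, 0, 1, 0, -2], [0, 0, 0, 1, 0, 0, 0]],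
  [[-3, 0, 0, 1, 0, 0, 0], [0, -3, 0, 1, 0, 0, 0], [0, 0, 3, -2, 0, 0, 0], [0, 0, 0, -2, 3, 0, 0], [0, 0, 0, 1, 0, -3, 0], [0, 0, 0, 1, 0, 0, 0]],
  [[1, 0, 0, 0, 0, 0, 0], [0, -2, 0, 1, 0, 0, 0], [0, 0, -2, 1, 0, 0, 0], [0, 0, 0, 1, -2, 0, 0], [0, 0, 0, 0, 0, 0, 1], [0, 0, 0, 1, 0, 0, 0]],
  [[1, 0, 0, 0, 0, 0, 0], [0, 1, 0, 0, 0, 0, 0], [0, 0, 1, 0, 0, 0, 0], [0, 0, 0, 1, 0, 0, 0]],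
  [[1, 0, 0, 0, 0, 0, 0], [0, 1, 0, 0, 0, 0, 0], [0, 0, 1, 0, 0, 0, 0], [0, 0, 0, 0, 1, 0, 0], [0, 0, 0, 0, 0, 1, 0], [0, 0, 0, 0, 0, 0, 1]],
  [[1, 0, 0, 0, 0, 0, 0], [0, 1, 0, 0, 0, 0, 0], [0, 0, 1, 0, 0, 0, 0], [0, 0, 0, 1, 0, 0, 0], [0, 0, 0, 0, 0, 1, 0]],
  [[1, 0, 0, 0, 0, 0, 0], [0, 1, 0, 0, 0, 0, 0], [0, 0, 0, 0, 1, 0, 0], [0, 0, 0, 1, 0, 0, 0]],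
  [[-1, 0, 0, 0, 0, 0, 1], [0, 2, 0, -1, 0, 0, 1], [0, 0, -2, 1, 0, 0, 1], [0, 0, 0, 1, -2, 0, 1], [0, 0, 0, 1, 0, 0, -3], [0, 0, 0, 0, 0, 1, 0]],
  [[1, 0, 0, 0, 0, 0, 0], [0, -2, 0, 1, 0, 0, 0], [0, 0, -2, 1, 0, 0, 0], [0, 0, 0, 0, 1, 0, -2], [0, 0, 0, 0, 0, 1, 0]],
  [[1, 0, 0, 0, 0, 0, 0], [0, 1, 0, 0, 0, 0, 0], [0, 0, 1, 0, 0, 0, 0], [0, 0, 0, 1, 0, 0, 0], [0, 0, 0, 0, 0, 1, 0], [0, 0, 0, 0, 0, 0, 1]],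
  [[-4, 0, 0, 1, 0, 0, 0], [0, -2, 0, 1, 0, 0, 0], [0, 0, -2, 1, 0, 0, 0], [0, 0, 0, -3, 4, 0, 0], [0, 0, 0, 1, 0, -2, 0], [0, 0, 0, 1, 0, 0, -4], [0, 0, 0, 1, 0, 0, 0]],
  [[1, 0, 0, 0, 0, 0, 0], [0, -2, 0, 1, 0, 0, 0], [0, 0, -2, 1, 0, 0, 0], [0, 0, 0, 1, -2, 0, 2], [0, 0, 0, 1, 0, 0, -2], [0, 0, 0, 0, 0, 1, 0]],
  [[1, 0, 0, 0, 0, 0, 0], [0, -1, 0, 0, 0, 1, 0], [0, 0, -1, 0, 0, 1, 0], [0, 0, 0, 1, 0, -2, 0], [0, 0, 0, 0, 1, 0, 0]],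
  [[-1, 0, 0, 0, 0, 0, 1], [0, -1, 0, 0, 0, 0, 1], [0, 0, 1, 0, 0, 0, -2], [0, 0, 0, 1, 0, 0, -3], [0, 0, 0, 0, 1, 0, 0]],
  [[1, 0, 0, 0, 0, 0, 0], [0, -2, 0, 1, 0, 0, 0], [0, 0, -2, 1, 0, 0, 0], [0, 0, 0, 1, -2, 1, 0], [0, 0, 0, 0, 0, 1, -2], [0, 0, 0, 1, 0, -1, 0], [0, 0, 0, 0, 0, 1, 0]],
  [[1, 0, 0, 0, 0, 0, 0], [0, -2, 0, 0, 1, 0, 0], [0, 0, -2, 0, 1, 0, 0], [0, 0, 0, 1, -1, 0, 0], [0, 0, 0, 0, 1, -2, 0], [0, 0, 0, 0, 1, 0, 0]],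
  [[-1, 0, 0, 0, 0, 0, 1], [0, -1, 0, 0, 0, 0, 1], [0, 0, 1, 0, 0, 0, -2], [0, 0, 0, 1, 0, 0, -3], [0, 0, 0, 0, 0, 1, -2], [0, 0, 0, 0, 1, 0, 0]],
  [[-3, 0, 0, 0, 1, 0, 0], [0, -3, 0, 0, 1, 0, 0], [0, 0, 3, 0, -2, 0, 0], [0, 0, 0, -1, 1, 0, 0], [0, 0, 0, 0, -2, 3, 0], [0, 0, 0, 0, 1, 0, -3], [0, 0, 0, 0, 1, 0, 0]],
  [[1, 0, 0, 0, 0, 0, 0], [0, 1, 0, 0, 0, 0, 0], [0, 0, 1, 0, 0, 0, 0], [0, 0, 0, 1, 0, 0, 0], [0, 0, 0, 0, 1, 0, 0]],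
  [[1, 0, 0, 0, 0, 0, 0], [0, 1, 0, 0, 0, 0, 0], [0, 0, 1, 0, 0, 0, 0], [0, 0, 0, 1, 0, 0, 0], [0, 0, 0, 0, 1, 0, 0], [0, 0, 0, 0, 0, 0, 1]],
  [[1, 0, 0, 0, 0, 0, 0], [0, -1, 0, 0, 0, 0, 1], [0, 0, -1, 0, 0, 0, 1], [0, 0, 0, 1, 0, 0, -2], [0, 0, 0, 0, 0, -1, 1], [0, 0, 0, 0, 1, 0, 0]],
  [[1, 0, 0, 0, 0, 0, 0], [0, -2, 0, 0, 1, 0, 0], [0, 0, -2, 0, 1, 0, 0], [0, 0, 0, -1, 1, 0, 0], [0, 0, 0, 0, 1, -2, 0], [0, 0, 0, 0, 0, 0, 1], [0, 0, 0, 0, 1, 0, 0]],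
  [[1, 0, 0, 0, 0, 0, 0], [0, -1, 0, 0, 0, 0, 1], [0, 0, -1, 0, 0, 0, 1], [0, 0, 0, 1, 0, 0, -2], [0, 0, 0, 0, 1, 0, -2], [0, 0, 0, 0, 0, 1, 0]],
  [[1, 0, 0, 0, 0, 0, 0], [0, -2, 0, 0, 0, 1, 0], [0, 0, -2, 0, 0, 1, 0], [0, 0, 0, 1, 0, -1, 0], [0, 0, 0, 0, 1, -1, 0], [0, 0, 0, 0, 0, 1, -2], [0, 0, 0, 0, 0, 1, 0]],
  [[1, 0, 0, 0, 0, 0, 0], [0, 1, 0, 0, 0, 0, 0], [0, 0, 1, 0, 0, 0, 0], [0, 0, 0, 1, 0, 0, 0], [0, 0, 0, 0, 1, 0, 0], [0, 0, 0, 0, 0, 1, 0]],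
  [[1, 0, 0, 0, 0, 0, 0], [0, 1, 0, 0, 0, 0, 0], [0, 0, 1, 0, 0, 0, 0], [0, 0, 0, 1, 0, 0, 0], [0, 0, 0, 0, 1, 0, 0], [0, 0, 0, 0, 0, 1, 0], [0, 0, 0, 0, 0, 0, 1]]]

theorem rkkE7 : aL (fun j => rkk tbE7 7 [0, 2, 6, 12, 24, 40, 72, 126] (rw0 rwE7 j) (yE7.getD j [])) 47 = true := by decide +kernel

theorem rkE7 {M : CoxeterMatrix (Fin 7)} {hp : IsType chevE7 7 M} {A : Set (LL 7)} (h1 : Sy hp A) (h2 : Rc hp A) {ρ : ℕ}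
    (h9 : ρ < 9) (hρ : rk' A ≤ ρ) : A.ncard ≤ [0, 2, 6, 12, 24, 40, 72, 126].getD ρ 240 :=
  rk_of (gsE7 hp).toGt rowE7 (by decide) rfl (Y := fun j => yE7.getD j []) (aL_iff.1 rkkE7) h1 h2 h9 hρ

/-- an orbit -/
def oE7 : List (List ℤ) := [[-2, -3, -4, -6, -5, -4, -3], [-2, -3, -4, -6, -5, -4, -1], [-2, -3, -4, -6, -5, -2, -1], [-2, -3, -4, -6, -3, -2, -1], [-2, -3, -4, -4, -3, -2, -1], [-2, -3, -2, -4, -3, -2, -1], [-2, -1, -4, -4, -3, -2, -1], [-2, -1, -2, -4, -3, -2, -1], [-2, -1, -2, -2, -3, -2, -1], [-2, -1, -2, -2, -1, -2, -1], [-2, -1, -2, -2, -1, 0, -1], [-2, -1, -2, -2, -1, 0, 1], [0, -3, -2, -4, -3, -2, -1], [0, -1, -2, -4, -3, -2, -1], [0, -1, -2, -2, -3, -2, -1], [0, -1,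 -2, -2, -1, -2, -1], [0, -1, -2, -2, -1, 0, -1], [0, -1, -2, -2, -1, 0, 1], [0, -1, 0, -2, -3, -2, -1], [0, -1, 0, -2, -1, -2, -1], [0, -1, 0, -2, -1, 0, -1], [0, -1, 0, -2, -1, 0, 1], [0, -1, 0, 0, -1, -2, -1], [0, -1, 0, 0, -1, 0, -1], [0, -1, 0, 0, -1, 0, 1], [0, -1, 0, 0, 1, 0, -1], [0, -1, 0, 0, 1, 0, 1], [0, -1, 0, 0, 1, 2, 1], [0, 1, 0, 0, -1, -2, -1], [0, 1, 0, 0, -1, 0, -1], [0, 1, 0, 0, -1, 0, 1], [0, 1, 0, 0, 1, 0, -1], [0, 1, 0, 0, 1, 0, 1], [0, 1, 0, 0, 1, 2, 1], [0, 1, 0, 2, 1, 0, -1], [0, 1, 0, 2, 1, 0, 1], [0, 1, 0, 2, 1, 2, 1], [0, 1, 0, 2, 3, 2, 1], [0, 1, 2, 2, 1, 0, -1], [0, 1, 2, 2, 1, 0, 1], [0, 1, 2, 2, 1, 2, 1], [0, 1, 2, 2, 3, 2, 1], [0, 1, 2, 4, 3, 2, 1],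 [0, 3, 2, 4, 3, 2, 1], [2, 1, 2, 2, 1, 0, -1], [2, 1, 2, 2, 1, 0, 1], [2, 1, 2, 2, 1, 2, 1], [2, 1, 2, 2, 3, 2, 1], [2, 1, 2, 4, 3, 2, 1], [2, 1, 4, 4, 3, 2, 1], [2, 3, 2, 4, 3, 2, 1], [2, 3, 4, 4, 3, 2, 1], [2, 3, 4, 6, 3, 2, 1], [2, 3, 4, 6, 5, 2, 1], [2, 3, 4, 6, 5, 4, 1]]

theorem eekE7 : eek tbE7 7 rwE7 72 47123232259592422029149144092503999 6 [2, 3, 4, 6, 5, 4, 3] oE7 = true := by decide +kernel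

theorem eeE7 {M : CoxeterMatrix (Fin 7)} {hp : IsType chevE7 7 M} {r r' : ℕ} (hr : r'.Prime) (h2 : r' ≠ 2)
    {F G : LL 7 →+ ℤ} (h1 : ∀ x, (∀ a ∈ Kl hp r F, cp hp x a = 0) → (r' : ℤ) ∣ G x) (nz : ∃ a ∈ Kl hp r F, ¬ (r' : ℤ) ∣ G a)
    (e : (Kl hp r F).ncard = 72) : (Kl hp r' G).ncard ≠ 72 :=
  ee_of (gsE7 hp).toGt rowE7 (by decide) rfl (i := 6) eekE7 hr h2 h1 nz e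

/-- dual functionals -/
def yE8 : List (List (List ℤ)) := [[],
  [[1, 0, 0, 0, 0, 0, 0, 0]],
  [[1, 0, 0, 0, 0, 0, 0, 0], [0, 1, 0, 0, 0, 0, 0, 0]],
  [[1, 0, 0, 0, 0, 0, 0, 0], [0, 0, 1, 0, 0, 0, 0, 0]],
  [[1, 0, 0, 0, 0, 0, 0, 0], [0, 1, 0, 0, 0, 0, 0, 0], [0, 0, 0, 0, 1, 0, 0, 0]],
  [[1, 0, 0, 0, 0, 0, 0, 0], [0, 1, 0, 0, 0, 0, 0, 0], [0, 0, 1, 0, 0, 0, 0, 0]],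
  [[1, 0, 0, 0, 0, 0, 0, 0], [0, 1, 0, 0, 0, 0, 0, 0], [0, 0, 0, 0, 1, 0, 0, 0], [0, 0, 0, 0, 0, 0, 1, 0]],
  [[-2, 0, 0, 1, 0, 0, 0, 0], [0, -2, 0, 1, 0, 0, 0, 0], [0, 0, 0, 1, -2, 0, 0, 0], [0, 0, 0, 1, 0, 0, 0, 0]],
  [[1, 0, 0, 0, 0, 0, 0, 0], [0, 1, 0, 0, 0, 0, 0, 0], [0, 0, 1, 0, 0, 0, 0, 0], [0, 0, 0, 0, 1, 0, 0, 0]],
  [[-2, 0, 0, 1, 0, 0, 0, 0], [0, -2, 0, 1, 0, 0, 0, 0], [0, 0, 0, 1, -2, 0, 0, 0], [0, 0, 0, 0, 0, 0, 1, 0], [0, 0, 1, 0, 0, 0, 0, 0]],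
  [[1, 0, 0, 0, 0, 0, 0, 0], [0, 1, 0, 0, 0, 0, 0, 0], [0, 0, 1, 0, 0, 0, 0, 0]],
  [[-1, 0, 0, 0, 0, 1, 0, 0], [0, -1, 0, 0, 0, 1, 0, 0], [0, 0, 1, 0, 0, -2, 0, 0], [0, 0, 0, 1, 0, 0, 0, 0]],
  [[1, 0, 0, 0, 0, 0, 0, 0], [0, 1, 0, 0, 0, 0, 0, 0], [0, 0, 1, 0, 0, 0, 0, 0], [0, 0, 0, 0, 1, 0, 0, 0], [0, 0, 0, 0, 0, 0, 1, 0]],
  [[-2, 0, 0, 1, 0, 0, 0, 0], [0, -2, 0, 1, 0, 0, 0, 0], [0, 0, 0, 1, -2, 1, 0, 0], [0, 0, 0, 0, 0, 1, -2, 0], [0, 0, 0, 0, 0, 1, 0, 0], [0, 0, -1, 0, 0, 1, 0, 0]],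
  [[1, 0, 0, 0, 0, 0, 0, 0], [0, -1, 0, 0, 1, 0, 0, 0], [0, 0, -1, 0, 1, 0, 0, 0], [0, 0, 0, 1, 0, 0, 0, 0]],
  [[1, 0, 0, 0, 0, 0, 0, 0], [0, 1, 0, 0, 0, 0, 0, 0], [0, 0, 1, 0, 0, 0, 0, 0], [0, 0, 0, 0, 1, 0, 0, 0], [0, 0, 0, 0, 0, 1, 0, 0]],
  [[-1, 0, 0, 0, 0, 0, 0, 1], [0, -2, 0, 0, 0, 0, 0, 3], [0, 0, 1, 0, 0, 0, 0, -2], [0, 0, 0, 0, -2, 0, 0, 5], [0, 0, 0, 0, 0, 0, -2, 3], [0, 0, 0, 0, 0, 1, 0, 0]],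
  [[-2, 0, 1, 0, 0, 0, 0, 0], [0, -2, 0, 1, 0, 0, 0, 0], [0, 0, 0, 1, -2, 1, 0, 0], [0, 0, 0, 0, 0, 1, -2, 0], [0, 0, -1, 1, 0, -1, 0, 0], [0, 0, -1, 0, 0, 1, 0, 0], [0, 0, -1, 1, 0, 0, 0, 0]],
  [[1, 0, 0, 0, 0, 0, 0, 0], [0, -2, 0, 1, 0, 0, 0, 0], [0, 0, -2, 1, 0, 0, 0, 0], [0, 0, 0, 1, -2, 0, 0, 0], [0, 0, 0, 1, 0, 0, 0, 0]],
  [[1, 0, 0, 0, 0, 0, 0, 0], [0, -1, 0, 0, 0, 0, 1, 0], [0, 0, -1, 0, 0, 0, 1, 0], [0, 0, 0, 0, 1, 0, -2, 0], [0, 0, 0, 1, 0, 0, 0, 0]],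
  [[1, 0, 0, 0, 0, 0, 0, 0], [0, 1, 0, 0, 0, 0, 0, 0], [0, 0, 1, 0, 0, 0, 0, 0], [0, 0, 0, 0, 1, 0, 0, 0], [0, 0, 0, 0, 0, 1, 0, 0], [0, 0, 0, 0, 0, 0, 0, 1]],
  [[-2, 0, 1, 0, 0, 0, 0, 0], [0, -2, 0, 1, 0, 0, 0, 0], [0, 0, 0, 1, -2, 1, 0, 0], [0, 0, 0, 0, 0, 1, -2, 1], [0, 0, -1, 1, 0, -1, 0, 1], [0, 0, 1, -1, 0, 0, 0, 1], [0, 0, -1, 0, 0, 1, 0, 0], [0, 0, 0, 0, 0, 0, 0, 1]],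
  [[-1, 0, 0, 0, 0, 0, 1, 0], [0, -1, 0, 0, 0, 0, 1, 0], [0, 0, 1, 0, 0, 0, -2, 0], [0, 0, 0, 0, 1, 0, -2, 0], [0, 0, 0, 1, 0, 0, 0, 0]],
  [[-3, 0, 0, 1, 0, 0, 0, 0], [0, -3, 0, 1, 0, 0, 0, 0], [0, 0, 3, -2, 0, 0, 0, 0], [0, 0, 0, -2, 3, 0, 0, 0], [0, 0, 0, 1, 0, -3, 0, 0], [0, 0, 0, 1, 0, 0, 0, 0]],
  [[1, 0, 0, 0, 0, 0, 0, 0], [0, -2, 0, 1, 0, 0, 0, 0], [0, 0, -2, 1, 0, 0, 0, 0], [0, 0, 0, 1, -2, 0, 0, 0], [0, 0, 0, 0, 0, 0, 1, 0], [0, 0, 0, 1, 0, 0, 0, 0]],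
  [[1, 0, 0, 0, 0, 0, 0, 0], [0, 1, 0, 0, 0, 0, 0, 0], [0, 0, 1, 0, 0, 0, 0, 0], [0, 0, 0, 1, 0, 0, 0, 0]],
  [[1, 0, 0, 0, 0, 0, 0, 0], [0, 1, 0, 0, 0, 0, 0, 0], [0, 0, 1, 0, 0, 0, 0, 0], [0, 0, 0, 0, 1, 0, 0, 0], [0, 0, 0, 0, 0, 1, 0, 0], [0, 0, 0, 0, 0, 0, 1, 0]],
  [[-3, 0, 0, 1, 0, 0, 0, 0], [0, -3, 0, 1, 0, 0, 0, 0], [0, 0, 3, -2, 0, 0, 0, 0], [0, 0, 0, -2, 3, 0, 0, 0], [0, 0, 0, 1, 0, -3, 0, 0], [0, 0, 0, 0, 0, 0, 0, 1], [0, 0, 0, 1, 0, 0, 0, 0]],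
  [[-1, 0, 0, 0, 0, 0, 0, 1], [0, -2, 0, 1, 0, 0, 0, 0], [0, 0, -2, 1, 0, 0, 0, 1], [0, 0, 0, 1, -2, 0, 0, 2], [0, 0, 0, 0, 0, 0, -2, 3], [0, 0, 0, 1, 0, 0, 0, -3], [0, 0, 0, 0, 0, 1, 0, 0]],
  [[1, 0, 0, 0, 0, 0, 0, 0], [0, 1, 0, 0, 0, 0, 0, 0], [0, 0, 1, 0, 0, 0, 0, 0], [0, 0, 0, 1, 0, 0, 0, 0], [0, 0, 0, 0, 0, 1, 0, 0]],
  [[-1, 0, 0, 0, 0, 0, 0, 1], [0, -2, 0, 0, 0, 0, 0, 3], [0, 0, 1, 0, 0, 0, 0, -2], [0, 0, 0, 0, -2, 0, 0, 5], [0, 0, 0, 0, 0, 1, 0, -2], [0, 0, 0, 0, 0, 0, -2, 3], [0, 0, 0, 1, 0, 0, 0, 0]],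
  [[1, 0, 0, 0, 0, 0, 0, 0], [0, 1, 0, 0, 0, 0, 0, 0], [0, 0, 0, 0, 1, 0, 0, 0], [0, 0, 0, 1, 0, 0, 0, 0]],
  [[1, 0, 0, 0, 0, 0, 0, 0], [0, 1, 0, 0, 0, 0, 0, 0], [0, 0, 1, 0, 0, 0, 0, 0], [0, 0, 0, 1, 0, 0, 0, 0], [0, 0, 0, 0, 0, 1, 0, 0], [0, 0, 0, 0, 0, 0, 0, 1]],
  [[-1, 0, 0, 0, 0, 0, 1, 0], [0, 2, 0, -1, 0, 0, 1, 0], [0, 0, -2, 1, 0, 0, 1, 0], [0, 0, 0, 1, -2, 0, 1, 0], [0, 0, 0, 0, 0, 1, 0, 0], [0, 0, 0, 1, 0, 0, -3, 0]],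
  [[-1, 0, 0, 0, 0, 0, 0, 1], [0, -1, 0, 0, 0, 0, 1, 0], [0, 0, -1, 1, 0, 0, -1, 0], [0, 0, 0, 0, 1, 0, -2, 0], [0, 0, 0, 0, 0, 0, 0, 1], [0, 0, 0, 0, 0, 0, -1, 1]],
  [[-3, 0, 0, 1, 0, 0, 0, 0], [0, -3, 0, 1, 0, 0, 1, 0], [0, 0, -3, 2, 0, 0, 0, 0], [0, 0, 0, -2, 3, 0, -1, 0], [0, 0, 0, 1, 0, -3, 2, 0], [0, 0, 0, 0, 0, 0, 1, -3], [0, 0, 0, 0, 0, 0, 1, 0], [0, 0, 0, 1, 0, 0, -2, 0]],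
  [[1, 0, 0, 0, 0, 0, 0, 0], [0, -2, 0, 1, 0, 0, 0, 0], [0, 0, -2, 1, 0, 0, 0, 0], [0, 0, 0, 0, 1, 0, -2, 0], [0, 0, 0, 0, 0, 1, 0, 0]],
  [[1, 0, 0, 0, 0, 0, 0, 0], [0, 1, 0, 0, 0, 0, 0, 0], [0, 0, 1, 0, 0, 0, 0, 0], [0, 0, 0, 1, 0, 0, 0, 0], [0, 0, 0, 0, 0, 1, 0, 0], [0, 0, 0, 0, 0, 0, 1, 0]],
  [[-4, 0, 0, 1, 0, 0, 0, 0], [0, -2, 0, 1, 0, 0, 0, 0], [0, 0, -2, 1, 0, 0, 0, 0], [0, 0, 0, -3, 4, 0, 0, 0], [0, 0, 0, 1, 0, -2, 0, 0], [0, 0, 0, 1, 0, 0, -4, 0], [0, 0, 0, 1, 0, 0, 0, 0]],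
  [[1, 0, 0, 0, 0, 0, 0, 0], [0, -2, 0, 1, 0, 0, 0, 0], [0, 0, -2, 1, 0, 0, 0, 0], [0, 0, 0, 1, -2, 0, 2, 0], [0, 0, 0, 1, 0, 0, -2, 0], [0, 0, 0, 0, 0, 1, 0, 0]],
  [[-1, 0, 0, 0, 0, 0, 0, 1], [0, -1, 0, 0, 1, 0, 0, -1], [0, 0, 1, 0, 0, 0, 0, -2], [0, 0, 0, 1, 0, 0, 0, -3], [0, 0, 0, 0, 0, 1, 0, -2], [0, 0, 0, 0, -1, 0, 1, 1], [0, 0, 0, 0, 1, 0, 0, 0]],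
  [[-4, 0, 0, 1, 0, 0, 0, 1], [0, -2, 0, 1, 0, 0, 0, 0], [0, 0, -2, 1, 0, 0, 0, 1], [0, 0, 0, 3, -4, 0, 0, 1], [0, 0, 0, 1, 0, -2, 0, 1], [0, 0, 0, 1, 0, 0, -4, 3], [0, 0, 0, 1, 0, 0, 0, -3], [0, 0, 0, 0, 0, 0, 0, 1]],
  [[1, 0, 0, 0, 0, 0, 0, 0], [0, -1, 0, 0, 0, 1, 0, 0], [0, 0, -1, 0, 0, 1, 0, 0], [0, 0, 0, 1, 0, -2, 0, 0], [0, 0, 0, 0, 1, 0, 0, 0]],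
  [[-1, 0, 0, 0, 0, 0, 0, 1], [0, -1, 0, 0, 0, 0, 0, 1], [0, 0, 1, 0, 0, 0, 0, -2], [0, 0, 0, 0, 1, 0, 0, -2], [0, 0, 0, 0, 0, 0, -1, 1], [0, 0, 0, 0, 0, 1, 0, 0]],
  [[1, 0, 0, 0, 0, 0, 0, 0], [0, -2, 0, 1, 0, 0, 0, 0], [0, 0, -2, 1, 0, 0, 0, 0], [0, 0, 0, 1, -2, 1, 0, 0], [0, 0, 0, 0, 0, 1, -2, 0], [0, 0, 0, 1, 0, -1, 0, 0], [0, 0, 0, 0, 0, 1, 0, 0]],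
  [[1, 0, 0, 0, 0, 0, 0, 0], [0, -2, 0, 0, 1, 0, 0, 0], [0, 0, -2, 0, 1, 0, 0, 0], [0, 0, 0, 1, -1, 0, 0, 0], [0, 0, 0, 0, 1, -2, 0, 0], [0, 0, 0, 0, 1, 0, 0, 0]],
  [[1, 0, 0, 0, 0, 0, 0, 0], [0, -1, 0, 0, 0, 0, 0, 1], [0, 0, -1, 0, 0, 0, 0, 1], [0, 0, 0, 1, 0, 0, 0, -2], [0, 0, 0, 0, 0, 1, 0, -2], [0, 0, 0, 0, 1, 0, 0, 0]],
  [[1, 0, 0, 0, 0, 0, 0, 0], [0, 1, 0, 0, 0, 0, 0, 0], [0, 0, 1, 0, 0, 0, 0, 0], [0, 0, 0, 1, 0, 0, 0, 0], [0, 0, 0, 0, 0, 1, 0, 0], [0, 0, 0, 0, 0, 0, 1, 0], [0, 0, 0, 0, 0, 0, 0, 1]],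
  [[-1, 0, 0, 0, 0, 0, 0, 1], [0, -2, 0, 1, 0, 0, 0, 0], [0, 0, -2, 1, 0, 0, 0, 1], [0, 0, 0, 1, -2, 1, 0, 0], [0, 0, 0, 0, 0, 1, -2, 1], [0, 0, 0, -1, 0, 1, 0, 1], [0, 0, 0, 0, 0, 1, 0, -2], [0, 0, 0, 0, 0, 0, 0, 1]],
  [[1, 0, 0, 0, 0, 0, 0, 0], [0, -2, 0, 0, 1, 0, 0, 0], [0, 0, -2, 0, 1, 0, 0, 0], [0, 0, 0, -1, 1, 0, 0, 0], [0, 0, 0, 0, 1, -2, 0, 0], [0, 0, 0, 0, 0, 0, 0, 1], [0, 0, 0, 0, 1, 0, 0, 0]],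
  [[-3, 0, 0, 0, 1, 0, 0, 0], [0, -3, 0, 0, 1, 0, 0, 0], [0, 0, 3, 0, -2, 0, 0, 0], [0, 0, 0, -1, 1, 0, 0, 0], [0, 0, 0, 0, -2, 3, 0, 0], [0, 0, 0, 0, 1, 0, -3, 0], [0, 0, 0, 0, 1, 0, 0, 0]],
  [[-1, 0, 0, 0, 0, 0, 0, 1], [0, 2, 0, -1, 0, 0, 0, 1], [0, 0, -2, 1, 0, 0, 0, 1], [0, 0, 0, 1, -2, 0, 0, 1], [0, 0, 0, 0, 0, 0, -1, 1], [0, 0, 0, 1, 0, 0, 0, -3], [0, 0, 0, 0, 0, 1, 0, 0]],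
  [[-6, 0, 0, 0, 2, 0, 0, 1], [0, -3, 0, 0, 1, 0, 0, 2], [0, 0, -3, 0, 2, 0, 0, 1], [0, 0, 0, -2, 2, 0, 0, 1], [0, 0, 0, 0, 2, -3, 0, 1], [0, 0, 0, 0, 1, 0, -3, 2], [0, 0, 0, 0, -2, 0, 0, 5], [0, 0, 0, 0, 0, 0, 0, 1]],
  [[1, 0, 0, 0, 0, 0, 0, 0], [0, 1, 0, 0, 0, 0, 0, 0], [0, 0, 1, 0, 0, 0, 0, 0], [0, 0, 0, 1, 0, 0, 0, 0], [0, 0, 0, 0, 1, 0, 0, 0]],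
  [[5, 0, 0, 0, -2, 0, 0, 0], [0, -5, 0, 0, 3, 0, 0, 0], [0, 0, 5, 0, -4, 0, 0, 0], [0, 0, 0, -5, 6, 0, 0, 0], [0, 0, 0, 0, 3, -5, 0, 0], [0, 0, 0, 0, -2, 0, 5, 0], [0, 0, 0, 0, 1, 0, 0, -5], [0, 0, 0, 0, 1, 0, 0, 0]],
  [[1, 0, 0, 0, 0, 0, 0, 0], [0, 1, 0, 0, 0, 0, 0, 0], [0, 0, 1, 0, 0, 0, 0, 0], [0, 0, 0, 1, 0, 0, 0, 0], [0, 0, 0, 0, 1, 0, 0, 0], [0, 0, 0, 0, 0, 0, 1, 0]],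
  [[1, 0, 0, 0, 0, 0, 0, 0], [0, -1, 0, 0, 0, 0, 1, 0], [0, 0, -1, 0, 0, 0, 1, 0], [0, 0, 0, 1, 0, 0, -2, 0], [0, 0, 0, 0, 0, -1, 1, 0], [0, 0, 0, 0, 1, 0, 0, 0]],
  [[-1, 0, 0, 0, 0, 0, 0, 1], [0, -2, 0, 0, 0, 0, 0, 3], [0, 0, 1, 0, 0, 0, 0, -2], [0, 0, 0, 1, 0, 0, 0, -3], [0, 0, 0, 0, -2, 0, 0, 5], [0, 0, 0, 0, 0, 0, -2, 3], [0, 0, 0, 0, 0, 1, 0, 0]],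
  [[-1, 0, 0, 0, 0, 0, 1, 0], [0, -1, 0, 0, 0, 0, 1, 0], [0, 0, 1, 0, 0, 0, -2, 0], [0, 0, 0, 1, 0, 0, -3, 0], [0, 0, 0, 0, 0, 1, -2, 0], [0, 0, 0, 0, 0, 0, 0, 1], [0, 0, 0, 0, 0, 0, 1, 0]],
  [[1, 0, 0, 0, 0, 0, 0, 0], [0, 1, 0, 0, 0, 0, 0, 0], [0, 0, 1, 0, 0, 0, 0, 0], [0, 0, 0, 1, 0, 0, 0, 0], [0, 0, 0, 0, 1, 0, 0, 0], [0, 0, 0, 0, 0, 0, 1, 0], [0, 0, 0, 0, 0, 0, 0, 1]],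
  [[-1, 0, 0, 0, 0, 0, 0, 1], [0, 2, 0, -1, 0, 0, 0, 1], [0, 0, -2, 1, 0, 0, 0, 1], [0, 0, 0, -1, 2, -1, 0, 1], [0, 0, 0, 0, 0, 1, -2, 0], [0, 0, 0, -1, 0, 1, 0, 1], [0, 0, 0, 0, 0, 1, 0, -2], [0, 0, 0, 0, 0, 0, 0, 1]],
  [[-2, 0, 0, 0, 0, 1, 0, 0], [0, 4, 0, 0, 0, -3, 0, 0], [0, 0, -1, 0, 0, 1, 0, 0], [0, 0, 0, -2, 0, 3, 0, 0], [0, 0, 0, 0, -4, 5, 0, 0], [0, 0, 0, 0, 0, 1, -2, 0], [0, 0, 0, 0, 0, 1, 0, -4], [0, 0, 0, 0, 0, 1, 0, 0]],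
  [[1, 0, 0, 0, 0, 0, 0, 0], [0, -2, 0, 0, 1, 0, 0, 0], [0, 0, -2, 0, 1, 0, 0, 0], [0, 0, 0, -1, 1, 0, 0, 0], [0, 0, 0, 0, 1, -2, 0, 0], [0, 0, 0, 0, 0, 0, 1, 0], [0, 0, 0, 0, 1, 0, 0, 0]],
  [[1, 0, 0, 0, 0, 0, 0, 0], [0, -1, 0, 0, 0, 0, 0, 1], [0, 0, -1, 0, 0, 0, 0, 1], [0, 0, 0, 1, 0, 0, 0, -2], [0, 0, 0, 0, 0, -1, 0, 1], [0, 0, 0, 0, 0, 0, -1, 1], [0, 0, 0, 0, 1, 0, 0, 0]],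
  [[-1, 0, 0, 0, 0, 0, 0, 1], [0, -4, 0, 0, 2, 0, 0, 1], [0, 0, 4, 0, -2, 0, 0, -3], [0, 0, 0, -2, 2, 0, 0, 1], [0, 0, 0, 0, -2, 4, 0, -3], [0, 0, 0, 0, 0, 0, -2, 3], [0, 0, 0, 0, -2, 0, 0, 5], [0, 0, 0, 0, 0, 0, 0, 1]],
  [[1, 0, 0, 0, 0, 0, 0, 0], [0, -1, 0, 0, 0, 0, 1, 0], [0, 0, -1, 0, 0, 0, 1, 0], [0, 0, 0, 1, 0, 0, -2, 0], [0, 0, 0, 0, 1, 0, -2, 0], [0, 0, 0, 0, 0, 1, 0, 0]],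
  [[1, 0, 0, 0, 0, 0, 0, 0], [0, -2, 0, 0, 0, 1, 0, 0], [0, 0, -2, 0, 0, 1, 0, 0], [0, 0, 0, 1, 0, -1, 0, 0], [0, 0, 0, 0, 1, -1, 0, 0], [0, 0, 0, 0, 0, 1, -2, 0], [0, 0, 0, 0, 0, 1, 0, 0]],
  [[-1, 0, 0, 0, 0, 0, 0, 1], [0, -2, 0, 0, 0, 1, 0, 1], [0, 0, -2, 0, 0, 1, 0, 2], [0, 0, 0, -1, 0, 1, 0, 1], [0, 0, 0, 0, -2, 2, 0, 1], [0, 0, 0, 0, 0, 1, -2, 1], [0, 0, 0, 0, 0, 1, 0, -2], [0, 0, 0, 0, 0, 0, 0, 1]],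
  [[1, 0, 0, 0, 0, 0, 0, 0], [0, 1, 0, 0, 0, 0, 0, 0], [0, 0, 1, 0, 0, 0, 0, 0], [0, 0, 0, 1, 0, 0, 0, 0], [0, 0, 0, 0, 1, 0, 0, 0], [0, 0, 0, 0, 0, 1, 0, 0]],
  [[-3, 0, 0, 0, 1, 0, 0, 0], [0, -3, 0, 0, 1, 0, 0, 0], [0, 0, 3, 0, -2, 0, 0, 0], [0, 0, 0, 1, -1, 0, 0, 0], [0, 0, 0, 0, -2, 3, 0, 0], [0, 0, 0, 0, 1, 0, -3, 0], [0, 0, 0, 0, 0, 0, 0, 1], [0, 0, 0, 0, 1, 0, 0, 0]],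
  [[1, 0, 0, 0, 0, 0, 0, 0], [0, 1, 0, 0, 0, 0, 0, 0], [0, 0, 1, 0, 0, 0, 0, 0], [0, 0, 0, 1, 0, 0, 0, 0], [0, 0, 0, 0, 1, 0, 0, 0], [0, 0, 0, 0, 0, 1, 0, 0], [0, 0, 0, 0, 0, 0, 0, 1]],
  [[3, 0, 0, 0, 0, 0, -2, 0], [0, 1, 0, 0, 0, 0, -1, 0], [0, 0, -3, 0, 0, 0, 4, 0], [0, 0, 0, 1, 0, 0, -2, 0], [0, 0, 0, 0, 3, 0, -5, 0], [0, 0, 0, 0, 0, -3, 4, 0], [0, 0, 0, 0, 0, 0, 1, -3], [0, 0, 0, 0, 0, 0, 1, 0]],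
  [[1, 0, 0, 0, 0, 0, 0, 0], [0, -1, 0, 0, 0, 0, 0, 1], [0, 0, -1, 0, 0, 0, 0, 1], [0, 0, 0, 1, 0, 0, 0, -2], [0, 0, 0, 0, 1, 0, 0, -2], [0, 0, 0, 0, 0, 0, -1, 1], [0, 0, 0, 0, 0, 1, 0, 0]],
  [[1, 0, 0, 0, 0, 0, 0, 0], [0, -2, 0, 0, 0, 1, 0, 0], [0, 0, -2, 0, 0, 1, 0, 0], [0, 0, 0, -1, 0, 1, 0, 0], [0, 0, 0, 0, -1, 1, 0, 0], [0, 0, 0, 0, 0, 1, -2, 0], [0, 0, 0, 0, 0, 0, 0, 1], [0, 0, 0, 0, 0, 1, 0, 0]],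
  [[1, 0, 0, 0, 0, 0, 0, 0], [0, 1, 0, 0, 0, 0, 0, 0], [0, 0, 1, 0, 0, 0, 0, 0], [0, 0, 0, 1, 0, 0, 0, 0], [0, 0, 0, 0, 1, 0, 0, 0], [0, 0, 0, 0, 0, 1, 0, 0], [0, 0, 0, 0, 0, 0, 1, 0]],
  [[-1, 0, 0, 0, 0, 0, 0, 1], [0, -2, 0, 0, 0, 0, 0, 3], [0, 0, 1, 0, 0, 0, 0, -2], [0, 0, 0, 1, 0, 0, 0, -3], [0, 0, 0, 0, -2, 0, 0, 5], [0, 0, 0, 0, 0, 1, 0, -2], [0, 0, 0, 0, 0, 0, -2, 3], [0, 0, 0, 0, 0, 0, 0, 1]],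
  [[1, 0, 0, 0, 0, 0, 0, 0], [0, 1, 0, 0, 0, 0, 0, 0], [0, 0, 1, 0, 0, 0, 0, 0], [0, 0, 0, 1, 0, 0, 0, 0], [0, 0, 0, 0, 1, 0, 0, 0], [0, 0, 0, 0, 0, 1, 0, 0], [0, 0, 0, 0, 0, 0, 1, 0], [0, 0, 0, 0, 0, 0, 0, 1]]]

theorem rkkE8 : aL (fun j => rkk tbE8 8 [0, 2, 6, 12, 24, 40, 72, 126] (rw0 rwE8 j) (yE8.getD j [])) 77 = true := by decide +kernel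

theorem rkE8 {M : CoxeterMatrix (Fin 8)} {hp : IsType chevE8 8 M} {A : Set (LL 8)} (h1 : Sy hp A) (h2 : Rc hp A) {ρ : ℕ}
    (h9 : ρ < 9) (hρ : rk' A ≤ ρ) : A.ncard ≤ [0, 2, 6, 12, 24, 40, 72, 126].getD ρ 240 :=
  rk_of (gsE8 hp).toGt rowE8 (by decide) rfl (Y := fun j => yE8.getD j []) (aL_iff.1 rkkE8) h1 h2 h9 hρ

end Cfsg.Agent.N2.Ex.Mu.Lt
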