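import Cfsg.Agent.N2.Ex.Mu.LatF4
import Cfsg.Agent.N2.Ex.Mu.LatE6
import Cfsg.Agent.N2.Ex.Mu.LatE7
import Cfsg.Agent.N2.Ex.Mu.LatE8
import Cfsg.Agent.N2.Ex.Mu.LatG

/-!
# N2, multiplicities: the lattice statements in the algebraic group (helper40)

`tY` : the table for `s` of odd prime order, `t` of order `2` or `3`; `eeY` : two elements of the distinguished class;
`rdY`, `rkY` : ranks.
-/

set_option autoImplicit false
set_option linter.unusedSectionVars false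

namespace Cfsg.Agent.N2.Ex.Mu.Lt

open CoxeterSystem Cfsg Cfsg.Lie Cfsg.Lie.ChevalleyDatum
open Cfsg.Agent.ChevalleyStructure Cfsg.Agent.ChevalleyStructure.CoxeterGeom Cfsg.Agent.ChevalleyStructure.CoxeterGeomTypes
  Cfsg.Agent.Tits.Roots Cfsg.Agent.Nodes Cfsg.Agent.Nodes.RGDChev Cfsg.Agent.Nodes.Coroot
open Cfsg.Agent.KFacts.RgdChevCoord Cfsg.Agent.H469.Exc Cfsg.Agent.H316.U6 Cfsg.Agent.H129.TorusChar
open Cfsg.Agent.DS.Ex Cfsg.Agent.DS.Nt Cfsg.Agent.H931.KC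
open Cfsg.Agent.DS.Ex.Tor (RT)
open Cfsg.Agent.N2.Ex.Al Cfsg.Agent.N2.Ex.Al.Ck Cfsg.Agent.N2.Ex.Cb

variable {D : ChevalleyDatum} {l : ℕ} {M : CoxeterMatrix (Fin l)} (hp : IsType D l M) {p : ℕ} [Fact p.Prime]
  {s t : YY D p}

theorem mem_ps (ht : t ∈ TT D (KK p)) {a : LL l} : a ∈ Ps hp p {t} ↔ RT hp a ∧ cX hp t a = 1 := by
  rw [mem_Ps (Set.singleton_subset_iff.2 ht)]
  simp only [Set.mem_singleton_iff, forall_eq]

theorem exists_F (ht : t ∈ TT D (KK p)) {r : ℕ} (hr : r.Prime) (hrp : r ≠ p) (h : t ^ r = 1) :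
    ∃ (ζ : KK p) (F : LL l →+ ℤ), IsPrimitiveRoot ζ r ∧ (∀ x, cX hp t x = ζ ^ F x) ∧
      (∀ x, cX hp t x = 1 ↔ (r : ℤ) ∣ F x) ∧ Ps hp p {t} = Kl hp r F := by
  obtain ⟨ζ, hζ⟩ := exists_prim (p := p) hr hrp
  obtain ⟨F, hF⟩ := exists_exp hp hr.pos hζ ht h
  have k : ∀ x, cX hp t x = 1 ↔ (r : ℤ) ∣ F x := fun x => by rw [hF, hζ.zpow_eq_one_iff_dvd]
  exact ⟨ζ, F, hζ, hF, k, Set.ext fun a => (mem_ps hp ht).trans (and_congr_right' (k a))⟩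

theorem dd_eq (ht : t ∈ TT D (KK p)) : dd p t = l + (Ps hp p {t}).ncard := by
  classical
  rw [dd_tor hp ht, ← Set.ncard_coe_finset, ← Set.InjOn.ncard_image (f := fun s : Fin D.nroots => vec D l s)
    fun a _ b _ e => Fin.ext (vec_inj hp a.2 b.2 e)]
  refine congrArg (l + Set.ncard ·) (Set.ext fun a => ?_)
  rw [mem_ps hp ht]
  constructor
  · rintro ⟨b, hb, rfl⟩
    exact ⟨isRoot_vec hp _ b.2, (Finset.mem_filter.1 hb).2⟩
  · rintro ⟨h1, h2⟩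
    obtain ⟨b, hb, rfl⟩ := (isRoot_iff hp M.toCoxeterSystem a).1 h1
    exact ⟨⟨b, hb⟩, Finset.mem_filter.2 ⟨Finset.mem_univ _, h2⟩, rfl⟩

theorem ps_mul (hs : s ∈ TT D (KK p)) (ht : t ∈ TT D (KK p)) {m n : ℕ} (h : m.Coprime n) (h1 : s ^ m = 1) (h2 : t ^ n = 1) :
    Ps hp p {s * t} = Ps hp p {s} ∩ Ps hp p {t} := by
  ext a
  rw [Set.mem_inter_iff, mem_ps hp hs, mem_ps hp ht, mem_ps hp (mul_mem hs ht), cX_mul hp hs ht, ← and_and_left]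
  refine and_congr_right' ⟨fun k => ?_, fun k => by rw [k.1, k.2, mul_one]⟩
  have a1 : cX hp s a ^ m = 1 := by rw [← cX_pow hp hs, h1, cX_one]
  have a2 : cX hp t a ^ n = 1 := by rw [← cX_pow hp ht, h2, cX_one]
  have a3 : cX hp s a ^ n = 1 := by simpa only [mul_pow, a2, mul_one, one_pow] using congrArg (· ^ n) k
  have a4 : cX hp s a = 1 := by rw [← pow_one (cX hp s a), ← h.gcd_eq_one, pow_gcd_eq_one]; exact ⟨a1, a3⟩
  exact ⟨a4, by rwa [a4, one_mul] at k⟩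

theorem dd_mul (hs : s ∈ TT D (KK p)) (ht : t ∈ TT D (KK p)) {m n : ℕ} (h : m.Coprime n) (h1 : s ^ m = 1) (h2 : t ^ n = 1) :
    dd p (s * t) = l + (Ps hp p {s} ∩ Ps hp p {t}).ncard := by
  rw [dd_eq hp (mul_mem hs ht), ps_mul hp hs ht h h1 h2]

variable {r : ℕ} [Fact r.Prime] {N : ℕ}

theorem si_of (hs : s ∈ TT D (KK p)) (ht : t ∈ TT D (KK p)) (hsr : orderOf s = r) (h2 : r ≠ 2) (hrp : r ≠ p) (hN : N.Prime)
    (hNp : N ≠ p) (htN : t ^ N = 1) (hrN : r ≠ N) (h1 : ∀ x, (∀ a ∈ Ps hp p {s}, cp hp x a = 0) → cX hp t x = 1)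
    (nz : ∃ a ∈ Ps hp p {s}, cX hp t a ≠ 1) {tp : List (ℕ × ℕ)} (htp : ∃ f ∈ tp, hm hp s r ∣ f.1 ∧ dd p s = l + f.2) :
    ∃ F G, Si hp r N (hm hp s r) tp F G ∧ Ps hp p {s} = Kl hp r F ∧ Ps hp p {t} = Kl hp N G := by
  have hr : r.Prime := Fact.out
  have hs' : s ^ r = 1 := hsr ▸ pow_orderOf_eq_one s
  obtain ⟨ζ, F, a1, a2, -, a4⟩ := exists_F hp hs hr hrp hs'
  obtain ⟨-, G, -, -, b3, b4⟩ := exists_F hp ht hN hNp htN
  obtain ⟨k, hk⟩ := IsCyclic.exists_ofOrder_eq_natCard (α := HH hp s r)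
  obtain ⟨a, c1, c2⟩ := k.2
  obtain ⟨u, c3, c4⟩ := c2 1 (by simpa using hs)
  simp only [one_mul, inv_one, mul_one] at c4
  refine ⟨F, G, ⟨h2, hrN, fun x hx => (b3 x).1 (h1 x (a4 ▸ hx)), ?_, two_dvd_hm hs' h2, hm_dvd,
    ⟨u, (k : (ZMod r)ˣ), c3, Units.ne_zero _, by rw [orderOf_units, Subgroup.orderOf_coe, hk]; rfl, fun b => ?_⟩, ?_⟩, a4, b4⟩
  · simpa only [a4, Ne, b3] using nz
  · have h5 := c4 b
    have h0 := a1.ne_zero hr.ne_zero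
    rw [a2, a2, ← zpow_natCast, ← zpow_mul] at h5
    rw [← c1, ← Int.cast_natCast, ← Int.cast_mul, eq_comm, ZMod.intCast_eq_intCast_iff_dvd_sub, ← a1.zpow_eq_one_iff_dvd,
      zpow_sub₀ h0, h5, mul_comm, div_self (zpow_ne_zero _ h0)]
  · simpa only [dd_eq hp hs, a4, add_right_inj] using htp

/-- the strict bounds for `4 ∣ h`, `6 ∣ h`, `h` big, any `h` -/
def bT (l N : ℕ) : ℕ × ℕ × ℕ × ℕ :=
  if N = 2 then (if l = 8 then (33, 41, 13, 63) else if l = 7 then (13, 21, 3, 31) else if l = 6 then (5, 9, 0, 15) else (5, 3, 0, 11))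
  else (if l = 8 then (41, 31, 13, 61) else if l = 7 then (25, 13, 5, 31) else if l = 6 then (7, 13, 1, 15) else (3, 1, 0, 9))

/-- the distinguished size -/
def eT (l : ℕ) : ℕ := if l = 7 then 72 else if l = 6 then 40 else 1

/-- the exceptional sizes, `th` of the first set is contained in the second set -/
def xT (l N : ℕ) : List (ℕ × ℕ × ℕ × ℕ) :=
  if N = 2 then (if l = 8 then [(78, 72, 128, 126)] else if l = 7 then [(36, 30, 62, 60), (42, 40, 72, 72)] else [])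
  else (if l = 8 then [(74, 72, 126, 126)] else if l = 7 then [(42, 40, 60, 60)] else if l = 6 then [(22, 20, 30, 30)] else [])

/-- the exceptional sizes, `th` of the second set is contained in the first set -/
def xT' (l N : ℕ) : List (ℕ × ℕ × ℕ × ℕ) :=
  if N = 2 then []
  else (if l = 8 then [(126, 126, 78, 72)] else if l = 7 then [(60, 60, 42, 40)] else if l = 6 then [(30, 30, 22, 20)] else [])

/-- **the table** -/
theorem tY (hD : Typ D) (hs : s ∈ TT D (KK p)) (ht : t ∈ TT D (KK p)) (hsr : orderOf s = r) (h2 : r ≠ 2) (hrp : r ≠ p)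
    (hN : N = 2 ∨ N = 3) (hNp : N ≠ p) (htN : t ^ N = 1) (hrN : r ≠ N)
    (h1 : ∀ x, (∀ a ∈ Ps hp p {s}, cp hp x a = 0) → cX hp t x = 1) (nz : ∃ a ∈ Ps hp p {s}, cX hp t a ≠ 1) :
    Cn (hm hp s r) (bT l N) (eT l) (Ne0 (xT l N) (xT' l N)) (Ps hp p {s}) (Ps hp p {t}) := by
  have hN' : N.Prime := by rcases hN with rfl | rfl <;> norm_num
  have k := @si_of _ _ _ hp _ _ _ _ _ _ _ hs ht hsr h2 hrp hN' hNp htN hrN h1 nz
  rcases hD with rfl | rfl | rfl | rfl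
  · obtain rfl := (typ_l hp).1 rfl
    obtain ⟨F, G, S, a1, a2⟩ := k (pair_F4 hp hrp hsr)
    rw [a1, a2]
    rcases hN with rfl | rfl
    exacts [cnF4_2 S, cnF4_3 S]
  · obtain rfl := (typ_l hp).2.1 rfl
    obtain ⟨F, G, S, a1, a2⟩ := k (pair_E6 hp hrp hsr)
    rw [a1, a2]
    rcases hN with rfl | rfl
    exacts [cnE6_2 S, cnE6_3 S]
  · obtain rfl := (typ_l hp).2.2.1 rfl
    obtain ⟨F, G, S, a1, a2⟩ := k (pair_E7 hp hrp hsr)
    rw [a1, a2]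
    rcases hN with rfl | rfl
    exacts [cnE7_2 S, cnE7_3 S]
  · obtain rfl := (typ_l hp).2.2.2 rfl
    obtain ⟨F, G, S, a1, a2⟩ := k (pair_E8 hp hrp hsr)
    rw [a1, a2]
    rcases hN with rfl | rfl
    exacts [cnE8_2 S, cnE8_3 S]

/-- **two elements of the distinguished class** -/
theorem eeY (hs : s ∈ TT D (KK p)) (ht : t ∈ TT D (KK p)) {r r' : ℕ} (hr : r.Prime) (hr' : r'.Prime) (h2 : r' ≠ 2)
    (hrp : r ≠ p) (hrp' : r' ≠ p) (hsr : s ^ r = 1) (htr : t ^ r' = 1)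
    (h1 : ∀ x, (∀ a ∈ Ps hp p {s}, cp hp x a = 0) → cX hp t x = 1) (nz : ∃ a ∈ Ps hp p {s}, cX hp t a ≠ 1) :
    (D = chevE7 → dd p s = 79 → dd p t ≠ 79) ∧ (D = chevE6 → dd p s = 46 → dd p t ≠ 46) := by
  obtain ⟨-, F, -, -, -, a4⟩ := exists_F hp hs hr hrp hsr
  obtain ⟨-, G, -, -, b3, b4⟩ := exists_F hp ht hr' hrp' htr
  rw [dd_eq hp hs, dd_eq hp ht, a4, b4]
  simp only [a4, Ne, b3] at h1 nz
  constructor
  · rintro rfl e e'
    obtain rfl := (typ_l hp).2.2.1 rfl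
    exact eeE7 hr' h2 h1 nz (by omega) (by omega)
  · rintro rfl e e'
    obtain rfl := (typ_l hp).2.1 rfl
    exact eeE6 hr' h2 h1 nz (by omega) (by omega)

theorem ps_sy {Z : Set (YY D p)} (hZ : Z ⊆ TT D (KK p)) : Sy hp (Ps hp p Z) :=
  ⟨fun _ h => ((mem_Ps hZ).1 h).1, fun a h => (mem_Ps hZ).2 ⟨((mem_Ps hZ).1 h).1.neg, fun t ht => by
    rw [(isMC_cX hp (hZ ht)).neg, ((mem_Ps hZ).1 h).2 t ht, inv_one]⟩⟩

theorem ps_rc {Z : Set (YY D p)} (hZ : Z ⊆ TT D (KK p)) : Rc hp (Ps hp p Z) := fun a ha b hb => by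
  rw [mem_Ps hZ] at ha hb ⊢
  exact ⟨ac_rw hp ha.1 b ▸ rt_ac hp _ hb.1, fun t ht => by
    rw [(isMC_cX hp (hZ ht)).sub, (isMC_cX hp (hZ ht)).zsmul, ha.2 t ht, hb.2 t ht, one_zpow, div_one]⟩

theorem ps_insert {Z : Set (YY D p)} (hZ : Z ⊆ TT D (KK p)) (ht : t ∈ TT D (KK p)) :
    Ps hp p (insert t Z) = Ps hp p Z ∩ Ps hp p {t} := by
  ext a
  rw [Set.mem_inter_iff, mem_ps hp ht, mem_Ps hZ, mem_Ps (Set.insert_subset ht hZ), Set.forall_mem_insert]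
  tauto

include hp in
theorem hr_lt (hD : Typ D) {r : ℕ} (h5 : 5 ≤ r) (h7 : D = chevE8 → 7 ≤ r) (i : Fin l) : hr D l i < r := by
  rcases hD with rfl | rfl | rfl | rfl
  · obtain rfl := (typ_l hp).1 rfl
    have : ∀ i, hr chevF4 4 i ≤ 4 := by decide +kernel
    have := this i
    omega
  · obtain rfl := (typ_l hp).2.1 rfl
    have : ∀ i, hr chevE6 6 i ≤ 4 := by decide +kernel
    have := this i
    omega
  · obtain rfl := (typ_l hp).2.2.1 rfl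
    have : ∀ i, hr chevE7 7 i ≤ 4 := by decide +kernel
    have := this i
    omega
  · obtain rfl := (typ_l hp).2.2.2 rfl
    have : ∀ i, hr chevE8 8 i ≤ 6 := by decide +kernel
    have := this i
    have := h7 rfl
    omega

/-- **the rank drops** -/
theorem rdY (hD : Typ D) (ht : t ∈ TT D (KK p)) {r : ℕ} (hr : r.Prime) (hrp : r ≠ p) (htr : t ^ r = 1) (h5 : 5 ≤ r)
    (h7 : D = chevE8 → 7 ≤ r) {B : Set (LL l)} (hB : ∀ a ∈ B, RT hp a) (k : ¬ B ⊆ Ps hp p {t}) :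
    rk' (B ∩ Ps hp p {t}) < rk' B := by
  obtain ⟨-, F, -, -, -, a4⟩ := exists_F hp ht hr hrp htr
  rw [a4] at k ⊢
  exact rk_drop hr (hr_lt hp hD h5 h7) F hB k

/-- **the rank bounds the size** -/
theorem rkY (hD : Typ D) {A : Set (LL l)} (h1 : Sy hp A) (h2 : Rc hp A) {ρ : ℕ} (h9 : ρ < 9) (hρ : rk' A ≤ ρ) :
    A.ncard ≤ (if l = 4 then [0, 2, 8, 18, 48] else [0, 2, 6, 12, 24, 40, 72, 126]).getD ρ 240 := by
  rcases hD with rfl | rfl | rfl | rfl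
  · obtain rfl := (typ_l hp).1 rfl
    exact rkF4 h1 h2 h9 hρ
  · obtain rfl := (typ_l hp).2.1 rfl
    exact rkE6 h1 h2 h9 hρ
  · obtain rfl := (typ_l hp).2.2.1 rfl
    exact rkE7 h1 h2 h9 hρ
  · obtain rfl := (typ_l hp).2.2.2 rfl
    exact rkE8 h1 h2 h9 hρ

end Cfsg.Agent.N2.Ex.Mu.Lt
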