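import Cfsg.Agent.N2.Ex.Mu.Defs
import Cfsg.Agent.N2.Ex.Mu.LatY

/-!
# N2, several components: minuscule weights (helper18)

`boxEE`, `boxEN`.
-/

set_option autoImplicit false
set_option linter.unusedSectionVars false
set_option maxRecDepth 100000

namespace Cfsg.Agent.N2.Ex.Mu

open CoxeterSystem Cfsg Cfsg.Lie Cfsg.Lie.ChevalleyDatum
open Cfsg.Agent.ChevalleyStructure Cfsg.Agent.ChevalleyStructure.CoxeterGeom Cfsg.Agent.ChevalleyStructure.CoxeterGeomTypes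
  Cfsg.Agent.Tits.Roots Cfsg.Agent.Nodes Cfsg.Agent.Nodes.RGDChev Cfsg.Agent.Nodes.Coroot
open Cfsg.Agent.KFacts.RgdChevCoord Cfsg.Agent.H469.Exc Cfsg.Agent.H316.U6 Cfsg.Agent.H129.TorusChar
open Cfsg.Agent.DS.Ex Cfsg.Agent.DS.Nt Cfsg.Agent.H931.KC
open Cfsg.Agent.DS.Ex.Tor (RT)
open Cfsg.Agent.N2.Ex.Al Cfsg.Agent.N2.Ex.Al.Ck Cfsg.Agent.N2.Ex.Cb Cfsg.Agent.N2.Ex.Mu.Lt

namespace EeN

/-- the check -/
noncomputable def enk (T : Tb) (l : ℕ) (L : List Rw) (m i : ℕ) (x z : List ℤ) (O : List (List ℤ)) : Bool :=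
  aL (fun j => !Nat.beq (cL (rw0 L j).m.testBit T.n) 22 || Nat.beq (rw0 L j).m m) L.length &&
    aL (fun a => decide (3 * ((T.u a i : ℤ) - 8) = cz T l x a)) T.n &&
    aL (fun a => !m.testBit a || (decide (cz T l z a = 0) &&
      (Nat.ble 6 (cL (fun b => m.testBit b && Nat.beq (T.c a b) 3) T.n) ||
        (aL (fun b => !m.testBit b || Nat.beq (T.c a b) 2 || decide (T.vec l b = T.vec l a ∨ T.vec l b = -T.vec l a)) T.n &&
          lA (fun y => decide (cz T l y a ∣ 12 ∨ ∑ k : Fin l, vz l z k * cz T l y k ∣ 12)) (x :: O))))) T.n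

variable {D : ChevalleyDatum} {l : ℕ} {M : CoxeterMatrix (Fin l)} {hp : IsType D l M} {T : Tb}

theorem en_of (G : Gt hp T) {L : List Rw} (hL : ∀ j < L.length, T.row L j = true) (hL0 : 0 < L.length)
    (hL1 : (rw0 L 0).m = 0) {et m m₀ : ℕ} {i : Fin l} {x z : List ℤ} {O : List (List ℤ)} (h : eek T l L et m i x O = true)
    (h' : enk T l L m₀ i x z O = true) {A B : Set (Al.LL l)} (hA : Sy hp A) (hA' : Al.Rc hp A) (e : A.ncard = 22) (hB : Sy hp B)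
    (hth : th A ⊆ B) (nz : ∃ a ∈ A, a ∉ B) {r : ℕ} (hr : r.Prime) (h2 : r ≠ 2) {F : Al.LL l →+ ℤ}
    (h1 : ∀ x, (∀ a ∈ B ∩ A, cp hp x a = 0) → (r : ℤ) ∣ F x) : (Kl hp r F).ncard ≠ et := fun e' => by
  simp only [eek, enk, Bool.and_eq_true, Bool.or_eq_true, aL_iff, lA_iff, Nat.beq_eq, Bool.not_eq_true', ← Bool.not_eq_true,
    beq_iff_eq, decide_eq_true_eq, Nat.ble_eq] at h h'
  obtain ⟨⟨⟨⟨a1, a2⟩, -⟩, -⟩, a5⟩ := h
  obtain ⟨⟨b1, b2⟩, b3⟩ := h'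
  obtain ⟨v, hv⟩ : ∃ v, ac hp v '' A = St T l m₀ := by
    obtain ⟨j, hj, v, hv⟩ := G.cls_of hL hL0 hL1 hA hA'
    exact ⟨v, by rw [hv, (b1 j hj).resolve_left (not_not.2 (by rw [← G.ncard_St, ← hv, ncard_ac, e]))]⟩
  obtain ⟨w, hw⟩ : ∃ w, ac hp w '' Kl hp r F = St T l m := by
    obtain ⟨j, hj, v, hv⟩ := G.cls_of hL hL0 hL1 (kl_sy r F) (kl_rc r F)
    exact ⟨v, by rw [hv, (a1 j hj).resolve_left (not_not.2 (by rw [← G.ncard_St, ← hv, ncard_ac, e']))]⟩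
  obtain ⟨y, hy, ey⟩ := orb_spec G a5 List.mem_cons_self (v * w⁻¹)
  have k2 : ∀ j : Fin l, (r : ℤ) ∣ F (ac hp w⁻¹ (sr j)) ↔ j ≠ i := fun j => by
    have h3 : sr j ∈ Kl hp r (F.comp (ac hp w⁻¹).toAddMonoidHom) ↔ j ≠ i := by
      rw [← kl_image, hw, ← G.sim, G.mem_St (G.lt_n j), a2 j j.2, Bool.not_eq_true', ← Bool.not_eq_true, Nat.beq_eq, Ne,
        Fin.ext_iff]
    exact (and_iff_right (isRoot_sr _ _ j)).symm.trans h3
  have k3 : ∀ u, (∀ a ∈ B ∩ A, cp hp (ac hp v⁻¹ u) a = 0) → ¬ 3 * ac hp w (ac hp v⁻¹ u) i ∣ 12 := fun u hu h0 => by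
    have h3 := h1 _ hu
    rw [← ac_inv hp w (ac hp v⁻¹ u)] at h3
    generalize ac hp w (ac hp v⁻¹ u) = u' at h0 h3
    have h4 := eq_psi (F.comp (ac hp w⁻¹).toAddMonoidHom) u'
    rw [← Finset.add_sum_erase _ _ (Finset.mem_univ i)] at h4
    have h5 := (dvd_add_left (Finset.dvd_sum fun j hj => ((k2 j).2 (Finset.ne_of_mem_erase hj)).mul_left _)).1 (h4 ▸ h3 :)
    have h6 := ((Nat.prime_iff_prime_int.1 hr).dvd_or_dvd h5).resolve_right fun h6 => (k2 i).1 h6 rfl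
    have h7 : r ∣ 2 ^ 2 := Int.natCast_dvd_natCast.1 (h6.trans
      ((mul_dvd_mul_iff_left (show (3 : ℤ) ≠ 0 by decide)).1 (show 3 * u' i ∣ 3 * 4 from h0)))
    exact h2 ((Nat.prime_dvd_prime_iff_eq hr Nat.prime_two).1 (hr.dvd_of_dvd_pow h7))
  have k4 : ∀ s < T.n, 3 * ac hp w (ac hp v⁻¹ (T.vec l s)) i = cz T l y s := fun s hs => by
    obtain ⟨s', hs', e1⟩ := G.surj _ (rt_ac hp w (rt_ac hp v⁻¹ (G.root s hs)))
    rw [← cz_eq G y hs, ey, ← ac_inv' hp v (T.vec l s), ← ac_inv hp w (ac hp v⁻¹ (T.vec l s)), ← ac_mul hp v w⁻¹,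
      ← e1, cp_ac hp _ _ (G.root s' hs'), cz_eq G x hs', ← b2 s' hs', ac_mul, ac_inv, ac_inv']
    rfl
  have k5 : ∀ b ∈ A, ∃ s < T.n, m₀.testBit s = true ∧ T.vec l s = ac hp v b := fun b hb =>
    (hv ▸ ⟨b, hb, rfl⟩ : ac hp v b ∈ St T l m₀)
  obtain ⟨a, c1, c2⟩ := nz
  obtain ⟨s, hs, c3, c4⟩ := k5 a c1
  rcases ((b3 s hs).resolve_left (not_not.2 c3)).2 with c5 | ⟨c5, c6⟩
  · refine c2 (hth ((ac hp v).injective.mem_set_image.1 ?_))
    rw [← th_image, ← c4]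
    refine ⟨c4 ▸ ⟨a, c1, rfl⟩, c5.trans ?_⟩
    rw [← G.ncard_eq (P := fun b => b ∈ St T l m₀ ∧ cp hp (T.vec l s) b = 1) fun b hb => by
      rw [G.mem_St hb, G.cpe s hs b hb, Bool.and_eq_true, Nat.beq_eq]
      exact and_congr_right' (by omega)]
    refine Set.ncard_le_ncard (fun b hb => ⟨hv ▸ hb.2.1, ?_⟩) ((hv ▸ G.fin_St m₀).subset fun b hb => hb.1)
    have := rc_image hA hA' v b (hv ▸ hb.2.1) _ ⟨a, c1, c4.symm⟩
    rwa [hb.2.2, one_smul] at this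
  rcases c6 y hy with c7 | c7
  · refine k3 (T.vec l s) (fun b hb => ?_) (k4 s hs ▸ c7)
    obtain ⟨s', hs', d1, d2⟩ := k5 b hb.2
    rcases c5 s' hs' with (d3 | d3) | d3 | d3
    · exact absurd d1 d3
    · rw [← cp_ac hp v _ (hA.root b hb.2), ac_inv', ← d2, G.cpe s hs s' hs', d3]
      rfl
    · exact absurd ((ac hp v).injective (d2.symm.trans (d3.trans c4)) ▸ hb.1) c2
    · rw [d2, c4, ← map_neg] at d3
      exact absurd (neg_neg a ▸ (ac hp v).injective d3 ▸ hB.neg b hb.1) c2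
  · refine k3 (vz l z) (fun b hb => ?_) ?_
    · obtain ⟨s', hs', d1, d2⟩ := k5 b hb.2
      rw [← cp_ac hp v _ (hA.root b hb.2), ac_inv', ← d2, cz_eq G z hs']
      exact ((b3 s' hs').resolve_left (not_not.2 d1)).1
    · have d1 := eq_psi ((Pi.evalAddMonoidHom (fun _ => ℤ) i).comp
        ((ac hp w).toAddMonoidHom.comp (ac hp v⁻¹).toAddMonoidHom)) (vz l z)
      change ac hp w (ac hp v⁻¹ (vz l z)) i = ∑ k, vz l z k * ac hp w (ac hp v⁻¹ (sr k)) i at d1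
      rw [d1, Finset.mul_sum, Finset.sum_congr rfl fun k _ => by rw [mul_left_comm, ← G.sim, k4 _ (G.lt_n k)]]
      exact c7

theorem enkE6 : enk tbE6 6 rwE6 4959828233492975 5 [2, 3, 4, 6, 5, 4] [4, 6, 8, 12, 10, 5] oE6 = true := by decide +kernel

end EeN

/-- **[EE]** -/
theorem boxEE : BoxEE := by
  intro D l M hp p _ hD s t r r' hs ht _ h2 h1 e e'
  have h := eeY hp hs.1 ht.1 hs.2.1 ht.2.1 h2 hs.2.2.1 ht.2.2.1 (hs.2.2.2 ▸ pow_orderOf_eq_one s)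
    (ht.2.2.2 ▸ pow_orderOf_eq_one t) h1.1 h1.2
  rw [dd_eq hp hs.1, dd_eq hp ht.1] at h
  unfold EtN nR at e e'
  rcases hD with rfl | rfl | rfl | rfl
  · have := (typ_l hp).1 rfl
    omega
  · have := (typ_l hp).2.1 rfl
    exact h.2 rfl (by omega) (by omega)
  · have := (typ_l hp).2.2.1 rfl
    exact h.1 rfl (by omega) (by omega)
  · have := (typ_l hp).2.2.2 rfl
    omega

/-- **[EN]** -/
theorem boxEN : BoxEN := by
  intro D l M hp p _ hD s t y r hs ht hy h2 hl hN nz h1 e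
  obtain rfl : D = chevE6 := by
    rcases hD with rfl | rfl | rfl | rfl
    · have := (typ_l hp).1 rfl
      omega
    · rfl
    · have := (typ_l hp).2.2.1 rfl
      omega
    · have := (typ_l hp).2.2.2 rfl
      omega
  subst hl
  obtain ⟨-, F, -, -, a3, a4⟩ := exists_F hp hy.1 hy.2.1 hy.2.2.1 (hy.2.2.2 ▸ pow_orderOf_eq_one y)
  have hs' := Set.singleton_subset_iff.2 hs
  have ht' := Set.singleton_subset_iff.2 ht
  have a1 := hN.1
  unfold Pt nR at a1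
  unfold EtN nR at e
  refine EeN.en_of (gsE6 hp).toGt rowE6 (by decide) rfl (i := 5) eekE6 EeN.enkE6 (ps_sy hp hs') (ps_rc hp hs') (by omega)
    (ps_sy hp ht') hN.2.2 (nz.imp fun a ha => ⟨ha.1, fun h => ha.2 ((mem_ps hp ht).1 h).2⟩) hy.2.1 h2
    (fun x hx => (a3 x).1 (h1 x (ps_insert hp ht' hs ▸ hx))) ?_
  rw [← a4]
  omega

end Cfsg.Agent.N2.Ex.Mu
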