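import Cfsg.Agent.N2.Ex.Sim.Defs
import Cfsg.Agent.TH.Ex.Si.Tab

/-!
# N2 (S3519), `F₄, E₆, ²E₆, E₇, E₈`, several components: interface (helper59)

Paper: `notes/N2/mu.md`, numerical mirror `notes/N2/mu_mir5.txt`.

* lattice boxes (elements of the torus): `BoxT BoxT2 BoxEE BoxEN BoxC7 BoxRK BoxSZ BoxX3 BoxT33 BoxF9 BoxAvg`;
* boxes in `Y`: `BoxH1 BoxPerf BoxTor BoxRz BoxCT BoxCN BoxPU`, the frame `BoxFr`, `BoxNT`;
* the numerical interface `MA MB MT MN MC MS` (glue boxes `BoxMA …`), the arithmetic `BoxNum`; assembly `mul_of`.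
-/

set_option autoImplicit false
set_option linter.unusedSectionVars false

namespace Cfsg.Agent.N2.Ex.Mu

open CoxeterSystem Cfsg Cfsg.Lie Cfsg.Lie.ChevalleyDatum
open Cfsg.Agent.ChevalleyStructure Cfsg.Agent.ChevalleyStructure.CoxeterGeom Cfsg.Agent.Tits.Roots Cfsg.Agent.Nodes Cfsg.Agent.Nodes.BNOf Cfsg.Agent.Nodes.RGDChev
open Cfsg.Agent.KFacts.RgdChevCoord Cfsg.Agent.BpExc.Fr Cfsg.Agent.BpExc.LangFr
open Cfsg.Agent.H469.Exc Cfsg.Agent.H316.U6 Cfsg.Agent.H129.TorusChar Cfsg.Agent.DS.Ex Cfsg.Agent.DS.Nt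
open Cfsg.Agent.SB.Exc (XF)
open Cfsg.Agent.H290.ElReg (Fth)
open Cfsg.Agent.N2.Ex.Sm (Ch sh dimT)
open Subgroup (centralizer)

/-! ### tables -/

/-- the column of the rank `l` -/
def col {α : Type} (l : ℕ) (a4 a6 a7 a8 : α) : α := if l = 4 then a4 else if l = 6 then a6 else if l = 7 then a7 else a8

/-- `n` divides neither `4` nor `6` -/
def Big (n : ℕ) : Prop := ¬ n ∣ 4 ∧ ¬ n ∣ 6

instance decBig (n : ℕ) : Decidable (Big n) := inferInstanceAs (Decidable (¬ n ∣ 4 ∧ ¬ n ∣ 6))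

/-- the number of roots for a product `s t`, `t` of order `r'`; `none` : impossible -/
def gT (l r' n : ℕ) : Option ℕ :=
  if r' = 2 then
    if Big n then col l none none (some 2) (some 12) else if 4 ∣ n then col l (some 4) (some 4) (some 12) (some 32)
    else if 3 ∣ n then col l (some 2) (some 8) (some 20) (some 40) else col l (some 10) (some 14) (some 30) (some 62)
  else
    if Big n then col l none (some 0) (some 4) (some 12) else if 4 ∣ n then col l (some 2) (some 6) (some 24) (some 40)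
    else if 3 ∣ n then col l (some 0) (some 6) (some 12) (some 30) else col l (some 8) (some 14) (some 30) (some 60)

/-- the row `n = 2` of `gT` -/
def gN (l r' : ℕ) : ℕ := if r' = 2 then col l 10 14 30 62 else col l 8 14 30 60

/-- the number of roots of a subsystem of rank `ρ` -/
def SZ (l ρ : ℕ) : ℕ :=
  if l ≤ ρ then col l 48 72 126 240 else (if l = 4 then [0, 2, 8, 18] else [0, 2, 6, 12, 24, 40, 72, 126]).getD ρ 0

/-- elements of order three: number of roots and rank; `b` : the class `D₅ T₁` of `E₆` is allowed -/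
def X3 (l : ℕ) (b : Bool) : List (ℕ × ℕ) :=
  col l [(18, 3), (12, 4)] [(if b then 40 else 30, 5), (18, 6)] [(72, 6), (36, 7)] [(126, 7), (78, 8)]

/-- three is a good prime up to this rank -/
def g3 (l : ℕ) : ℕ := if l = 4 then 3 else 5

/-- the rank after the first element -/
def rk1 (l r n : ℕ) : ℕ := if l = 6 ∧ 4 ∣ n then 3 else if l = 8 ∧ r = 5 then 8 else l - n.totient

/-- the exponent of the box `NT` -/
def nt (l : ℕ) : ℕ := col l 0 10 15 36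

/-- the bound for the centraliser -/
def cb (l q k : ℕ) : ℕ := q ^ k * (q + 1) ^ l

/-- centraliser `D₅ T₁` in `E₆`, `E₆ T₁` in `E₇`; `k` is the number of roots -/
def EtN (l k : ℕ) : Prop := l = 6 ∧ k = 40 ∨ l = 7 ∧ k = 72

/-! ### the torus -/

section Lat

variable {D : ChevalleyDatum} {l : ℕ} {M : CoxeterMatrix (Fin l)} (hp : IsType D l M) (p : ℕ) [Fact p.Prime]

/-- the number of roots trivial on `Z` -/
noncomputable def nR (Z : Set (YY D p)) : ℕ := (Ps hp p Z).ncard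

/-- their rank -/
noncomputable def rk (Z : Set (YY D p)) : ℕ := Module.finrank ℤ (Submodule.span ℤ (Ps hp p Z))

/-- `t` lies in the torus of the semisimple part -/
def H1 (Z : Set (YY D p)) (t : YY D p) : Prop :=
  ∀ x, (∀ a ∈ Ps hp p Z, Nodes.Coroot.cpr M.toCoxeterSystem hp.isCartan x a = 0) → cX hp t x = 1

/-- `t` is not central -/
def NZ (Z : Set (YY D p)) (t : YY D p) : Prop := ∃ a ∈ Ps hp p Z, cX hp t a ≠ 1

/-- the exponent `k` is realised on `t` by an automorphism which keeps the roots of `Z` -/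
def Rz (Z : Set (YY D p)) (t : YY D p) (k : ℕ) : Prop := ∃ u : (Fin l → ℤ) ≃+ (Fin l → ℤ),
  (∀ b, IsRoot M.toCoxeterSystem hp.isCartan (u b) ↔ IsRoot M.toCoxeterSystem hp.isCartan b) ∧
    (∀ b, u b ∈ Ps hp p Z ↔ b ∈ Ps hp p Z) ∧ ∀ b, cX hp t (u b) = cX hp t b ^ k

/-- `H1` and `NZ` -/
def In (Z : Set (YY D p)) (t : YY D p) : Prop := H1 hp p Z t ∧ NZ hp p Z t

/-- the large components -/
def Th (s : YY D p) : Set (Fin l → ℤ) := {a | a ∈ Ps hp p {s} ∧ 6 ≤ {b | b ∈ Ps hp p {s} ∧ a - b ∈ Ps hp p {s}}.ncard}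

/-- the group of the large components -/
noncomputable def LL (s : YY D p) : Subgroup (YY D p) := RGD.Sup (XX D l (KK p)) (Th hp p s)

/-- `A₄ A₁` in `E₆`; `A₅ A₂`, `D₅ A₁` in `E₇`; `E₆ A₁`, `E₆ A₂` in `E₈` -/
def Pt (s : YY D p) : Prop :=
  l = 6 ∧ nR hp p {s} = 22 ∧ (Th hp p s).ncard = 20 ∨
    l = 7 ∧ (nR hp p {s} = 36 ∧ (Th hp p s).ncard = 30 ∨ nR hp p {s} = 42 ∧ (Th hp p s).ncard = 40) ∨
    l = 8 ∧ (nR hp p {s} = 74 ∨ nR hp p {s} = 78) ∧ (Th hp p s).ncard = 72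

/-- `t` centralises the large component of `s` -/
def Nr (s t : YY D p) : Prop := Pt hp p s ∧ ¬ Pt hp p t ∧ Th hp p s ⊆ Ps hp p {t}

variable {p} in
/-- `s` is an element of the torus of prime order `r` -/
def Po (D : ChevalleyDatum) (s : YY D p) (r : ℕ) : Prop := s ∈ TT D (KK p) ∧ r.Prime ∧ r ≠ p ∧ orderOf s = r

/-- two elements of different components -/
structure Pair (s t : YY D p) (r r' n : ℕ) : Prop where
  hs : Po D s r
  ht : Po D t r'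
  odd : r ≠ 2
  ord : r' = 2 ∨ r' = 3 ∧ 5 ≤ r
  st : In hp p {s} t
  ts : In hp p {t} s
  rel : ∃ k : ℕ, n ∣ orderOf (k : ZMod r) ∧ Rz hp p {t} s k
  hm : ∀ [Fact r.Prime], n ∣ Cb.hm hp s r

end Lat

/-- a statement on `Y` -/
def OnY (P : ∀ (D : ChevalleyDatum) (l : ℕ) (M : CoxeterMatrix (Fin l)) (_ : IsType D l M) (p : ℕ) [Fact p.Prime], Prop) : Prop :=
  ∀ (D : ChevalleyDatum) (l : ℕ) (M : CoxeterMatrix (Fin l)) (hp : IsType D l M) (p : ℕ) [Fact p.Prime], Typ D → P D l M hp p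

/-! ### lattice boxes -/

/-- **[T]** -/
def BoxT : Prop := OnY fun D l _ hp p _ => ∀ (s t : YY D p) (r r' n : ℕ), Pair hp p s t r r' n → (l = 4 ∨ ¬ n ∣ 2) →
  ∃ k, gT l r' n = some k ∧ nR hp p {s, t} ≤ k

/-- **[T2]** -/
def BoxT2 : Prop := OnY fun D l _ hp p _ => ∀ (s t : YY D p) (r r' : ℕ), Pair hp p s t r r' 1 → l ≠ 4 →
  (nR hp p {s, t} ≤ gN l r' ∨ EtN l (nR hp p {s}) ∨ Nr hp p s t ∨ r' = 3 ∧ Nr hp p t s) ∧
    (l = 6 → r' = 3 → nR hp p {s, t} ≤ 12 ∨ EtN l (nR hp p {s}) ∨ EtN l (nR hp p {t}) ∨ Nr hp p s t ∨ Nr hp p t s)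

/-- **[EE]** -/
def BoxEE : Prop := OnY fun D l _ hp p _ => ∀ (s t : YY D p) (r r' : ℕ), Po D s r → Po D t r' → r ≠ 2 → r' ≠ 2 →
  In hp p {s} t → EtN l (nR hp p {s}) → ¬ EtN l (nR hp p {t})

/-- **[EN]** -/
def BoxEN : Prop := OnY fun D l _ hp p _ => ∀ (s t y : YY D p) (r : ℕ), s ∈ TT D (KK p) → t ∈ TT D (KK p) → Po D y r → r ≠ 2 →
  l = 6 → Nr hp p s t → NZ hp p {s} t → H1 hp p {s, t} y → ¬ EtN l (nR hp p {y})

/-- **[C7]** -/
def BoxC7 : Prop := OnY fun D l _ hp p _ => ∀ (s t : YY D p) (r : ℕ), Pair hp p s t r 3 4 → l = 7 →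
  nR hp p {s, t} ≤ 14 ∨ Th hp p s ⊆ Ps hp p {t} ∧ 24 ≤ (Th hp p s).ncard

/-- **[RK]** the rank drops -/
def BoxRK : Prop := OnY fun D l _ hp p _ => rk hp p (∅ : Set (YY D p)) = l ∧
  (∀ (Z : Set (YY D p)) (t : YY D p) (r n k : ℕ), Z ⊆ TT D (KK p) → Po D t r → NZ hp p Z t → Rz hp p Z t k →
    n ∣ orderOf (k : ZMod r) → (7 ≤ r ∨ r = 5 ∧ (l ≠ 8 ∨ nR hp p Z < 240) ∨ r = 3 ∧ rk hp p Z ≤ g3 l) →
    rk hp p (insert t Z) + n.totient ≤ rk hp p Z) ∧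
  ∀ (t : YY D p) (r k : ℕ), Po D t r → l = 6 → Rz hp p ∅ t k → 4 ∣ orderOf (k : ZMod r) →
    (∀ [Fact r.Prime], 4 ∣ Cb.hm hp t r) → rk hp p {t} ≤ 3

/-- **[SZ]** -/
def BoxSZ : Prop := OnY fun D l _ hp p _ => nR hp p (∅ : Set (YY D p)) = SZ l l ∧
  ∀ Z : Set (YY D p), Z ⊆ TT D (KK p) → nR hp p Z ≤ SZ l (rk hp p Z) ∧ Even (nR hp p Z) ∧ rk hp p Z ≤ l

/-- **[X3]** -/
def BoxX3 : Prop := OnY fun D l _ hp p _ => ∀ (x : YY D p) (b : Bool), Po D x 3 → (b = false → ¬ EtN l (nR hp p {x})) →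
  ∃ f ∈ X3 l b, nR hp p {x} ≤ f.1 ∧ rk hp p {x} ≤ f.2

/-- **[T33]** -/
def BoxT33 : Prop := OnY fun D l _ hp p _ => ∀ s s' t : YY D p, Po D s 3 → Po D s' 3 → Po D t 2 → l ≠ 8 →
  In hp p {s} s' → In hp p {s'} s → In hp p {s} t → In hp p {t} s → In hp p {s'} t → In hp p {t} s' →
  In hp p {s, s'} t → In hp p {s, t} s' → In hp p {s', t} s →
  (∃ e ∈ ({s, s', s * s', s * s'⁻¹} : Set (YY D p)), nR hp p {e, t} ≤ col l 6 10 24 0) ∨
    nR hp p {s} = col l 18 30 60 0 ∧ nR hp p {s'} = col l 12 18 42 0 ∨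
    nR hp p {s} = col l 12 18 42 0 ∧ nR hp p {s'} = col l 18 30 60 0

/-- **[F9]** -/
def BoxF9 : Prop := OnY fun D l _ hp p _ => ∀ s s' t : YY D p, Po D s 3 → Po D s' 3 → Po D t 2 → l = 4 →
  s' ≠ s → s' ≠ s⁻¹ → (∀ e ∈ ({s, s', s * s', s * s'⁻¹} : Set (YY D p)), In hp p {e} t ∧ In hp p {t} e) →
  ∃ e ∈ ({s, s', s * s', s * s'⁻¹} : Set (YY D p)), nR hp p {e, t} ≤ 8

/-- **[Avg]** -/
def BoxAvg : Prop := OnY fun D _ _ hp p _ => ∀ (x : YY D p) (E : Subgroup (YY D p)) (r₀ : ℕ), x ∈ TT D (KK p) →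
  E ≤ TT D (KK p) → Finite E → (∀ r, r.Prime → r ∣ Nat.card E → r₀ ≤ r) → nR hp p (insert x E) < nR hp p {x} →
  ∃ e ∈ E, r₀ * nR hp p {x, e} + nR hp p (insert x E) < r₀ * nR hp p (insert x E) + nR hp p {x}

/-! ### boxes in `Y` -/

/-- `J` is a finite simple group of even order which is not abelian -/
def Sp {Y : Type} [Group Y] (J : Subgroup Y) : Prop :=
  Finite J ∧ IsSimpleGroup J ∧ ¬ IsMulCommutative J ∧ Even (Nat.card J)

/-- **[H1]** -/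
def BoxH1 : Prop := OnY fun D l _ hp p _ =>
  (∀ (Z : Set (YY D p)) (J : Subgroup (YY D p)) (t : YY D p), Z.Finite → Z ⊆ TT D (KK p) → Sp J → J ≤ Mz hp p Z → t ∈ J →
    t ∈ TT D (KK p) → t ≠ 1 → In hp p Z t) ∧
  (∀ s t : YY D p, s ∈ TT D (KK p) → t ∈ TT D (KK p) → IsOfFinOrder s → IsOfFinOrder t → (orderOf s).Coprime (orderOf t) →
    Ps hp p {s * t} = Ps hp p {s, t}) ∧
  (∀ Z : Set (YY D p), Z ⊆ TT D (KK p) → Ps hp p (Subgroup.closure Z) = Ps hp p Z) ∧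
  ∀ x s : YY D p, x * s * x⁻¹ ∈ TT D (KK p) → dd p s = l + nR hp p {x * s * x⁻¹}

/-- **[Perf]** -/
def BoxPerf : Prop := OnY fun D _ _ hp p _ => ∀ (Z : Set (YY D p)) (J : Subgroup (YY D p)), Z.Finite → Z ⊆ TT D (KK p) →
  (∀ z ∈ Z, IsOfFinOrder z) → Sp J → J ≤ centralizer Z → ((∀ z ∈ Z, Odd (orderOf z)) ∨ ∃ z, Z = {z}) → J ≤ Mz hp p Z

/-- **[Tor]** -/
def BoxTor : Prop := OnY fun D _ _ hp p _ => ∀ (Z : Set (YY D p)) (y : YY D p), Z.Finite → Z ⊆ TT D (KK p) →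
  (∀ z ∈ Z, IsOfFinOrder z) → y ∈ DZ hp p Z → (orderOf y).Coprime p → ∃ d ∈ Mz hp p Z, d * y * d⁻¹ ∈ TT D (KK p)

/-- **[Rz]** the exponents `q`, `j` and `-1` -/
def BoxRz : Prop := OnY fun D _ _ hp p _ => ∀ (q : ℕ) (K : Type) [Group K] (m : MData hp p q K) (x : YY D p)
  (Z : Set (YY D p)) (t c : YY D p) (r j : ℕ), Z.Finite → Z ⊆ TT D (KK p) → (∀ z ∈ Z, IsOfFinOrder z) → Po D t r →
  r ≠ 2 → (∀ z ∈ insert t Z, m.σ (x⁻¹ * z * x) = x⁻¹ * z * x) → c ∈ centralizer Z → c * t * c⁻¹ = t ^ j →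
  ∃ k : ℕ, Nat.lcm 2 (Nat.lcm (orderOf (j : ZMod r)) (orderOf (q : ZMod r))) ∣ orderOf (k : ZMod r) ∧ Rz hp p Z t k

/-- **[CT]** -/
def BoxCT : Prop := OnY fun D _ _ hp p _ => ∀ s : YY D p, s ∈ TT D (KK p) → IsOfFinOrder s →
  (∀ c ∈ centralizer ({s} : Set (YY D p)), ∀ y ∈ LL hp p s, c * y * c⁻¹ ∈ LL hp p s) ∧
  (∀ t ∈ TT D (KK p), Th hp p s ⊆ Ps hp p {t} ↔ t ∈ centralizer (LL hp p s : Set (YY D p))) ∧
  ∀ (J : Subgroup (YY D p)) (t : YY D p), Sp J → J ≤ centralizer ({s} : Set (YY D p)) → t ∈ J → t ∈ TT D (KK p) → t ≠ 1 →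
    Th hp p s ⊆ Ps hp p {t} → J ≤ centralizer (LL hp p s : Set (YY D p))

/-- **[CN]** the centraliser in the simple group -/
def BoxCN : Prop := On0 fun _ l _ _ p _ f _ _ T F _ => ∀ (a : T) (k : ℕ), (orderOf a).Coprime p →
  dd p (F.L.ι a) ≤ l + k → cn a ≤ cb l (p ^ f) k

/-- **[PU]** `p`-subgroups of the centraliser -/
def BoxPU : Prop := On0 fun D l _ hp p _ f _ _ T F _ => ∀ (a : T) (x : YY D p), (orderOf a).Coprime p →
  x * F.L.ι a * x⁻¹ ∈ TT D (KK p) →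
  (∀ P : Subgroup T, IsPGroup p P → P ≤ centralizer {a} → Nat.card P ^ 2 ≤ (p ^ f) ^ nR hp p {x * F.L.ι a * x⁻¹}) ∧
  ∃ P : Subgroup T, IsPGroup p P ∧ (∀ y ∈ P, x * F.L.ι y * x⁻¹ ∈ LL hp p (x * F.L.ι a * x⁻¹)) ∧
    (l ≠ 4 → (p ^ f) ^ (Th hp p (x * F.L.ι a * x⁻¹)).ncard ≤ Nat.card P ^ 2)

/-! ### the components -/

/-- `N` has an element of odd prime order `r`, the group generated by `-1`, `q` and the automizer has order divisible by `n` -/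
def El (q : ℕ) (N : Type) [Group N] (r n : ℕ) : Prop :=
  r.Prime ∧ r ≠ 2 ∧ ¬ r ∣ q ∧ ∃ h, Ch N r h ∧ n ∣ Nat.lcm 2 (Nat.lcm h (orderOf (q : ZMod r)))

section Cmp

variable {D : ChevalleyDatum} {l : ℕ} {M : CoxeterMatrix (Fin l)} {hp : IsType D l M} {p : ℕ} [Fact p.Prime] {q : ℕ}
  {G : Type} [Group G] {T : Subgroup G} (F : XF hp p q T) {ι : Type} (S : ι → Subgroup G)

/-- the image of `a` in the frame `x` -/
noncomputable def zz (x : YY D p) (a : T) : YY D p := x * F.L.ι a * x⁻¹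

/-- the image of a component in the frame `x` -/
noncomputable def JJ (x : YY D p) (i : ι) : Subgroup (YY D p) := TH.cj x (im F.L (S i))

/-- a semisimple element of order `o` of the product of the components of `I` with at most `k` roots -/
def WW (I : Finset ι) (k o : ℕ) : Prop :=
  ∃ a : T, (a : G) ∈ ⨆ i ∈ I, S i ∧ orderOf a = o ∧ o.Coprime p ∧ dd p (F.L.ι a) ≤ l + k

/-- the component `i` contains an element of odd prime order with centraliser `D₅ T₁` or `E₆ T₁` -/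
def EE (i : ι) : Prop :=
  ∃ a : T, (a : G) ∈ S i ∧ (orderOf a).Prime ∧ orderOf a ≠ 2 ∧ orderOf a ≠ p ∧ EtN l (dd p (F.L.ι a) - l)

/-- **the frame** of a family of elements of prime order of different components, with at most one involution -/
structure Fm (I : Finset ι) (s : ι → T) (n : ι → ℕ) (x : YY D p) : Prop where
  po : ∀ i ∈ I, Po D (zz F x (s i)) (orderOf (s i))
  sp : ∀ i, Sp (JJ F S x i)
  mz : ∀ I' : Finset ι, I' ⊆ I → ((∀ i ∈ I', orderOf (s i) ≠ 2) ∨ I'.card ≤ 2) → ∀ j ∉ I',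
    JJ F S x j ≤ Mz hp p ((fun i => zz F x (s i)) '' I')
  inn : ∀ I' : Finset ι, I' ⊆ I → ((∀ i ∈ I', orderOf (s i) ≠ 2) ∨ I'.card ≤ 2) → ∀ j ∈ I, j ∉ I' →
    In hp p ((fun i => zz F x (s i)) '' I') (zz F x (s j))
  rz : ∀ I' : Finset ι, I' ⊆ I → ∀ j ∈ I, j ∉ I' → orderOf (s j) ≠ 2 →
    ∃ k : ℕ, n j ∣ orderOf (k : ZMod (orderOf (s j))) ∧ Rz hp p ((fun i => zz F x (s i)) '' I') (zz F x (s j)) k
  hm : ∀ j ∈ I, orderOf (s j) ≠ 2 → ∀ [Fact (orderOf (s j)).Prime], n j ∣ Cb.hm hp (zz F x (s j)) (orderOf (s j))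

variable (p q) in
/-- the element `a` of the component `i` realises `El` -/
def Ea (i : ι) (a : T) (n : ℕ) : Prop := (a : G) ∈ S i ∧ (orderOf a).Prime ∧ orderOf a ≠ p ∧
  ∃ j : ℕ, (∃ c : T, (c : G) ∈ S i ∧ c * a * c⁻¹ = a ^ j) ∧
    n ∣ Nat.lcm 2 (Nat.lcm (orderOf (j : ZMod (orderOf a))) (orderOf (q : ZMod (orderOf a))))

theorem El.ea {f : ℕ} (hf : 0 < f) {i : ι} (hi : S i ≤ T) {r n : ℕ} (h : El (p ^ f) (S i) r n) :
    ∃ a : T, orderOf a = r ∧ Ea p (p ^ f) S i a n := by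
  obtain ⟨h1, -, h3, h, ⟨g, j, k1, k2, k3⟩, h4⟩ := h
  have e : orderOf (Subgroup.inclusion hi g) = r := by rw [orderOf_injective _ (Subgroup.inclusion_injective hi), k1]
  obtain ⟨c, hc⟩ := isConj_iff.1 k2
  refine ⟨_, e, g.2, e ▸ h1, fun k => h3 (e ▸ k ▸ dvd_pow_self p hf.ne'), j, ⟨Subgroup.inclusion hi c, c.2, ?_⟩, ?_⟩
  · rw [← map_inv, ← map_mul, ← map_mul, hc, map_pow]
  · rw [e]
    exact h4.trans (Nat.lcm_dvd (Nat.dvd_lcm_left _ _) ((Nat.lcm_dvd (k3.trans (Nat.dvd_lcm_left _ _))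
      (Nat.dvd_lcm_right _ _)).trans (Nat.dvd_lcm_right _ _)))

end Cmp

/-- a statement on the components -/
def OnM (P : ∀ (D : ChevalleyDatum) (l : ℕ) (M : CoxeterMatrix (Fin l)) (hp : IsType D l M) (p : ℕ) [Fact p.Prime] (_ : Bool)
    (f : ℕ) (G : Type) [Group G] (T _H : Subgroup G) (_ : XF hp p (p ^ f) T) (ι : Type) [Fintype ι] [DecidableEq ι]
    (_ : ι → Subgroup G), Prop) : Prop :=
  ∀ (D : ChevalleyDatum) (l : ℕ) (M : CoxeterMatrix (Fin l)) (hp : IsType D l M) (p : ℕ) [Fact p.Prime] (tw : Bool) (f : ℕ)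
    (G : Type) [Group G] [Finite G] (T H : Subgroup G) (F : XF hp p (p ^ f) T) (ι : Type) [Fintype ι] [DecidableEq ι]
    (S : ι → Subgroup G), NC tw f F H → Function.Injective S → Mul T H (Set.range S) → P D l M hp p tw f G T H F ι S

/-- **[Fr]** -/
def BoxFr : Prop := OnM fun _ _ _ _ p _ _ f _ _ T _ F ι _ _ S => ∀ (I : Finset ι) (s : ι → T) (n : ι → ℕ),
  (∀ i ∈ I, Ea p (p ^ f) S i (s i) (n i)) → (∀ i ∈ I, ∀ j ∈ I, orderOf (s i) = 2 → orderOf (s j) = 2 → i = j) → ∃ x, Fm F S I s n x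

/-- **[NT]** -/
def BoxNT : Prop := OnM fun D l _ hp p _ _ f G _ T _ F ι _ _ S => ∀ (i : ι) (a : T) (x : YY D p), l ≠ 4 → (a : G) ∈ S i →
  (orderOf a).Coprime p → zz F x a ∈ TT D (KK p) → nR hp p {zz F x a} < 2 * (Th hp p (zz F x a)).ncard →
  (∀ j, j ≠ i → JJ F S x j ≤ centralizer (LL hp p (zz F x a) : Set (YY D p))) →
  (p ^ f) ^ (Th hp p (zz F x a)).ncard ≤ Nat.card (MulAut (S i)) ^ 2

/-! ### the numerical interface -/

section Num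

variable {ι : Type} [Fintype ι] [DecidableEq ι]

/-- the number of the permutations of `ι` which keep `t` -/
def mu (t : ι → ℕ) : ℕ := ∏ v ∈ Finset.univ.image t, (Finset.univ.filter fun i => t i = v).card.factorial

variable (l : ℕ) (tw : Bool) (p f T : ℕ) (S : ι → Type) [∀ i, Group (S i)] (G : Prop) (κ : ℕ) (W : Finset ι → ℕ → ℕ → Prop)
  (E : ι → Prop)

/-- orders: `T` is the order of the exceptional group, `(∏ |S i|) * κ` is the order of `H ⊓ T`, `G` is the goal -/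
structure MA : Prop where
  kdv : κ ∣ (∏ i, Nat.card (MulAut (S i)) / Nat.card (S i)) * mu fun i => Nat.card (S i)
  lag : (∏ i, Nat.card (S i)) * κ ∣ T
  orb : ∀ I k o, W I k o → (∏ i, Nat.card (S i)) * κ ≤
    (∏ i ∈ I, (Finset.univ.filter fun j => Nat.card (S j) = Nat.card (S i)).card * Nat.card (S i)) * cb l (p ^ f) k
  win : ∀ I k o, W I k o → cb l (p ^ f) k ^ 3 * ((∏ i, Nat.card (S i)) * κ) ≤ T → G
  winK : ∀ I k o, W I k o → o.Coprime κ → cb l (p ^ f) k ^ 3 * ∏ i, Nat.card (S i) ≤ T → G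
  emb : ∀ I k o, W I k o → (∏ i ∈ Iᶜ, Nat.card (S i)) * o ≤ cb l (p ^ f) k
  pu : ∀ I k o, W I k o → (∏ i ∈ Iᶜ, p ^ (Nat.card (S i)).factorization p) ^ 2 ≤ (p ^ f) ^ k
  mono : ∀ I I' k k' o, W I k o → I ⊆ I' → k ≤ k' → W I' k' o
  gap : ∀ I k o, W I k o → l = 4 → o.Coprime 6 → k < 18 → W I 8 o

/-- the groups and their degrees -/
structure MB : Prop where
  typ : l = 6 ∨ tw = false ∧ (l = 4 ∨ l = 7 ∨ l = 8)
  real : H902.Art.Real (sh l tw) p f T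
  two : Nontrivial ι
  fin : ∀ i, Finite (S i)
  simple : ∀ i, IsSimpleGroup (S i)
  nonab : ∀ i, ¬ IsMulCommutative (S i)
  alt : ∀ i c, Nonempty (S i ≃* alternatingGroup (Fin c)) → c ≤ TH.Ex.Si.alt (sh l tw)
  deg : ∃ (K : Type) (_ : Field K) (_ : CharP K p), (∀ i, ∃ n, 3 * n ≤ dimT l ∧ Fth n K (S i)) ∧
    ∀ R : ι → ℕ, (∀ i, 3 ≤ R i) → (∀ i n, Fth n K (S i) → R i ≤ n) → ∑ x ∈ Finset.univ.offDiag, R x.1 * R x.2 ≤ 2 * dimT l

/-- one and two components -/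
structure MT : Prop where
  t0 : ∀ i r n, El (p ^ f) (S i) r n → W {i} (Cb.bd l n) r ∧ ∃ e ∈ Cb.tpT l, n ∣ e.1
  t2 : ∀ i j r n, i ≠ j → El (p ^ f) (S i) r n → p ≠ 2 → (l = 4 ∨ ¬ n ∣ 2) → ∃ k, gT l 2 n = some k ∧ W {i, j} k (2 * r)
  t3 : ∀ i j r n, i ≠ j → El (p ^ f) (S i) r n → p ≠ 3 → 5 ≤ r → 3 ∣ Nat.card (S j) → (l = 4 ∨ ¬ n ∣ 2) →
    ∃ k, gT l 3 n = some k ∧ W {i, j} k (3 * r)
  c7 : ∀ i j r r' n', i ≠ j → l = 7 → El (p ^ f) (S i) r 4 → p ≠ 3 → 3 ∣ Nat.card (S j) → El (p ^ f) (S j) r' n' →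
    2 ≤ n'.totient → W {i, j} 14 (3 * r)

/-- the row `n = 2` -/
structure MN : Prop where
  ee : ∀ i j, E i → E j → i = j
  n2 : l ≠ 4 → p ≠ 2 → (∀ i, Nat.card (MulAut (S i)) < (p ^ f) ^ nt l) → ∃ i j o, i ≠ j ∧ W {i, j} (gN l 2) o
  n3 : l ≠ 4 → p ≠ 3 → (∀ i, Nat.card (MulAut (S i)) < (p ^ f) ^ nt l) →
    (∀ i, 3 ∣ Nat.card (S i) ∧ ∃ r, 5 ≤ r ∧ El (p ^ f) (S i) r 2) →
    ∃ i j o, i ≠ j ∧ W {i, j} (if l = 6 ∧ 3 ≤ Fintype.card ι then 12 else gN l 3) o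

/-- the conclusion of the averaging: `e` roots for the whole group, `nx` roots for the first element of order `o₀` -/
def Av (W : Finset ι → ℕ → ℕ → Prop) (I J : Finset ι) (r : ι → ℕ) (o₀ e nx : ℕ) : Prop :=
  e < nx ∧ Even e ∧ (Set.InjOn r J → W I e (o₀ * ∏ j ∈ J, r j)) ∧
    ∀ r₀, (∀ j ∈ J, r₀ ≤ r j) → ∃ k o, W I k o ∧ o ∣ o₀ * ∏ j ∈ J, r j ∧ Even k ∧ r₀ * k + e < r₀ * e + nx

/-- the rank of the chain `J` with the first member `j₀` -/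
def Rc (l : ℕ) (J : Finset ι) (j₀ : ι) (r n : ι → ℕ) (ρ : ℕ) : Prop :=
  ρ + ∑ j ∈ J.erase j₀, (n j).totient ≤ rk1 l (r j₀) (n j₀)

/-- chains -/
structure MC : Prop where
  c1 : ∀ (J : Finset ι) (j₀ : ι) (r n : ι → ℕ), j₀ ∈ J → (∀ j ∈ J, 5 ≤ r j ∧ El (p ^ f) (S j) (r j) (n j)) →
    ∃ ρ e, Rc l J j₀ r n ρ ∧ e ≤ SZ l ρ ∧ Av W J J r 1 e (SZ l l)
  c3 : ∀ (J : Finset ι) (j₀ i : ι) (r n : ι → ℕ) (b : Bool), j₀ ∈ J → (∀ j ∈ J, 5 ≤ r j ∧ El (p ^ f) (S j) (r j) (n j)) →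
    i ∉ J → p ≠ 3 → 3 ∣ Nat.card (S i) → (b = false → ¬ E i) →
    ∃ ρ ρ' e, ∃ x ∈ X3 l b, Rc l J j₀ r n ρ ∧ (ρ ≤ g3 l → ρ' < ρ) ∧ ρ' + ∑ j ∈ J, (n j).totient ≤ x.2 ∧ e ≤ SZ l ρ' ∧
      Av W (insert i J) J r 3 e x.1

/-- elements of order six -/
structure MS : Prop where
  t33 : ∀ i j k, i ≠ j → i ≠ k → j ≠ k → 5 ≤ p → l ≠ 8 → 3 ∣ Nat.card (S i) → 3 ∣ Nat.card (S j) → 3 ∣ Nat.card (S k) →
    W {i, j, k} (col l 6 10 24 0) 6
  e9 : ∀ i j, i ≠ j → 5 ≤ p → l = 4 → ∀ a b : S i, orderOf a = 3 → orderOf b = 3 → a * b = b * a → b ≠ a → b ≠ a⁻¹ →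
    W {i, j} 8 6

/-- everything -/
structure Mx : Prop where
  a : MA l p f T S G κ W
  b : MB l tw p f T S
  t : MT l p f S W
  n : MN l p f S W E
  c : MC l p f S W E
  s : MS l p S W

end Num

/-- **[MA]** -/
def BoxMA : Prop := OnM fun _ l _ _ p _ _ f _ _ T H F _ _ _ S =>
  ∃ κ, MA l p f (Nat.card T) (fun i => ↥(S i)) (Gd T H) κ (WW F S)

/-- **[MB]** -/
def BoxMB : Prop := OnM fun _ l _ _ p _ tw f _ _ T _ _ _ _ _ S => MB l tw p f (Nat.card T) fun i => ↥(S i)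

/-- **[MT]** -/
def BoxMT : Prop := OnM fun _ l _ _ p _ _ f _ _ _ _ F _ _ _ S => MT l p f (fun i => ↥(S i)) (WW F S)

/-- **[MN]** -/
def BoxMN : Prop := OnM fun _ l _ _ p _ _ f _ _ _ _ F _ _ _ S => MN l p f (fun i => ↥(S i)) (WW F S) (EE F S)

/-- **[MC]** -/
def BoxMC : Prop := OnM fun _ l _ _ p _ _ f _ _ _ _ F _ _ _ S => MC l p f (fun i => ↥(S i)) (WW F S) (EE F S)

/-- **[MS]** -/
def BoxMS : Prop := OnM fun _ l _ _ p _ _ _ _ _ _ _ F _ _ _ S => MS l p (fun i => ↥(S i)) (WW F S)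

/-- **[Num]** for the rank `l` -/
def BoxNum (l : ℕ) : Prop := Cf → ∀ (tw : Bool) (p f T : ℕ) (ι : Type) [Fintype ι] [DecidableEq ι] (S : ι → Type)
  [∀ i, Group (S i)] (G : Prop) (κ : ℕ) (W : Finset ι → ℕ → ℕ → Prop) (E : ι → Prop), Mx l tw p f T S G κ W E → G

/-- **assembly** -/
theorem mul_of (a : BoxMA) (b : BoxMB) (t : BoxMT) (n : BoxMN) (c : BoxMC) (s : BoxMS) (h : ∀ l, l = 4 ∨ l = 6 ∨ l = 7 ∨ l = 8 → BoxNum l) :
    BoxMul := by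
  intro _ D l M hp p _ tw f G _ _ T H F C 𝓢 hS
  classical
  have : Fintype 𝓢 := (Set.toFinite 𝓢).fintype
  have h1 : Mul T H (Set.range (Subtype.val : 𝓢 → Subgroup G)) := by rwa [Subtype.range_coe]
  obtain ⟨κ, ha⟩ := a D l M hp p tw f G T H F 𝓢 _ C Subtype.val_injective h1
  have hb := b D l M hp p tw f G T H F 𝓢 _ C Subtype.val_injective h1
  refine h l (by rcases hb.typ with k | ⟨-, k | k | k⟩ <;> simp [k]) C.cf tw p f _ 𝓢 _ _ κ _ _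
    ⟨ha, hb, t D l M hp p tw f G T H F 𝓢 _ C Subtype.val_injective h1, n D l M hp p tw f G T H F 𝓢 _ C Subtype.val_injective h1,
      c D l M hp p tw f G T H F 𝓢 _ C Subtype.val_injective h1, s D l M hp p tw f G T H F 𝓢 _ C Subtype.val_injective h1⟩

end Cfsg.Agent.N2.Ex.Mu
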