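import Cfsg.Agent.N2.Ex.Mu.LatU
import Cfsg.Agent.N2.Ex.Mu.LatE6
import Cfsg.Agent.N2.Ex.Mu.LatE7

/-!
# N2, multiplicities: three more tables (helper40, generated data)
-/

set_option autoImplicit false
set_option maxRecDepth 100000

namespace Cfsg.Agent.N2.Ex.Mu.Lt

open Cfsg Cfsg.Lie Cfsg.Agent.Nodes.RGDChev Cfsg.Agent.N2.Ex.Al Cfsg.Agent.N2.Ex.Al.Ck Cfsg.Agent.N2.Ex.Cb

/-- the certificates -/
def xUA : List Rt := [⟨0, 0, [], [], [], [], 0, false⟩,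
  ⟨0, 0, [], [], [], [], 2, false⟩,
  ⟨0, 0, [], [], [], [], 4, false⟩,
  ⟨0, 0, [], [], [], [], 6, false⟩,
  ⟨0, 0, [], [], [], [], 6, false⟩,
  ⟨0, 0, [], [], [], [], 8, false⟩,
  ⟨2, 8, [-1, -1, -1, 1], [], [], [], 8, false⟩,
  ⟨0, 0, [], [], [], [], 10, false⟩,
  ⟨0, 0, [], [6], [], [], 12, false⟩,
  ⟨0, 0, [], [], [], [[0, 0, 0, 0, 1, 0], [0, 0, 0, 0, 0, 1]], 7, true⟩,
  ⟨0, 0, [], [], [], [], 14, false⟩,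
  ⟨0, 0, [], [], [], [], 14, false⟩,
  ⟨2, 3, [0, -1, -1, -1, 1], [], [], [], 16, false⟩,
  ⟨3, 3, [-1, -1, -2, -2, -1, 1], [], [], [], 18, false⟩,
  ⟨0, 0, [], [], [], [], 20, false⟩,
  ⟨0, 0, [], [], [], [], 22, false⟩,
  ⟨0, 0, [], [], [], [[0, 1, 0, 2, 1, 0], [1, 0, 2, 0, 1, 2]], 7, true⟩,
  ⟨0, 0, [], [], [], [], 30, false⟩,
  ⟨2, 4, [0, -1, -1, -2, -1, 1], [], [], [], 32, false⟩,
  ⟨0, 0, [], [], [], [], 40, false⟩,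
  ⟨0, 0, [], [], [], [], 72, false⟩]

theorem cUA : aL (fun j => rowU tbE6 6 3 tpE6 6 7 1 (fun m V => !Nat.beq (pc tbE6 m.testBit (fun a => m.testBit a && zr 3 V a) % 3) 0)
    (rw0 rwE6 j) (xUA.getD j ⟨0, 0, [], [], [], [], 0, false⟩)) 21 = true := by decide +kernel

/-- the certificates -/
def xUB : List Rt := [⟨0, 0, [], [], [], [], 0, false⟩,
  ⟨0, 0, [], [], [], [], 2, false⟩,
  ⟨0, 0, [], [], [], [], 4, false⟩,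
  ⟨0, 0, [], [], [], [], 6, false⟩,
  ⟨0, 0, [], [], [], [], 6, false⟩,
  ⟨0, 0, [], [], [], [], 8, false⟩,
  ⟨2, 8, [-1, -1, -1, 1], [], [], [], 8, false⟩,
  ⟨0, 0, [], [], [], [], 10, false⟩,
  ⟨0, 0, [], [], [], [], 12, false⟩,
  ⟨0, 0, [], [], [], [], 12, false⟩,
  ⟨0, 0, [], [], [], [[0, 0, 0, 0, 1, 0], [-2, -3, -4, -6, 0, -4]], 13, true⟩,
  ⟨0, 0, [], [], [], [[-2, -3, -4, -6, -4, -2]], 13, true⟩,
  ⟨2, 3, [0, -1, -1, -1, 1], [], [], [], 16, false⟩,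
  ⟨3, 3, [-1, -1, -2, -2, -1, 1], [], [], [], 18, false⟩,
  ⟨0, 0, [], [], [], [[-2, -3, -4, -6, -5, 0], [0, 0, 0, 0, 0, 1]], 13, true⟩,
  ⟨0, 0, [], [], [], [[4, 6, 8, 12, 10, 5]], 13, true⟩,
  ⟨0, 0, [], [], [], [[0, 1, 0, 2, 1, 0], [1, 0, 2, 0, 1, 2]], 13, true⟩,
  ⟨0, 0, [], [], [], [[0, 0, 0, 0, 0, 1]], 13, true⟩,
  ⟨2, 4, [0, -1, -1, -2, -1, 1], [], [], [], 32, false⟩,
  ⟨0, 0, [], [], [], [], 40, false⟩,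
  ⟨0, 0, [], [], [], [], 72, false⟩]

theorem cUB : aL (fun j => rowU tbE6 6 3 tpE6 1 13 40 (fun m V => nr tbE6 3 [(22, 20, 30, 30)] [(30, 30, 22, 20)] m V || Nat.beq (cL (zr 3 V) tbE6.n) 40 ||
    !Nat.beq (pc tbE6 m.testBit (zr 3 V)) 0)
    (rw0 rwE6 j) (xUB.getD j ⟨0, 0, [], [], [], [], 0, false⟩)) 21 = true := by decide +kernel

/-- the certificates -/
def xUC : List Rt := [⟨0, 0, [], [], [], [], 0, false⟩,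
  ⟨0, 0, [], [], [], [], 2, false⟩,
  ⟨0, 0, [], [], [], [], 4, false⟩,
  ⟨0, 0, [], [], [], [], 6, false⟩,
  ⟨0, 0, [], [], [], [], 6, false⟩,
  ⟨0, 0, [], [], [], [], 6, false⟩,
  ⟨0, 0, [], [], [], [], 8, false⟩,
  ⟨0, 0, [], [], [], [], 8, false⟩,
  ⟨2, 9, [-1, -1, -1, 1], [], [], [], 8, false⟩,
  ⟨0, 0, [], [], [], [], 10, false⟩,
  ⟨2, 9, [-1, -1, -1, 1, 0], [], [], [], 10, false⟩,
  ⟨0, 0, [], [], [], [], 12, false⟩,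
  ⟨0, 0, [], [], [], [], 12, false⟩,
  ⟨0, 0, [], [], [], [], 12, false⟩,
  ⟨2, 5, [0, 0, -1, -1, -1, 1], [], [], [], 12, false⟩,
  ⟨0, 0, [], [], [], [], 14, false⟩,
  ⟨0, 0, [], [], [], [], 14, false⟩,
  ⟨0, 0, [], [], [], [], 14, false⟩,
  ⟨2, 2, [-1, 0, 0, 1, 0, 1, -1], [], [], [], 14, false⟩,
  ⟨2, 3, [0, -1, -1, -1, 1], [], [], [], 16, false⟩,
  ⟨0, 0, [], [], [], [], 16, false⟩,
  ⟨0, 0, [], [], [], [], 18, false⟩,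
  ⟨3, 3, [-1, -1, -2, -2, -1, 1], [], [], [], 18, false⟩,
  ⟨2, 3, [0, -1, -1, -1, 0, 1], [], [], [], 18, false⟩,
  ⟨0, 0, [], [], [], [], 20, false⟩,
  ⟨0, 0, [], [], [], [], 20, false⟩,
  ⟨0, 0, [], [], [], [], 22, false⟩,
  ⟨0, 0, [], [], [], [], 24, false⟩,
  ⟨2, 3, [0, -1, -1, -1, 1, 0], [], [], [], 24, false⟩,
  ⟨0, 0, [], [], [], [[0, 0, 0, 0, 1, 0, 0], [0, 0, 0, 0, 0, 0, 1]], 15, true⟩,
  ⟨0, 0, [], [14], [], [], 26, false⟩,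
  ⟨2, 27, [-1, 0, 0, -1, -2, -1, 1], [], [], [], 26, false⟩,
  ⟨2, 3, [0, -1, -1, -1, 1, 0], [], [], [], 28, false⟩,
  ⟨0, 0, [], [], [], [], 30, false⟩,
  ⟨0, 0, [], [], [], [], 30, false⟩,
  ⟨2, 3, [0, -1, -1, -1, 0, 1, 0], [], [], [], 30, false⟩,
  ⟨2, 4, [0, -1, -1, -2, -1, 1], [], [], [], 32, false⟩,
  ⟨0, 0, [], [], [], [], 32, false⟩,
  ⟨3, 4, [-1, -1, -2, -3, -2, -1, 1], [], [], [], 36, false⟩,
  ⟨0, 0, [], [], [], [], 40, false⟩,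
  ⟨0, 0, [], [], [], [], 42, false⟩,
  ⟨0, 0, [], [], [], [], 42, false⟩,
  ⟨2, 4, [0, -1, -1, -2, -1, 0, 1], [], [], [], 56, false⟩,
  ⟨0, 0, [], [], [], [], 60, false⟩,
  ⟨2, 5, [0, -1, -1, -2, -2, -1, 1], [], [], [], 62, false⟩,
  ⟨0, 0, [], [], [], [], 72, false⟩,
  ⟨0, 0, [], [], [], [], 126, false⟩]

theorem cUC : aL (fun j => rowU tbE7 7 3 tpE7 4 15 1 (nr tbE7 3 [(26, 24, 60, 60)] [])
    (rw0 rwE7 j) (xUC.getD j ⟨0, 0, [], [], [], [], 0, false⟩)) 47 = true := by decide +kernel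

variable {r h : ℕ} [Fact r.Prime]

theorem cuA {M : CoxeterMatrix (Fin 6)} {hp : IsType chevE6 6 M} {F G : LL 6 →+ ℤ} (S : Si hp r 3 h tpE6 F G) (hc : 6 ∣ h) :
    (Kl hp r F ∩ Kl hp 3 G).ncard < 7 ∨ (Kl hp r F).ncard = 1 ∨ ¬ 3 ∣ (pp hp (Kl hp r F) (Kl hp r F ∩ Kl hp 3 G)).ncard := by
  refine cu_of (Ne := fun A A' => ¬ 3 ∣ (pp hp A (A ∩ A')).ncard) (gsE6 hp) (by decide) (by decide) (by decide) tpkE6 rowE6
    (by decide) rfl (fun v A A' k => ?_) (fun F G m V e hq k => ?_) (aL_iff.1 cUA) S hc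
  · rwa [← Set.image_inter (ac hp v).injective, pp_ac] at k
  · have hA : ∀ a < tbE6.n, m.testBit a = true ↔ tbE6.vec 6 a ∈ Kl hp r F := fun a ha => e ▸ ((gsE6 hp).mem_St ha).symm
    rw [pc_spec (gsE6 hp).toGt hA (q := fun a => m.testBit a && zr 3 V a) fun a ha => by
      rw [Bool.and_eq_true, hA a ha, hq a ha, Set.mem_inter_iff], Nat.dvd_iff_mod_eq_zero]
    simpa only [Bool.not_eq_true', ← Bool.not_eq_true, Nat.beq_eq] using k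

theorem cuB {M : CoxeterMatrix (Fin 6)} {hp : IsType chevE6 6 M} {F G : LL 6 →+ ℤ} (S : Si hp r 3 h tpE6 F G) :
    (Kl hp r F ∩ Kl hp 3 G).ncard < 13 ∨ (Kl hp r F).ncard = 40 ∨
      Ne0 [(22, 20, 30, 30)] [(30, 30, 22, 20)] (Kl hp r F) (Kl hp 3 G) ∨ (Kl hp 3 G).ncard = 40 ∨
        (pp hp (Kl hp r F) (Kl hp 3 G)).ncard ≠ 0 := by
  refine cu_of (Ne := fun A A' => Ne0 [(22, 20, 30, 30)] [(30, 30, 22, 20)] A A' ∨ A'.ncard = 40 ∨ (pp hp A A').ncard ≠ 0)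
    (gsE6 hp) (by decide) (by decide) (by decide) tpkE6 rowE6 (by decide) rfl (fun v A A' k => ?_)
    (fun F G m V e hq k => ?_) (aL_iff.1 cUB) S (one_dvd h)
  · rw [pp_ac, ncard_ac] at k
    exact k.imp_left (ne0_of_image v _ _)
  · have hA : ∀ a < tbE6.n, m.testBit a = true ↔ tbE6.vec 6 a ∈ Kl hp r F := fun a ha => e ▸ ((gsE6 hp).mem_St ha).symm
    rw [pc_spec (gsE6 hp).toGt hA hq, ncard_kl (gsE6 hp) hq]
    simp only [Bool.or_eq_true, Bool.not_eq_true', ← Bool.not_eq_true, Nat.beq_eq, or_assoc] at k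
    exact k.imp_left (nr_spec (gsE6 hp) slE6 F G m V e hq)

theorem cuC {M : CoxeterMatrix (Fin 7)} {hp : IsType chevE7 7 M} {F G : LL 7 →+ ℤ} (S : Si hp r 3 h tpE7 F G) (hc : 4 ∣ h) :
    (Kl hp r F ∩ Kl hp 3 G).ncard < 15 ∨ (Kl hp r F).ncard = 1 ∨ Ne0 [(26, 24, 60, 60)] [] (Kl hp r F) (Kl hp 3 G) :=
  cu_of (gsE7 hp) (by decide) (by decide) (by decide) tpkE7 rowE7 (by decide) rfl ne0_of_image (nr_spec (gsE7 hp) slE7)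
    (aL_iff.1 cUC) S hc

end Cfsg.Agent.N2.Ex.Mu.Lt
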