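import Cfsg.Agent.N2.Ex.Mu.LatY
import Cfsg.Agent.N2.Ex.Mu.LatV
import Cfsg.Agent.N2.Ex.Mu.Defs

/-!
# N2, multiplicities: the boxes `T`, `T2`, `C7` (helper40)
-/

set_option autoImplicit false
set_option linter.unusedSectionVars false

namespace Cfsg.Agent.N2.Ex.Mu.Lt

open CoxeterSystem Cfsg Cfsg.Lie Cfsg.Lie.ChevalleyDatum
open Cfsg.Agent.ChevalleyStructure Cfsg.Agent.ChevalleyStructure.CoxeterGeom Cfsg.Agent.ChevalleyStructure.CoxeterGeomTypes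
  Cfsg.Agent.Tits.Roots Cfsg.Agent.Nodes Cfsg.Agent.Nodes.RGDChev Cfsg.Agent.Nodes.Coroot
open Cfsg.Agent.KFacts.RgdChevCoord Cfsg.Agent.H469.Exc Cfsg.Agent.H316.U6 Cfsg.Agent.H129.TorusChar
open Cfsg.Agent.DS.Ex Cfsg.Agent.DS.Nt Cfsg.Agent.H931.KC
open Cfsg.Agent.DS.Ex.Tor (RT)
open Cfsg.Agent.N2.Ex.Al Cfsg.Agent.N2.Ex.Al.Ck Cfsg.Agent.N2.Ex.Cb

variable {D : ChevalleyDatum} {l : ℕ} {M : CoxeterMatrix (Fin l)} {hp : IsType D l M} {p : ℕ} [Fact p.Prime]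
  {s t : YY D p} {r r' n : ℕ}

theorem sy_ne {A : Set (Al.LL l)} (h : Sy hp A) : A.ncard ≠ 1 := fun e => by
  obtain ⟨a, rfl⟩ := Set.ncard_eq_one.1 e
  exact rt_ne (h.root a rfl) (funext fun i => by have := congrFun (h.neg a rfl : -a = a) i; simp at this ⊢; omega)

theorem typ_d (hp : IsType D l M) (hD : Typ D) : (l = 4 ∨ l = 6 ∨ l = 7 ∨ l = 8) ∧ (l = 6 → D = chevE6) ∧ (l = 7 → D = chevE7) := by
  have h := typ_l hp
  rcases hD with rfl | rfl | rfl | rfl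
  · have := h.1 rfl
    exact ⟨by omega, by omega, by omega⟩
  · have := h.2.1 rfl
    exact ⟨by omega, fun _ => rfl, by omega⟩
  · have := h.2.2.1 rfl
    exact ⟨by omega, by omega, fun _ => rfl⟩
  · have := h.2.2.2 rfl
    exact ⟨by omega, by omega, by omega⟩

namespace Pr

variable (P : Pair hp p s t r r' n)

include P

theorem pw : t ^ r' = 1 := P.ht.2.2.2 ▸ pow_orderOf_eq_one t

theorem o23 : r' = 2 ∨ r' = 3 := P.ord.imp_right And.left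

theorem ne : r ≠ r' := by
  have := P.odd
  have := P.ord
  omega

theorem nr_eq : nR hp p {s, t} = (Ps hp p {s} ∩ Ps hp p {t}).ncard := by
  rw [nR, ps_insert hp (Set.singleton_subset_iff.2 P.ht.1) P.hs.1, Set.inter_comm]

theorem ne1 : (Ps hp p {s}).ncard ≠ 1 := sy_ne (ps_sy hp (Set.singleton_subset_iff.2 P.hs.1))

variable [Fact r.Prime]

theorem cn (hD : Typ D) : Cn (hm hp s r) (bT l r') (eT l) (Ne0 (xT l r') (xT' l r')) (Ps hp p {s}) (Ps hp p {t}) :=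
  tY hp hD P.hs.1 P.ht.1 P.hs.2.2.2 P.odd P.hs.2.2.1 (o23 P) P.ht.2.2.1 (pw P) (ne P) P.st.1 P.st.2

theorem si {tp : List (ℕ × ℕ)} (htp : ∃ f ∈ tp, hm hp s r ∣ f.1 ∧ dd p s = l + f.2) :
    ∃ F G, Si hp r r' (hm hp s r) tp F G ∧ Ps hp p {s} = Kl hp r F ∧ Ps hp p {t} = Kl hp r' G :=
  si_of hp P.hs.1 P.ht.1 P.hs.2.2.2 P.odd P.hs.2.2.1 P.ht.2.1 P.ht.2.2.1 (pw P) (ne P) P.st.1 P.st.2 htp

/-- the relative order divides the size of an invariant set -/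
theorem dvd {T : Tb} (G : Gs hp T) : n ∣ (pp hp (Ps hp p {s}) (Ps hp p {s} ∩ Ps hp p {t})).ncard := by
  obtain ⟨k, h1, u, h2, h3, h4⟩ := P.rel
  obtain ⟨ζ, F, a1, a2, a3, a4⟩ := exists_F hp P.hs.1 P.hs.2.1 P.hs.2.2.1 (P.hs.2.2.2 ▸ pow_orderOf_eq_one s)
  have k1 : ∀ b, ((F (u b) : ℤ) : ZMod r) = (k : ZMod r) * (F b : ℤ) := fun b => by
    have h5 := h4 b
    have h0 := a1.ne_zero P.hs.2.1.ne_zero
    rw [a2, a2, ← zpow_natCast, ← zpow_mul] at h5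
    rw [← Int.cast_natCast, ← Int.cast_mul, eq_comm, ZMod.intCast_eq_intCast_iff_dvd_sub, ← a1.zpow_eq_one_iff_dvd,
      zpow_sub₀ h0, h5, mul_comm, div_self (zpow_ne_zero _ h0)]
  have k2 : (k : ZMod r) ≠ 0 := fun e => by
    obtain ⟨a, -, h5⟩ := P.ts.2
    exact h5 ((a3 a).2 (zm_iff _ |>.1 (by rw [← u.apply_symm_apply a, k1, e, zero_mul])))
  have k3 : ∀ A : Set (Al.LL l), (∀ b, u b ∈ A ↔ b ∈ A) → u '' A = A := fun A h => Set.ext fun x => by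
    obtain ⟨y, rfl⟩ := u.surjective x
    rw [u.injective.mem_set_image, h]
  have k4 : ∀ b, u b ∈ Ps hp p {s} ↔ b ∈ Ps hp p {s} := fun b => by
    rw [a4]
    exact and_congr (h2 b) (by rw [← zm_iff, ← zm_iff, k1, mul_eq_zero, or_iff_right k2])
  have k5 := pp_im h2 (fun a b => cp_aut G h2) (Ps hp p {s}) (Ps hp p {s} ∩ Ps hp p {t})
  rw [k3 _ k4, k3 _ fun b => and_congr (k4 b) (h3 b)] at k5
  exact h1.trans (pow_ncard (β := fun y => ((F y : ℤ) : ZMod r)) (G.fin_rt.subset fun _ h => h.1)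
    (fun b hb => k5 ▸ ⟨b, hb, rfl⟩) (fun y hy h => hy.2.1 (a4 ▸ ⟨hy.1, (zm_iff _).1 h⟩)) k1)

end Pr

/-- **[T]** -/
theorem boxT : BoxT := by
  intro D l M hp p _ hD s t r r' n P hn
  have : Fact r.Prime := ⟨P.hs.2.1⟩
  obtain ⟨c1, c2, c3, c4⟩ := Pr.cn P hD
  obtain ⟨hl, h6, -⟩ := typ_d hp hD
  have hh : n ∣ hm hp s r := P.hm
  have h2 : 2 ∣ hm hp s r := two_dvd_hm (P.hs.2.2.2 ▸ pow_orderOf_eq_one s) P.odd
  rw [Pr.nr_eq P, gT]
  by_cases hB : Big n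
  · have := c3 (fun k => hB.1 (hh.trans k)) fun k => hB.2 (hh.trans k)
    rw [if_pos hB, if_pos hB]
    rcases Pr.o23 P with rfl | rfl <;> rcases hl with rfl | rfl | rfl | rfl <;> simp [bT, col] at this ⊢ <;> omega
  rw [if_neg hB, if_neg hB]
  by_cases h4 : 4 ∣ n
  · have := c1 (h4.trans hh)
    rw [if_pos h4, if_pos h4]
    rcases Pr.o23 P with rfl | rfl <;> rcases hl with rfl | rfl | rfl | rfl <;> simp [bT, col] at this ⊢ <;> omega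
  rw [if_neg h4, if_neg h4]
  by_cases h3 : 3 ∣ n
  · have h5 : 6 ∣ hm hp s r := Nat.Coprime.mul_dvd_of_dvd_of_dvd (by norm_num : Nat.Coprime 2 3) h2 (h3.trans hh)
    have := c2 h5
    have h7 : l = 6 → r' = 3 → (Ps hp p {s} ∩ Ps hp p {t}).ncard < 7 := by
      rintro rfl rfl
      obtain rfl := h6 rfl
      obtain ⟨F, G, S, a1, a2⟩ := Pr.si P (pair_E6 hp P.hs.2.2.1 P.hs.2.2.2)
      have h8 := cuA S h5
      rw [← a1, ← a2] at h8
      exact (h8.resolve_right fun k => k.elim (Pr.ne1 P) fun k => k (h3.trans (Pr.dvd P (gsE6 hp))))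
    rw [if_pos h3, if_pos h3]
    rcases Pr.o23 P with rfl | rfl <;> rcases hl with rfl | rfl | rfl | rfl <;> simp [bT, col] at this h7 ⊢ <;> omega
  rw [if_neg h3, if_neg h3]
  obtain rfl : l = 4 := hn.resolve_right fun k => hB (by
    constructor <;> intro e <;> have := Nat.le_of_dvd (by norm_num) e <;> interval_cases n <;> simp at *)
  have h5 := Pr.ne1 P
  rcases Pr.o23 P with rfl | rfl <;> simp [bT, eT, xT, xT', Ne0, h5, col] at c4 ⊢ <;> omega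

/-- **[T2]** -/
theorem boxT2 : BoxT2 := by
  intro D l M hp p _ hD s t r r' P hn
  have : Fact r.Prime := ⟨P.hs.2.1⟩
  obtain ⟨-, -, -, c4⟩ := Pr.cn P hD
  obtain ⟨hl, h6, -⟩ := typ_d hp hD
  have h5 := Pr.ne1 P
  have e1 : ∀ y, Th hp p y = th (Ps hp p {y}) := fun _ => rfl
  rw [Pr.nr_eq P]
  simp only [Nr, Pt, EtN, nR, e1]
  constructor
  · simp only [Ne0, sz] at c4
    rcases Pr.o23 P with rfl | rfl <;> rcases hl with rfl | rfl | rfl | rfl <;> simp [bT, eT, xT, xT', gN, col, h5] at c4 hn ⊢ <;>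
      grind
  · rintro rfl rfl
    obtain rfl := h6 rfl
    obtain ⟨F, G, S, a1, a2⟩ := Pr.si P (pair_E6 hp P.hs.2.2.1 P.hs.2.2.2)
    have h8 := cuB S
    rw [← a1, ← a2] at h8
    have h9 : (pp hp (Ps hp p {s}) (Ps hp p {t})).ncard = 0 := by
      rw [Set.eq_empty_of_forall_notMem (s := pp hp _ _) fun b hb =>
        hb.2.1 ((mem_ps hp P.hs.1).2 ⟨hb.1, P.ts.1 b fun a ha => hb.2.2 a ha ha.1⟩), Set.ncard_empty]
    simp [Ne0, sz, h9] at h8 ⊢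
    grind

/-- **[C7]** -/
theorem boxC7 : BoxC7 := by
  intro D l M hp p _ hD s t r P hl
  have : Fact r.Prime := ⟨P.hs.2.1⟩
  obtain rfl := (typ_d hp hD).2.2 hl
  subst hl
  obtain ⟨F, G, S, a1, a2⟩ := Pr.si P (pair_E7 hp P.hs.2.2.1 P.hs.2.2.2)
  have h8 := cuC S P.hm
  rw [← a1, ← a2] at h8
  rw [Pr.nr_eq P]
  rcases h8 with h8 | h8 | ⟨h8, h9⟩ | ⟨-, h9⟩
  · exact Or.inl (by omega)
  · exact absurd h8 (Pr.ne1 P)
  · exact Or.inr ⟨h8, (congrArg (·.2.1) (List.mem_singleton.1 h9)).ge⟩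
  · exact absurd h9 List.not_mem_nil

end Cfsg.Agent.N2.Ex.Mu.Lt
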