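import Cfsg.Agent.N2.Ex.Mu.Defs
import Cfsg.Agent.N2.Ex.Sim.Num
import Cfsg.Agent.N2.Ex.Sim.CjT1
import Cfsg.Agent.ThreePrime.Main
import Cfsg.Agent.SolvableStructure.HallConverse

/-!
# N2 (S3519), several components: the arithmetic of the case `Big` (helper41)
-/

set_option autoImplicit false
set_option linter.unusedSectionVars false

namespace Cfsg.Agent.N2.Ex.Mu

open Cfsg Cfsg.Agent.H902 Finset
open Cfsg.Agent.N2.Ex.Sm (Ch sh dimT Ty)
open Cfsg.Agent.SB.Exc (dM ordU)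

namespace NB

/-! ### one simple group -/

section one

variable {N : Type} [Group N] [Finite N] [IsSimpleGroup N] (hn : ¬ IsMulCommutative N)
include hn

/-- a third prime -/
theorem exists_third (a b : ℕ) : ∃ r : ℕ, r.Prime ∧ r ≠ a ∧ r ≠ b ∧ r ∣ Nat.card N := by
  obtain ⟨r, h1, h2⟩ : ∃ r ∈ (Nat.card N).primeFactors, r ∉ ({a, b} : Finset ℕ) := by_contra fun k =>
    hn ⟨⟨IsSimpleGroup.comm_iff_isSolvable.2 (SolvableStructure.HallConverse.isSolvable_of_no_three_primes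
      ((Finset.card_le_card fun r hr => by_contra fun k' => k ⟨r, hr, k'⟩).trans Finset.card_le_two))⟩⟩
  rw [Finset.mem_insert, Finset.mem_singleton, not_or] at h2
  exact ⟨r, Nat.prime_of_mem_primeFactors h1, h2.1, h2.2, Nat.dvd_of_mem_primeFactors h1⟩

/-- the Suzuki groups -/
theorem ch_sz (h3 : ¬ 3 ∣ Nat.card N) : Ch N 5 4 := by
  obtain ⟨F, _, _, m, hm, hF, ⟨e⟩⟩ := ThreePrime.Main.isoSuzuki' hn h3
  have d1 : ((2 : ℕ) : ZMod 5) ^ 4 = 1 := by decide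
  have d2 : ((2 : ℕ) : ZMod 5) ^ 2 = -1 := by decide
  have d3 : (-1 : ZMod 5) ≠ 1 := by decide
  have h1 : ((2 ^ (2 * m + 1) : ℕ) : ZMod 5) ^ 2 = -1 := by
    rw [Nat.cast_pow, ← pow_mul, show (2 * m + 1) * 2 = 4 * m + 2 by ring, pow_add, pow_mul, d1, one_pow, one_mul, d2]
  have : Fact (Nat.Prime 5) := ⟨Nat.prime_five⟩
  have h2 : 5 ∣ (2 ^ (2 * m + 1)) ^ 2 + 1 := by
    rw [← ZMod.natCast_eq_zero_iff, Nat.cast_add, Nat.cast_pow, h1, Nat.cast_one, neg_add_cancel]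
  have : Finite ↥(Lie.Sz F (2 ^ (m + 1))) := Finite.of_equiv _ e.toEquiv
  obtain ⟨z, hz⟩ := exists_prime_orderOf_dvd_card' (G := ↥(Lie.Sz F (2 ^ (m + 1)))) 5
    ((S1163.result hm hF).1 ▸ h2.mul_left _)
  refine Ch.map e.symm.toMonoidHom e.symm.injective ⟨z, _, hz, Sm.CT.fus_2B2 hm hF (by rw [hz]; norm_num), ?_⟩
  generalize ((2 ^ (2 * m + 1) : ℕ) : ZMod 5) = x at h1
  rw [orderOf_eq_prime_pow (p := 2) (n := 1) (by rw [pow_one, h1]; exact d3) (by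
    rw [show 2 ^ (1 + 1) = 2 * 2 by norm_num, pow_mul, h1, neg_one_sq])]
  norm_num

end one

theorem el_of {N : Type} [Group N] [Finite N] {q r : ℕ} (hr : r.Prime) (h2 : r ≠ 2) (hq : ¬ r ∣ q) (h : r ∣ Nat.card N) :
    El q N r (Nat.lcm 2 (orderOf (q : ZMod r))) :=
  ⟨hr, h2, hq, 1, Ch.one hr h, by rw [Nat.lcm_one_left]⟩

theorem El.mono {N : Type} [Group N] {q r n n' : ℕ} (h : El q N r n) (hn : n' ∣ n) : El q N r n' :=
  let ⟨a, b, c, d, e, f⟩ := h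
  ⟨a, b, c, d, e, hn.trans f⟩

/-- `n` divides `r - 1` -/
theorem El.dvd {N : Type} [Group N] {q r n : ℕ} (h : El q N r n) : n ∣ r - 1 := by
  obtain ⟨hr, h2, hq, h, ⟨g, j, h3, h4, h5⟩, h6⟩ := h
  have : Fact r.Prime := ⟨hr⟩
  have k : ∀ x : ℕ, ¬ r ∣ x → orderOf (x : ZMod r) ∣ r - 1 := fun x hx =>
    ZMod.orderOf_dvd_card_sub_one fun e => hx ((ZMod.natCast_eq_zero_iff _ _).1 e)
  refine h6.trans (Nat.lcm_dvd (hr.even_sub_one h2).two_dvd (Nat.lcm_dvd (h5.trans (k j fun e => ?_)) (k q hq)))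
  rw [orderOf_dvd_iff_pow_eq_one.1 (h3 ▸ e), isConj_one_left] at h4
  rw [h4, orderOf_one] at h3
  exact hr.one_lt.ne h3

theorem El.five {N : Type} [Group N] {q r n : ℕ} (h : El q N r n) (hn : ¬ n ∣ 2) : 5 ≤ r :=
  h.1.five_le_of_ne_two_of_ne_three h.2.1 fun e => hn (by have := El.dvd h; rwa [e] at this)

/-! ### tables -/

theorem bd_le {l n c : ℕ} (h : ∀ f ∈ Cb.tpT l, n ∣ f.1 → f.2 ≤ c) : Cb.bd l n ≤ c := by
  refine List.max_le_of_forall_le _ _ fun x hx => ?_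
  obtain ⟨f, hf, rfl⟩ := List.mem_map.1 hx
  obtain ⟨h1, h2⟩ := List.mem_filter.1 hf
  exact h f h1 (Nat.dvd_of_mod_eq_zero (by simpa using h2))

variable {l : ℕ} {tw : Bool}

theorem tab_big (ht : Ty l tw) : ∀ f ∈ Cb.tpT l, f.1 ∣ 4 ∨ f.1 ∣ 6 ∨ f.2 ≤ col l 0 2 6 24 := by
  rcases ht with rfl | ⟨-, rfl | rfl | rfl⟩ <;> decide

theorem tab_two (ht : Ty l tw) : ∀ f ∈ Cb.tpT l, f.1 ∣ 2 ∨ f.2 ≤ col l 8 24 30 72 := by
  rcases ht with rfl | ⟨-, rfl | rfl | rfl⟩ <;> decide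

theorem bd_big (ht : Ty l tw) {n : ℕ} (h : Big n) : Cb.bd l n ≤ col l 0 2 6 24 :=
  bd_le fun f hf k => ((tab_big ht f hf).resolve_left fun e => h.1 (k.trans e)).resolve_left fun e => h.2 (k.trans e)

theorem bd_ne (ht : Ty l tw) {n : ℕ} (h : ¬ n ∣ 2) : Cb.bd l n ≤ col l 8 24 30 72 :=
  bd_le fun f hf k => (tab_two ht f hf).resolve_left fun e => h (k.trans e)

theorem bd_two (ht : Ty l tw) : Cb.bd l 2 = col l 18 40 72 126 ∧ Cb.bd l 4 = col l 8 12 26 60 ∧ Cb.bd l 6 = col l 6 24 30 72 := by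
  rcases ht with rfl | ⟨-, rfl | rfl | rfl⟩ <;> decide

theorem gT_big (ht : Ty l tw) {r n k : ℕ} (h : Big n) (hk : gT l r n = some k) : k ≤ col l 0 0 4 12 := by
  rw [gT, if_pos h, if_pos h] at hk
  rcases ht with rfl | ⟨-, rfl | rfl | rfl⟩ <;> split_ifs at hk <;> simp [col] at hk ⊢ <;> omega

/-- **the uniform test** -/
theorem unif {p e T : ℕ} (ht : Ty l tw) (h : Art.Real (sh l tw) p e T) {q1 K L : ℕ} (h0 : 0 < q1) (hq : q1 ≤ p ^ e)
    (hk : K + L ≤ dimT l) (hc : dM l * (q1 ^ K * (q1 + 1) ^ L) ≤ ordU l q1) : (p ^ e) ^ K * (p ^ e + 1) ^ L ≤ T := by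
  have h1 := Sm.ordU_le ht h
  have h2 := Sm.ordU_mono ht hq
  have h3 := Sm.succ_mono hq K L
  generalize p ^ e = q at *
  obtain ⟨E, hE⟩ := Nat.exists_eq_add_of_le hk
  refine Nat.le_of_mul_le_mul_left ?_ (Nat.mul_pos (pow_pos h0 (dimT l)) (Sm.dM_pos l))
  calc _ = dM l * q1 ^ E * (q ^ K * (q + 1) ^ L * q1 ^ (K + L)) := by rw [hE]; ring
    _ ≤ dM l * q ^ E * (q1 ^ K * (q1 + 1) ^ L * q ^ (K + L)) := by gcongr
    _ = dM l * (q1 ^ K * (q1 + 1) ^ L) * q ^ dimT l := by rw [hE]; ring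
    _ ≤ ordU l q1 * q ^ dimT l := Nat.mul_le_mul_right _ hc
    _ ≤ q1 ^ dimT l * (dM l * T) := h2.trans (Nat.mul_le_mul_left _ h1)
    _ = _ := by ring

theorem le_two_pow (m : ℕ) : m ≤ 2 * 2 ^ (m - 2) := by
  rcases m with _ | _ | m
  · omega
  · omega
  · have := Nat.lt_two_pow_self (n := m)
    show m + 2 ≤ 2 * 2 ^ m
    omega

variable {ι : Type} [Fintype ι] [DecidableEq ι]

theorem mult_le (t : ι → ℕ) (h2 : ∀ x, 2 ≤ t x) {i j : ι} (hij : i ≠ j) :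
    (univ.filter fun x => t x = t i).card * t i ≤ 2 * ∏ x ∈ ({j} : Finset ι)ᶜ, t x := by
  have h1 : i ∈ ({j} : Finset ι)ᶜ := by simpa using hij
  have h3 : (univ.filter fun x => t x = t i).card ≤ ((({j} : Finset ι)ᶜ).erase i).card + 2 := by
    rw [card_erase_of_mem h1, card_compl, card_singleton]
    have := card_le_univ (univ.filter fun x => t x = t i)
    omega
  have h4 : 2 ^ ((({j} : Finset ι)ᶜ).erase i).card ≤ ∏ x ∈ (({j} : Finset ι)ᶜ).erase i, t x :=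
    pow_card_le_prod _ _ _ fun x _ => h2 x
  rw [← mul_prod_erase _ _ h1, mul_comm (t i), ← mul_assoc]
  exact Nat.mul_le_mul_right _ ((le_two_pow _).trans (Nat.mul_le_mul_left _
    ((Nat.pow_le_pow_right two_pos (by omega)).trans h4)))

variable {p f T κ : ℕ} {S : ι → Type} [∀ i, Group (S i)] {G : Prop} {W : Finset ι → ℕ → ℕ → Prop}

theorem two_le (b : MB l tw p f T S) (i : ι) : 2 ≤ Nat.card (S i) := by
  have := b.fin i
  have := b.simple i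
  exact Finite.one_lt_card

/-- `|A| ≤ cb a * cb b` for elements of two different components -/
theorem card_le (a : MA l p f T S G κ W) (b : MB l tw p f T S) {i j : ι} (hij : i ≠ j) {k k' o o' : ℕ} (h : W {i} k o)
    (h' : W {j} k' o') (ho : 2 ≤ o') : (∏ i, Nat.card (S i)) * κ ≤ cb l (p ^ f) k' * cb l (p ^ f) k := by
  have h1 := a.orb _ _ _ h
  rw [prod_singleton] at h1
  refine h1.trans (Nat.mul_le_mul_right _ ((mult_le (fun i => Nat.card (S i)) (two_le b) hij).trans ?_))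
  exact (mul_comm 2 _).le.trans ((Nat.mul_le_mul_left _ ho).trans (a.emb _ _ _ h'))

/-- the criterion with two elements for the order of `A` -/
theorem win_two (a : MA l p f T S G κ W) (b : MB l tw p f T S) {i j : ι} (hij : i ≠ j) {k k' o o' : ℕ} (h : W {i} k o)
    (h' : W {j} k' o') (ho : 2 ≤ o') {I : Finset ι} {k₀ o₀ : ℕ} (h0 : W I k₀ o₀) {q1 : ℕ} (h1 : 0 < q1) (hq : q1 ≤ p ^ f)
    (hk : 3 * k₀ + k' + k + 5 * l ≤ dimT l) (hc : dM l * (q1 ^ (3 * k₀ + k' + k) * (q1 + 1) ^ (5 * l)) ≤ ordU l q1) : G := by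
  refine a.win _ _ _ h0 ((Nat.mul_le_mul_left _ (card_le a b hij h h' ho)).trans (le_trans (le_of_eq ?_)
    (unif b.typ b.real h1 hq hk hc)))
  simp only [cb]
  ring

end NB

open NB in
/-- **the case `Big`** -/
theorem numB {l : ℕ} {tw : Bool} {p f T : ℕ} {ι : Type} [Fintype ι] [DecidableEq ι] {S : ι → Type} [∀ i, Group (S i)]
    {G : Prop} {κ : ℕ} {W : Finset ι → ℕ → ℕ → Prop} {E : ι → Prop} (h : Mx l tw p f T S G κ W E) {i : ι} {r n : ℕ}
    (hi : El (p ^ f) (S i) r n) (hn : Big n) : G := by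
  have ht : Ty l tw := h.b.typ
  have hp := h.b.real.hp
  have hq := h.b.real.q_ge
  have := h.b.two
  obtain ⟨j, hj⟩ := exists_ne i
  have := h.b.fin j
  have := h.b.simple j
  have n2 : ¬ n ∣ 2 := fun k => hn.1 (k.trans (by norm_num))
  have wi := h.a.mono _ _ _ _ _ (h.t.t0 i r n hi).1 subset_rfl (bd_big ht hn)
  have nq : ∀ {s : ℕ}, s.Prime → s ≠ p → ¬ s ∣ p ^ f := fun hs k e =>
    k ((Nat.prime_dvd_prime_iff_eq hs hp).1 (hs.dvd_of_dvd_pow e))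
  by_cases h3 : p = 2 ∧ ¬ 3 ∣ Nat.card (S j)
  · have wj := (h.t.t0 j 5 4 ⟨Nat.prime_five, by norm_num, nq Nat.prime_five (by omega), 4, ch_sz (h.b.nonab j) h3.2,
      (Nat.dvd_lcm_left _ _).trans (Nat.dvd_lcm_right _ _)⟩).1
    rw [(bd_two ht).2.1] at wj
    refine win_two h.a h.b hj.symm wi wj (by norm_num) wi two_pos hq ?_ ?_ <;>
      rcases ht with rfl | ⟨-, rfl | rfl | rfl⟩ <;> decide +kernel
  obtain ⟨o, w⟩ : ∃ o, W {i, j} (col l 0 0 4 12) o := by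
    by_cases h2 : p = 2
    · obtain ⟨k, k1, k2⟩ := h.t.t3 i j r n hj.symm hi (by omega) (El.five hi n2) (not_not.1 fun k => h3 ⟨h2, k⟩) (Or.inr n2)
      exact ⟨_, h.a.mono _ _ _ _ _ k2 subset_rfl (gT_big ht hn k1)⟩
    · obtain ⟨k, k1, k2⟩ := h.t.t2 i j r n hj.symm hi h2 (Or.inr n2)
      exact ⟨_, h.a.mono _ _ _ _ _ k2 subset_rfl (gT_big ht hn k1)⟩
  by_cases h4 : 4 ≤ p ^ f
  · obtain ⟨s, s1, s2, s3, s4⟩ := exists_third (h.b.nonab j) 2 p
    have wj := (h.t.t0 j s 2 (El.mono (el_of s1 s2 (nq s1 s3) s4) (Nat.dvd_lcm_left _ _))).1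
    rw [(bd_two ht).1] at wj
    refine win_two h.a h.b hj.symm wi wj s1.two_le w four_pos h4 ?_ ?_ <;>
      rcases ht with rfl | ⟨-, rfl | rfl | rfl⟩ <;> decide +kernel
  · obtain ⟨s, s1, s2, s3, s4⟩ := exists_third (h.b.nonab j) 2 3
    have s5 := s1.five_le_of_ne_two_of_ne_three s2 s3
    have wj := h.a.mono _ _ _ _ _ (h.t.t0 j s _ (el_of s1 s2 (fun e => by have := Nat.le_of_dvd (by omega) e; omega) s4)).1
      subset_rfl (bd_ne ht fun k => by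
        have k1 := (Sm.dvd_sub_iff (by omega) rfl 2).2 ((Nat.dvd_lcm_right _ _).trans k)
        have k2 : s ∣ 2 ^ 3 * 3 := by
          obtain e | e : p ^ f = 2 ∨ p ^ f = 3 := by omega
          all_goals rw [e] at k1; exact k1.trans (by norm_num)
        rcases s1.dvd_mul.1 k2 with k3 | k3
        exacts [s2 ((Nat.prime_dvd_prime_iff_eq s1 Nat.prime_two).1 (s1.dvd_of_dvd_pow k3)),
          s3 ((Nat.prime_dvd_prime_iff_eq s1 Nat.prime_three).1 k3)])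
    refine win_two h.a h.b hj.symm wi wj s1.two_le w two_pos hq ?_ ?_ <;>
      rcases ht with rfl | ⟨-, rfl | rfl | rfl⟩ <;> decide +kernel

end Cfsg.Agent.N2.Ex.Mu
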