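import Cfsg.Agent.N2.Ex.Mu.Defs
import Cfsg.Agent.N2.Ex.Sim.Rx
import Cfsg.Agent.TH.Ex.Mu.Ten
import Cfsg.Agent.TH.Ex.Mx.A
import Cfsg.Agent.TH.Ex.Si.Cls
import Cfsg.Agent.S0144

/-!
# N2 (S3519), `F₄, E₆, ²E₆, E₇, E₈`, several components: the groups and their degrees (helper5)

`boxMB_of : BoxFr → BoxMB`.  A component acts non-trivially on three eigenspaces of an element of odd order of another
component; the pairs are bounded by `Ten.sum_le`.
-/

set_option autoImplicit false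
set_option linter.unusedSectionVars false

namespace Cfsg.Agent.N2.Ex.Mu

open Cfsg Cfsg.Lie Cfsg.Lie.ChevalleyDatum
open Cfsg.Agent.Nodes.RGDChev Cfsg.Agent.KFacts.RgdChevCoord
open Cfsg.Agent.H469.Exc Cfsg.Agent.H316.U6 Cfsg.Agent.H129.TorusChar Cfsg.Agent.DS.Ex Cfsg.Agent.DS.Nt
open Cfsg.Agent.SB.Exc (XF)
open Cfsg.Agent.H290.ElReg (Fth)
open Cfsg.Agent.N2.Ex.Sm (sh dimT)
open Cfsg.Agent.TH.Ab (IsoX)
open Cfsg.Agent.TH.Ex.Mu.Ten (Low Mix ps sum_le)
open Module (finrank)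
open Subgroup (inclusion inclusion_injective)

namespace MBx

section Lin

variable {K V S : Type} [Field K] [AddCommGroup V] [Module K V] [FiniteDimensional K V] [Group S] [IsSimpleGroup S]

theorem fth_of_rep (σ : Representation K S V) (h : ∃ g, σ g ≠ 1) : Fth (finrank K V) K S := by
  obtain ⟨g, hg⟩ := h
  let e := LinearMap.toMatrixAlgEquiv (Module.finBasis K V)
  refine ⟨(e.toMulEquiv.toMonoidHom.comp σ).toHomUnits, (MonoidHom.ker_eq_bot_iff _).1
    ((MonoidHom.normal_ker _).eq_bot_or_eq_top.resolve_right fun h1 => hg (e.injective ?_))⟩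
  rw [map_one]
  exact congrArg Units.val (h1.ge (Subgroup.mem_top g))

theorem low_of {r : ℕ} (h : ∀ n, Fth n K S → r ≤ n) : Low K S r :=
  fun _ _ _ _ σ hσ => h _ (fth_of_rep σ hσ)

/-- an eigenspace of a commuting map -/
theorem fth_eig (τ : Representation K S V) {t : Module.End K V} (hc : ∀ x, Commute (τ x) t) {c a : K} {y : S} {v : V}
    (h0 : v ≠ 0) (ha : a ≠ 1) (hy : τ y v = a • v) (ht : t v = c • v) :
    Fth (finrank K (Module.End.eigenspace t c)) K S :=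
  fth_of_rep (τ.subrepresentation (Module.End.eigenspace t c) fun x w hw => by
    rw [Submodule.mem_comap, Module.End.mem_eigenspace_iff, ← Module.End.mul_apply, ← (hc x).eq, Module.End.mul_apply,
      Module.End.mem_eigenspace_iff.1 hw, map_smul])
    ⟨y, fun e => by
      have e1 : τ y v = v := congrArg Subtype.val (LinearMap.congr_fun e ⟨v, Module.End.mem_eigenspace_iff.2 ht⟩)
      rw [hy, ← sub_eq_zero, ← one_smul K v, smul_smul, mul_one, ← sub_smul, smul_eq_zero] at e1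
      exact e1.elim (fun h => ha (sub_eq_zero.1 h)) h0⟩

/-- three eigenspaces -/
theorem three (τ : Representation K S V) {t : Module.End K V} (hc : ∀ x, Commute (τ x) t) {c : Fin 3 → K}
    (hi : Function.Injective c) (h : ∀ k, ∃ (y : S) (v : V) (a : K), v ≠ 0 ∧ a ≠ 1 ∧ τ y v = a • v ∧ t v = c k • v) :
    ∃ n, 3 * n ≤ finrank K V ∧ Fth n K S := by
  have h1 := LinearMap.finrank_le_finrank_of_injective ((t.eigenspaces_iSupIndep.comp hi).dfinsupp_lsum_injective)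
  have h2 := Module.finrank_directSum K fun k => ((t.eigenspace ∘ c) k : Submodule K V)
  obtain ⟨k, -, hk⟩ := Finset.exists_min_image Finset.univ (fun k => finrank K (t.eigenspace (c k))) ⟨0, Finset.mem_univ _⟩
  obtain ⟨y, v, a, a1, a2, a3, a4⟩ := h k
  refine ⟨_, ?_, fth_eig τ hc a1 a2 a3 a4⟩
  have h3 := Finset.card_nsmul_le_sum Finset.univ (fun k => finrank K (t.eigenspace (c k))) _ hk
  rw [Finset.card_univ, Fintype.card_fin, smul_eq_mul] at h3
  exact h3.trans (h2.symm.trans_le h1)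

end Lin

/-- Burnside: a third prime -/
theorem exists_elt {S : Type} [Group S] [Finite S] (hs : IsSimpleGroup S) (hc : ¬ IsMulCommutative S) {a b : ℕ}
    (ha : a.Prime) (hb : b.Prime) : ∃ z : S, (orderOf z).Prime ∧ orderOf z ≠ a ∧ orderOf z ≠ b := by
  obtain ⟨i, n, h1, h2⟩ := Nat.exists_eq_pow_mul_and_not_dvd (Nat.card_pos (α := S)).ne' a ha.ne_one
  have h0 : n ≠ 0 := fun h => h1 (h ▸ dvd_zero a)
  obtain ⟨j, k, h3, h4⟩ := Nat.exists_eq_pow_mul_and_not_dvd h0 b hb.ne_one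
  obtain ⟨r, hr, h5⟩ := Nat.exists_prime_and_dvd (n := k) fun h =>
    hc ⟨⟨IsSimpleGroup.comm_iff_isSolvable.2 (S0144.result a b i j ha hb (by rw [h2, h4, h, mul_one]))⟩⟩
  have := Fact.mk hr
  have h6 : r ∣ n := h4 ▸ h5.mul_left _
  obtain ⟨z, hz⟩ := exists_prime_orderOf_dvd_card' (G := S) r (h2 ▸ h6.mul_left _)
  exact ⟨z, hz ▸ hr, fun h => h1 (h ▸ hz ▸ h6), fun h => h3 (h ▸ hz ▸ h5)⟩

theorem ps_sq {ι : Type} {r : ι → ℕ} {m : ι → ι → Prop} [DecidableRel m] {l : List ι} (h : l.Pairwise m) :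
    (l.map fun i => r i * r i).sum + 2 * ps r m l = (l.map r).sum * (l.map r).sum := by
  induction l with
  | nil => rfl
  | cons i l ih =>
    rw [ps, List.filter_eq_self.2 fun j hj => decide_eq_true (List.rel_of_pairwise_cons h hj), List.map_cons,
      List.map_cons, List.sum_cons, List.sum_cons]
    have h1 := ih h.of_cons
    nlinarith

theorem sum_off {ι : Type} [Fintype ι] [DecidableEq ι] {r : ι → ℕ} {m : ι → ι → Prop} [DecidableRel m]
    (h : ∀ i j, i ≠ j → m i j) : ∑ x ∈ Finset.univ.offDiag, r x.1 * r x.2 = 2 * ps r m Finset.univ.toList := by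
  have h1 := ps_sq (r := r) ((Finset.nodup_toList Finset.univ).imp (h _ _))
  rw [Finset.sum_map_toList, Finset.sum_map_toList, Finset.sum_mul_sum, ← Finset.sum_product', ← Finset.diag_union_offDiag,
    Finset.sum_union (Finset.disjoint_diag_offDiag _), Finset.sum_diag] at h1
  exact (Nat.add_left_cancel h1).symm

variable {D : ChevalleyDatum} {l : ℕ} {M : CoxeterMatrix (Fin l)} (hp : IsType D l M) {p : ℕ} [Fact p.Prime]

include hp in
theorem alt_le (hD : Typ D) {tw : Bool} {f : ℕ} {T : Type} [Group T] [Finite T] (hs : IsSimpleGroup T) (hi : IsoX D tw p f T)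
    {N : Type} [Group N] {i : N →* T} (h : Function.Injective i) {c : ℕ} (hc : Nonempty (N ≃* alternatingGroup (Fin c))) :
    c ≤ TH.Ex.Si.alt (sh l tw) := by
  obtain ⟨hf, F, _, _, _, ⟨rfl, hF, ⟨e⟩⟩ | ⟨rfl, rfl, hF, ⟨e⟩⟩⟩ := hi
  · rcases Sm.RxG.cases hp hD with ⟨rfl, rfl⟩ | ⟨rfl, rfl⟩ | ⟨rfl, rfl⟩ | ⟨rfl, rfl⟩
    · obtain ⟨_, d⟩ := TH.Ex.Si.dat_F4 (p := p) e.symm.isSimpleGroup
      exact (d.congr e).alt N i h c hc
    · obtain ⟨_, d⟩ := TH.Ex.Si.dat_E6 (p := p) e.symm.isSimpleGroup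
      exact (d.congr e).alt N i h c hc
    · obtain ⟨_, d⟩ := TH.Ex.Si.dat_E7 (p := p) e.symm.isSimpleGroup
      exact (d.congr e).alt N i h c hc
    · obtain ⟨_, d⟩ := TH.Ex.Si.dat_E8 (p := p) e.symm.isSimpleGroup
      exact (d.congr e).alt N i h c hc
  · obtain rfl := (typ_l hp).2.1 rfl
    obtain ⟨_, d⟩ := TH.Ex.Si.dat_TE6 (p := p) ((Fact.out : p.Prime).isPrimePow.pow hf.ne') hF e.symm.isSimpleGroup
    exact (d.congr e).alt N i h c hc

/-- the vector of a root in the frame `x` -/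
theorem vec_of {x y t : YY D p} (hy : x * y * x⁻¹ ∈ TT D (KK p)) (ht : x * t * x⁻¹ ∈ TT D (KK p)) {a : Fin l → ℤ}
    (ha : Tits.Roots.IsRoot M.toCoxeterSystem hp.isCartan a) : ∃ v : D.Idx → KK p, v ≠ 0 ∧
      ad D p y v = cX hp (x * y * x⁻¹) a • v ∧ ad D p t v = cX hp (x * t * x⁻¹) a • v := by
  obtain ⟨s, hs, rfl⟩ := (isRoot_iff hp M.toCoxeterSystem a).1 ha
  refine ⟨ad D p x⁻¹ (Pi.single (Sum.inr ⟨s, hs⟩) 1), TH.Ex.Mx.ad_ne_zero _ fun e => ?_,
    TH.Ex.Mx.ad_of_conj (TH.Ex.Mx.ad_single (hp := hp) hy _), TH.Ex.Mx.ad_of_conj (TH.Ex.Mx.ad_single (hp := hp) ht _)⟩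
  have := congrFun e (Sum.inr ⟨s, hs⟩)
  rw [Pi.single_eq_same] at this
  exact one_ne_zero this

/-- three eigenvalues of an element of odd order -/
theorem inj_three {K : Type} [Field K] {c : K} {r : ℕ} (hr : r.Prime) (h2 : r ≠ 2) (h : c ^ r = 1) (h1 : c ≠ 1) :
    Function.Injective ![1, c, c⁻¹] := by
  have h0 : c ≠ 0 := fun e => by
    rw [e, zero_pow hr.ne_zero] at h
    exact zero_ne_one h
  have h3 : c ≠ c⁻¹ := fun e => h1 (by
    have h4 : c ^ 2 = 1 := by rw [pow_two, ← mul_inv_cancel₀ h0, ← e]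
    rw [← pow_one c, ← ((Nat.coprime_primes hr Nat.prime_two).2 h2).gcd_eq_one, pow_gcd_eq_one]
    exact ⟨h, h4⟩)
  have h5 : c⁻¹ ≠ 1 := inv_ne_one.2 h1
  intro i j e
  fin_cases i <;> fin_cases j
  exacts [rfl, absurd e.symm h1, absurd e.symm h5, absurd e h1, rfl, absurd e h3, absurd e h5, absurd e.symm h3, rfl]

end MBx

open MBx

/-- **[MB]** -/
theorem boxMB_of (hF : BoxFr) : BoxMB := by
  intro D l M hp p _ tw f G _ _ T H F ι _ _ S C hS h
  have hpp : p.Prime := Fact.out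
  have hT : ∀ i, S i ≤ T := fun i => (h.le _ ⟨i, rfl⟩).trans inf_le_right
  have hs : ∀ i, IsSimpleGroup (S i) := fun i => h.simple _ ⟨i, rfl⟩
  have hn : ∀ i, ¬ IsMulCommutative (S i) := fun i => h.nonab _ ⟨i, rfl⟩
  have h2 : Nontrivial ι := by
    obtain ⟨_, ⟨i, rfl⟩, _, ⟨j, rfl⟩, e⟩ := h.two
    exact ⟨i, j, fun k => e (k ▸ rfl)⟩
  obtain ⟨k1, k2⟩ := Sm.RxG.real hp C.typ hpp C.cx.setup.simple C.cx.setup.noncomm C.iso
  have hj : Function.Injective F.L.ι := F.hι ▸ F.m.inj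
  have ho : ∀ i (y : S i), orderOf (inclusion (hT i) y) = orderOf y := fun i =>
    orderOf_injective _ (inclusion_injective (hT i))
  have ho' : ∀ i (y : S i), orderOf (F.L.ι (inclusion (hT i) y)) = orderOf y := fun i y =>
    (orderOf_injective _ hj _).trans (ho i y)
  have hd : finrank (KK p) (D.Idx → KK p) = dimT l := by
    rw [Module.finrank_fintype_fun_eq_card, Sm.RxG.card_idx hp C.typ]
  have hc : ∀ i j, i ≠ j → ∀ (y : S i) (z : S j), Commute (F.L.ι (inclusion (hT i) y)) (F.L.ι (inclusion (hT j) z)) :=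
    fun i j e y z => Commute.map (Subtype.ext (h.comm _ ⟨i, rfl⟩ _ ⟨j, rfl⟩ (hS.ne e) y y.2 z z.2)) F.L.ι
  let τ : ∀ i, Representation (KK p) (S i) (D.Idx → KK p) := fun i => (ad D p).comp (F.L.ι.comp (inclusion (hT i)))
  refine ⟨k1, k2, h2, fun i => inferInstance, hs, hn, fun i c => alt_le hp C.typ C.cx.setup.simple C.iso
    (inclusion_injective (hT i)), KK p, inferInstance, inferInstance, fun i => ?_, fun R a1 a2 => ?_⟩
  · obtain ⟨j, hij⟩ := exists_ne i
    obtain ⟨t, b1, b2, b3⟩ := exists_elt (hs j) (hn j) hpp Nat.prime_two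
    obtain ⟨y, c1, c2, -⟩ := exists_elt (hs i) (hn i) hpp hpp
    let s : ι → T := fun k => if k = j then inclusion (hT j) t else inclusion (hT i) y
    have s1 : s j = inclusion (hT j) t := if_pos rfl
    have s2 : s i = inclusion (hT i) y := if_neg hij.symm
    obtain ⟨x, hx⟩ := hF D l M hp p tw f G T H F ι S C hS h {i, j} s (fun _ => 1) (fun k hk => by
      rcases Finset.mem_insert.1 hk with rfl | hk
      · rw [s2]
        exact ⟨y.2, ho _ y ▸ c1, ho _ y ▸ c2, 1, ⟨1, one_mem _, by simp⟩, one_dvd _⟩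
      · obtain rfl := Finset.mem_singleton.1 hk
        rw [s1]
        exact ⟨t.2, ho _ t ▸ b1, ho _ t ▸ b2, 1, ⟨1, one_mem _, by simp⟩, one_dvd _⟩) (fun k hk k' hk' e e' => by
      have h3 : ∀ k ∈ ({i, j} : Finset ι), orderOf (s k) = 2 → k = i := fun k hk e =>
        (Finset.mem_insert.1 hk).resolve_right fun hk => b3 (by rwa [Finset.mem_singleton.1 hk, s1, ho] at e)
      rw [h3 k hk e, h3 k' hk' e'])
    have p1 := hx.po i (by simp)
    have p2 := hx.po j (by simp)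
    obtain ⟨a, a1, a2⟩ := (hx.inn {j} (by simp) (.inr (by simp)) i (by simp) (by simpa using hij.symm)).2
    rw [Finset.coe_singleton, Set.image_singleton, mem_Ps (Set.singleton_subset_iff.2 p2.1)] at a1
    have a3 := a1.2 _ rfl
    have n1 : ∀ {z : YY D p} {r : ℕ}, Po D z r → z ≠ 1 := fun k e => k.2.1.ne_one (by rw [← k.2.2.2, e, orderOf_one])
    obtain ⟨b, e1, e2⟩ := TH.Ex.Mx.mix_T (hp := hp) C.typ p1.1 p2.1 (n1 p1) (n1 p2)
    have e3 : cX hp (zz F x (s j)) (vec D l b) ^ orderOf (s j) = 1 := by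
      rw [← cX_pow hp p2.1, ← p2.2.2.2, pow_orderOf_eq_one, cX_one]
    have := hs i
    rw [← hd]
    refine three (τ i) (t := ad D p (F.L.ι (s j))) (fun z => s1 ▸ (hc i j hij.symm z t).map (ad D p))
      (inj_three p2.2.1 (by rwa [s1, ho]) e3 e2) fun k => ?_
    have e4 : τ i y = ad D p (F.L.ι (s i)) := s2 ▸ rfl
    fin_cases k
    · obtain ⟨v, v1, v2, v3⟩ := vec_of hp p1.1 p2.1 a1.1
      exact ⟨y, v, _, v1, a2, e4 ▸ v2, v3.trans (congrArg (· • v) a3)⟩
    · obtain ⟨v, v1, v2, v3⟩ := vec_of hp p1.1 p2.1 (isRoot_vec hp M.toCoxeterSystem b.2)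
      exact ⟨y, v, _, v1, e1, e4 ▸ v2, v3⟩
    · obtain ⟨v, v1, v2, v3⟩ := vec_of hp p1.1 p2.1 (isRoot_vec hp M.toCoxeterSystem b.2).neg
      exact ⟨y, v, _, v1, fun e => e1 (inv_eq_one.1 (((isMC_cX hp p1.1).neg _).symm.trans e)), e4 ▸ v2,
        v3.trans (congrArg (· • v) ((isMC_cX hp p2.1).neg _))⟩
  · classical
    rw [sum_off (m := Mix τ) fun i j e => ?_]
    · exact Nat.mul_le_mul_left 2 (sum_le _ (fun i _ => a1 i) (fun i _ => have := hs i; low_of (a2 i)) _ _ hd τ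
        (Finset.nodup_toList _) fun i j e y z => (hc i j e y z).map (ad D p))
    obtain ⟨y, b1, b2, -⟩ := exists_elt (hs i) (hn i) hpp hpp
    obtain ⟨z, c1, c2, c3⟩ := exists_elt (hs j) (hn j) hpp b1
    have n1 : ∀ i (y : S i), (orderOf y).Prime → F.L.ι (inclusion (hT i) y) ≠ 1 := fun i y k e =>
      k.ne_one (by rw [← ho', e, orderOf_one])
    obtain ⟨a, b, v, -, e1, e2, e3, -, e4, e5, -⟩ := TH.Ex.Mx.mix hp C.typ (TH.Ex.Mx.tp_of_coprime hp b1.ne_zero c1.ne_zero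
      ((Nat.coprime_primes b1 c1).2 c3.symm) ((Nat.coprime_primes b1 hpp).2 b2) ((Nat.coprime_primes c1 hpp).2 c2)
      (ho' i y ▸ pow_orderOf_eq_one _) (ho' j z ▸ pow_orderOf_eq_one _) (hc i j e y z)) (n1 i y b1) (n1 j z c1)
    exact ⟨y, z, v, a, b, e3, e1, e2, e4, e5⟩

end Cfsg.Agent.N2.Ex.Mu
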