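import Cfsg.Agent.N2.Ex.Cb.Ref
import Cfsg.Agent.SB.Exc.Max.Crd
import Cfsg.Agent.SB.Low.TabA

/-!
# N2 (S3519): `p`-subgroups of centralisers, for an abstract datum (helper51)

* `le_card_S` : `q ^ |A| ≤ |U_A ^ F|`;
* `up` : the order of a `p`-subgroup of `C(y) ^ F`;
* `low` : a large `p`-subgroup in the group of a union `Θ` of components (simply laced types).
-/

set_option autoImplicit false
set_option linter.unusedSectionVars false

namespace Cfsg.Agent.N2.Ex.Mu.PU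

open CoxeterSystem Cfsg.Agent.ChevalleyStructure.CoxeterGeom Cfsg.Agent.Tits.Roots Cfsg.Agent.Nodes.Reps
  Cfsg.Agent.Nodes.BNOf Cfsg.Agent.Nodes.Coroot Cfsg.Agent.Nodes.Slope Cfsg.Agent.DL.Base Cfsg.Agent.DL
  Cfsg.Agent.SB.Exc Cfsg.Agent.SB.Exc.Max Cfsg.Agent.SB.Exc.Card
open scoped commutatorElement

attribute [local instance] fintypeSmp decSmp

variable {p : ℕ} [Fact p.Prime] {k : Type} [Field k] [CharP k p] {Y : Type} [Group Y] {N : Type} [Fintype N]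
  [DecidableEq N] {ρ : Y →* GL N k} {F : MulAut Y} {G : Subgroup Y} [IsAlgClosed k] {n : ℕ}

theorem btwn_self (D : Datum p ρ F G) {a c : D.I → ℤ} (ha : D.Rt a) (h : Btwn D.cs D.h a a c) : c = a := by
  obtain ⟨hz, m, i, j, hm, hi, hj, e⟩ := h
  exact eq_of_cross hz ha hm (add_pos hi hj) (by rw [e, add_smul])

/-- the rational points of a unipotent group, lower bound -/
theorem le_card_S (h : Fq p ρ F n) (D : Datum p ρ F G) : ∀ (j : ℕ) (A : Set (D.I → ℤ)), D.Uni A →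
    (∀ a ∈ A, D.g a ∈ A) → A.ncard = j → (p ^ n) ^ j ≤ Nat.card ↥(D.S A ⊓ fix F) := by
  intro j
  induction j using Nat.strong_induction_on with
  | _ j ih =>
  intro A hA hg hj
  have fin : ∀ B, Finite ↥(D.S B ⊓ fix F) := fun B => D.amb.finite_GF (D.S B)
  have hfin : A.Finite := D.finite_roots.subset hA.root
  obtain ⟨lam, hl⟩ := hA.pos
  obtain ⟨L, hL, hLA⟩ := exists_conv hA.root lam hl
  rcases L with _ | ⟨r, L⟩
  · obtain rfl : A = ∅ := Set.eq_empty_of_forall_notMem fun a ha => by simpa using (hLA a).2 ha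
    rw [← hj, Set.ncard_empty, pow_zero]
    exact Nat.card_pos
  obtain ⟨⟨f, hf0, hf⟩, -⟩ := hL
  have hrA : r ∈ A := (hLA r).1 List.mem_cons_self
  have hr := hA.root r hrA
  have hf1 : ∀ a ∈ A, a ≠ r → 0 < f a := fun a ha e => hf a ((List.mem_cons.1 ((hLA a).2 ha)).resolve_left e)
  have hf2 : ∀ a ∈ A, 0 ≤ f a := fun a ha => by
    by_cases e : a = r
    exacts [e ▸ hf0.ge, (hf1 a ha e).le]
  have hbij := D.g_bijOn hA.root hg
  have mem : ∀ i, D.g^[i] r ∈ A := fun i => hbij.mapsTo.iterate i hrA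
  have ext : ∀ i, ∀ a ∈ A, ∀ a' ∈ A, a ≠ a' → ¬ Btwn D.cs D.h a a' (D.g^[i] r) := by
    intro i
    induction i with
    | zero =>
      intro a ha a' ha' hne hb
      by_cases e : a = r
      · exact (btwn_pos' hb.symm f (hf1 a' ha' fun e' => hne (e.trans e'.symm)) (hf2 a ha)).ne' hf0
      · exact (btwn_pos' hb f (hf1 a ha e) (hf2 a' ha')).ne' hf0
    | succ i ih =>
      intro a ha a' ha' hne hb
      obtain ⟨b, hb1, rfl⟩ := hbij.surjOn ha
      obtain ⟨b', hb2, rfl⟩ := hbij.surjOn ha'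
      rw [Function.iterate_succ_apply', D.btwn_g (hA.root b hb1) (hA.root b' hb2) (hA.root _ (mem i))] at hb
      exact ih b hb1 b' hb2 (fun e => hne (congrArg _ e)) hb
  have per : r ∈ Function.periodicPts D.g := by
    have := hfin.to_subtype
    obtain ⟨m, hm, e⟩ := (hbij.mapsTo.restrict_inj.2 hbij.injOn).mem_periodicPts ⟨r, hrA⟩
    exact ⟨m, hm, by
      have := congrArg Subtype.val e
      rwa [Set.MapsTo.coe_iterate_restrict] at this⟩
  set m := Function.minimalPeriod D.g r with hm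
  have hm0 : 0 < m := Function.minimalPeriod_pos_of_mem_periodicPts per
  have em : D.g^[m] r = r := Function.iterate_minimalPeriod
  set O := (fun j => D.g^[j] r) '' Set.Iio m with hO
  have hOA : O ⊆ A := by rintro _ ⟨i, -, rfl⟩; exact mem i
  have memO : ∀ i, D.g^[i] r ∈ O := fun i => ⟨i % m, Nat.mod_lt _ hm0, Function.iterate_mod_minimalPeriod_eq⟩
  have hrO : r ∈ O := memO 0
  have hgO : ∀ b ∈ O, D.g b ∈ O := by
    rintro _ ⟨i, -, rfl⟩
    exact Function.iterate_succ_apply' D.g i r ▸ memO (i + 1)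
  have cO : O.ncard = m := by
    rw [hO, Set.InjOn.ncard_image Function.iterate_injOn_Iio_minimalPeriod, ← Finset.coe_range, Set.ncard_coe_finset,
      Finset.card_range]
  have c1 : (A \ O).ncard + m = j := by rw [← cO, Set.ncard_sdiff_add_ncard_of_subset hOA hfin, hj]
  have cl : D.Cl (A \ O) := ⟨fun a ha => hA.root a ha.1, fun a ha a' ha' c hc => ⟨hA.cl.btw a ha.1 a' ha'.1 c hc, by
    rintro ⟨i, hi, rfl⟩
    by_cases e : a = a'
    · subst e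
      exact ha.2 ⟨i, hi, btwn_self D (hA.root a ha.1) hc⟩
    · exact ext i a ha.1 a' ha'.1 e hc⟩⟩
  have ih' := ih _ (by omega) (A \ O) (hA.subset cl Set.sdiff_subset) (fun a ha => ⟨hg a ha.1, fun h1 => by
    obtain ⟨b, hb, e⟩ := (D.g_bijOn (fun b hb => hA.root b (hOA hb)) hgO).surjOn h1
    exact ha.2 (hbij.injOn (hOA hb) ha.1 e ▸ hb)⟩) rfl
  obtain ⟨κ, H⟩ := exists_crd_uni crel_btwn hA hOA (by
    rintro a ha a' ha' hne _ ⟨i, -, rfl⟩
    exact ext i a ha a' ha' hne)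
  obtain ⟨c, hc0, hc⟩ := D.F_pow_x m hr
  rw [em, h.sum_ex D hr hm0 em] at hc
  have he : 0 < n * m := Nat.mul_pos h.1 hm0
  have hQ : 1 < p ^ (n * m) := Nat.one_lt_pow he.ne' (Fact.out : p.Prime).one_lt
  obtain ⟨d, hd⟩ := IsAlgClosed.exists_pow_nat_eq c⁻¹ (Nat.sub_pos_of_lt hQ)
  have hd0 : d ≠ 0 := by
    rintro rfl
    rw [zero_pow (Nat.sub_pos_of_lt hQ).ne'] at hd
    exact inv_ne_zero hc0 hd.symm
  have hd1 : c * d ^ p ^ (n * m) = d := by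
    rw [← Nat.sub_add_cancel hQ.le, pow_succ, hd, ← mul_assoc, mul_inv_cancel₀ hc0, one_mul]
  have key : ∀ t : {a : k // a ^ p ^ (n * m) = a}, ∃ y ∈ D.S A, F y = y ∧ κ r y = d * t := by
    intro t
    have h1 : (F ^ m) (D.x r (d * t)) = D.x r (d * t) := by rw [hc, mul_pow, t.2, ← mul_assoc, hd1]
    have h2 : ∀ i, (F ^ i) (D.x r (d * t)) ∈ D.S A := fun i =>
      pow_mem_of_maps (F := F) (H := (D.S A : Set Y)) (fun y hy => D.F_mem_S hA.root hg hy) i (x_mem_S hrA hr _)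
    obtain ⟨y, hy, h3, h4⟩ := H.exists_fix hg hgO
      (t := fun b => ∑ i ∈ Finset.range m, κ b ((F ^ i) (D.x r (d * t)))) fun b hb => by
        have h5 := Finset.sum_range_succ (fun i => κ (D.g b) ((F ^ i) (D.x r (d * t)))) m
        rw [Finset.sum_range_succ', h1, pow_zero, MulAut.one_apply] at h5
        rw [← add_right_cancel h5, sum_pow_char_pow, Finset.mul_sum]
        exact Finset.sum_congr rfl fun i _ => by rw [pow_succ', MulAut.mul_apply, H.mapF hg hb (hgO b hb) (h2 i)]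
    refine ⟨y, hy, h3, (h4 r hrO).trans ?_⟩
    rw [Finset.sum_eq_single_of_mem 0 (Finset.mem_range.2 hm0) fun i hi h0 => ?_]
    · exact H.self r hrO _
    · obtain ⟨c', -, h5⟩ := D.F_pow_x i hr
      rw [h5]
      exact H.ne r hrO _ (mem i) (fun e => h0 (Function.iterate_injOn_Iio_minimalPeriod
        (Finset.mem_range.1 hi) hm0 e)) _
  choose y hy hF hκ using key
  have sub : D.S (A \ O) ≤ D.S A := RGD.Sup_mono Set.sdiff_subset
  have val : ∀ t, ∀ v ∈ D.S (A \ O), κ r (y t * v) = d * t := fun t v hv => by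
    rw [H.mul r hrO _ (hy t) _ (sub hv), hκ, H.zero_of_mem hrO Set.sdiff_subset (fun h => h.2 hrO) hv, add_zero]
  have h1 := Nat.card_le_card_of_injective (fun z : {a : k // a ^ p ^ (n * m) = a} × ↥(D.S (A \ O) ⊓ fix F) =>
    (⟨y z.1 * z.2, mul_mem (hy _) (sub z.2.2.1), mul_mem (hF _) z.2.2.2⟩ : ↥(D.S A ⊓ fix F))) (by
      rintro ⟨t, v⟩ ⟨t', v'⟩ e
      have e1 : y t * v = y t' * v' := congrArg Subtype.val e
      have e2 := val t v v.2.1
      rw [e1, val t' v' v'.2.1] at e2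
      obtain rfl : t' = t := Subtype.ext (mul_left_cancel₀ hd0 e2)
      rw [Subtype.ext (mul_left_cancel e1)])
  rw [Nat.card_prod, card_pow_eq he] at h1
  refine le_trans ?_ ((Nat.mul_le_mul_left _ ih').trans h1)
  rw [pow_mul, ← pow_add, add_comm, c1]

variable {D : Datum p ρ F G}

theorem rf_Sz {Z : Set Y} {b : D.I → ℤ} (hb : b ∈ D.Sz Z) : ∀ a ∈ D.Sz Z, D.act (D.rf b) a ∈ D.Sz Z := fun a ha =>
  ⟨ha.1.act _, by
    rw [D.act_rf hb.1]
    exact (D.Lam Z).sub_mem ha.2 ((D.Lam Z).zsmul_mem hb.2 _)⟩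

/-- a union of components of the roots trivial on `Z`, simply laced types -/
structure Cp (D : Datum p ρ F G) (Z : Set Y) (Θ : Set (D.I → ℤ)) : Prop where
  h4 : ∀ i j, D.M i j ≠ 4
  h6 : ∀ i j, D.M i j ≠ 6
  sub : Θ ⊆ D.Sz Z
  act : ∀ w, (∀ a ∈ D.Sz Z, D.act w a ∈ D.Sz Z) → ∀ a ∈ Θ, D.act w a ∈ Θ

variable {Z : Set Y} {Θ : Set (D.I → ℤ)}

theorem Cp.neg (H : Cp D Z Θ) {a : D.I → ℤ} (ha : a ∈ Θ) : -a ∈ Θ :=
  D.act_rf_self (H.sub ha).1 ▸ H.act _ (rf_Sz (H.sub ha)) a ha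

theorem Cp.btw (H : Cp D Z Θ) {a b c : D.I → ℤ} (ha : a ∈ Θ) (hb : b ∈ D.Sz Z) (h1 : a ≠ b) (h2 : a ≠ -b)
    (hc : Btwn D.cs D.h b a c) : c ∈ Θ := by
  obtain ⟨h3, rfl⟩ := SB.Low.Tab.btw_key D.cs D.h H.h4 H.h6 hb.1 (H.sub ha).1
    (((SB.Low.Tab.cpr_range D.cs D.h H.h4 H.h6 (H.sub ha).1 hb.1).resolve_left fun h => h1 h.1).resolve_left
      fun h => h2 h.1) hc
  have h4 := H.act _ (rf_Sz hb) a ha
  rwa [D.act_rf hb.1, h3, neg_smul, one_smul, sub_neg_eq_add, add_comm] at h4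

/-- the centraliser normalises the group of the components -/
theorem Cp.norm (H : Cp D Z Θ) (hZ : Z ⊆ D.T) {y : Y} (hy : y ∈ G) (hc : y ∈ Subgroup.centralizer Z) {u : Y}
    (hu : u ∈ D.S Θ) : y * u * y⁻¹ ∈ D.S Θ := by
  obtain ⟨c, hc1, m, ⟨w, hm⟩, hmc, rfl⟩ := D.exists_cen_form hZ hy hc
  have h1 := D.conj_mem_S hm (fun a ha => (H.sub ha).1) (H.act w fun a ha => D.act_mem_Sz hZ hm hmc ha) hu
  have h2 := conj_S_S (B := Θ) D.Sz_root (fun b hb a ha u hu v hv => by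
    have h3 : v ∈ D.S Θ := RGD.le_Sup (X := D.X) ha hv
    by_cases e : b ∈ Θ
    · have h4 : u ∈ D.S Θ := RGD.le_Sup (X := D.X) e hu
      exact mul_mem (mul_mem h4 h3) (inv_mem h4)
    · have h4 : a ≠ b := fun k => e (k ▸ ha)
      have h5 : a ≠ -b := fun k => e (neg_neg b ▸ k ▸ H.neg ha)
      have h6 := mul_mem (RGD.Sup_mono (fun c hc => H.btw ha hb h4 h5 hc)
        (D.comm hb.1 (H.sub ha).1 h4.symm (fun k => h5 (by rw [k, neg_neg])) hu hv)) h3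
      rwa [commutatorElement_def, inv_mul_cancel_right] at h6) hc1 _ h1
  convert h2 using 1
  group

theorem Cp.exists_uni (H : Cp D Z Θ) (h : Fq p ρ F n) (hZ : Z ⊆ D.T) (hF : ∀ a ∈ D.Sz Z, D.g a ∈ D.Sz Z)
    (hg : ∀ a ∈ Θ, D.g a ∈ Θ) : ∃ U : Subgroup Y, (∀ u ∈ U, F u = u ∧ (∃ j, u ^ p ^ j = 1) ∧ u ∈ D.S Θ) ∧
      (p ^ n) ^ Θ.ncard ≤ Nat.card U ^ 2 := by
  obtain ⟨y, hy, hy', hq⟩ := (D.sub hZ hF rfl).exists_qs
  have := finite_group D.cs D.h (D.Lam Z)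
  let A : Set ((D.sub hZ hF rfl).I → ℤ) := {c | c ∈ RGD.Pos (D.sub hZ hF rfl).cs (D.sub hZ hF rfl).h ∧ D.io Z c ∈ Θ}
  have hA : ((D.sub hZ hF rfl).conj hy hy').Uni A := Datum.uni_of_subset_pos _
    ⟨fun _ h => h.1.1, fun a ha b hb c hc => ⟨(D.sub hZ hF rfl).cl_pos.btw a ha.1 b hb.1 c hc, by
      by_cases e : a = b
      · subst e
        rw [btwn_self (D.sub hZ hF rfl) ha.1.1 hc]
        exact ha.2
      · refine H.btw ha.2 (H.sub hb.2) ((D.io_injective Z).ne e) ?_ (btwn_iff.1 hc).symm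
        rw [← map_neg]
        exact (D.io_injective Z).ne (ne_neg_of_nonneg ha.1.1 ha.1.2 hb.1.2)⟩⟩ fun _ h => h.1
  have hgA : ∀ c ∈ A, ((D.sub hZ hF rfl).conj hy hy').g c ∈ A := fun c hc =>
    ⟨⟨((D.sub hZ hF rfl).conj hy hy').g_root c hc.1.1, hq c hc.1.1 hc.1.2⟩, by
      rw [Datum.conj_g, ← D.act_subW hZ hF rfl, D.sub_g hZ hF rfl hc.1.1]
      refine H.act _ (fun a ha => ?_) _ (hg _ hc.2)
      obtain ⟨b, hb, rfl⟩ := (D.io_roots Z).ge ha
      rw [D.act_subW hZ hF rfl]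
      exact (D.io_mem_Sz Z).2 (hb.act _)⟩
  refine ⟨((D.sub hZ hF rfl).conj hy hy').S A ⊓ fix F, fun u hu => ⟨hu.2, pel_of_uni hA hu.1, ?_⟩,
    le_trans ?_ (Nat.pow_le_pow_left (le_card_S h ((D.sub hZ hF rfl).conj hy hy') _ A hA hgA rfl) 2)⟩
  · have h1 := hu.1
    rw [Datum.conj_S, Datum.sub_S] at h1
    have h2 := H.norm hZ (D.cen_le_G Z hy) (D.cen_le_centralizer hZ hy)
      (RGD.Sup_mono (by rintro _ ⟨c, hc, rfl⟩; exact hc.2) (Nodes.Reps.mem_cj.1 h1))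
    convert h2 using 1
    group
  · rw [← pow_mul (p ^ n)]
    refine Nat.pow_le_pow_right (pow_pos (Fact.out : p.Prime).pos _) ?_
    have h0 : (D.io Z '' A).Finite := D.finite_roots.subset (by rintro _ ⟨c, hc, rfl⟩; exact (H.sub hc.2).1)
    have h1 : Θ ⊆ D.io Z '' A ∪ Neg.neg '' (D.io Z '' A) := fun a ha => by
      obtain ⟨b, hb, rfl⟩ := (D.io_roots Z).ge (H.sub ha)
      rcases IsRoot.pos_or_neg hb with e | e
      · exact Or.inl ⟨b, ⟨⟨hb, e⟩, ha⟩, rfl⟩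
      · exact Or.inr ⟨_, ⟨-b, ⟨⟨IsRoot.neg hb, neg_nonneg.2 e⟩, by rw [map_neg]; exact H.neg ha⟩, rfl⟩,
          by rw [map_neg, neg_neg]⟩
    have h2 := (Set.ncard_le_ncard h1 (h0.union (h0.image _))).trans (Set.ncard_union_le _ _)
    rw [Set.ncard_image_of_injective _ neg_injective, Set.ncard_image_of_injective _ (D.io_injective Z)] at h2
    omega

theorem conj_Sz {y z : Y} (hz : z ∈ G) (hz' : z⁻¹ * F z ∈ D.NN) (hs : z⁻¹ * y * z ∈ D.T) :
    (D.conj hz hz').Sz {y} = D.Sz {z⁻¹ * y * z} := by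
  ext a
  have h1 := D.conj_χ hz hz' a hs
  rw [show z * (z⁻¹ * y * z) * z⁻¹ = y by group] at h1
  refine and_congr_right fun _ => ⟨fun h t ht => ?_, fun h t ht => ?_⟩
  · rw [ht, ← h1]
    exact h y rfl
  · rw [ht]
    exact h1.trans (h _ rfl)

/-- **The upper bound.** -/
theorem up (h : Fq p ρ F n) (D : Datum p ρ F G) {y x : Y} (hy : F y = y) (hx : x ∈ G) (hs : x * y * x⁻¹ ∈ D.T)
    {P : Subgroup Y} (hP : IsPGroup p P) (hG : P ≤ G) (hF : P ≤ fix F) (hc : P ≤ Subgroup.centralizer {y}) :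
    Nat.card P ^ 2 ≤ (p ^ n) ^ (D.Sz {x * y * x⁻¹}).ncard := by
  obtain ⟨z, hz, hz', hT, h1⟩ := exists_conj_le_T D (Z := {y}) (fun a ha => by rw [ha, hy]; rfl) (inv_mem hx)
    (fun a ha => by rw [ha, inv_inv]; exact hs)
  have h2 : z⁻¹ * y * z = x * y * x⁻¹ := by rw [h1 y rfl, inv_inv]
  have h3 := Cb.pc_cen_le h (D.conj hz hz') hT fun a => (D.conj hz hz').g_mem_Sz hT fun t ht => by rw [ht, hy]; rfl
  rw [conj_Sz hz hz' (h2 ▸ hs), h2] at h3
  refine (Nat.pow_le_pow_left ?_ 2).trans h3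
  have h4 : P ≤ GF F ((D.conj hz hz').cen {y}) := fun u hu => ⟨by
    obtain ⟨j, hj⟩ := hP ⟨u, hu⟩
    refine (D.conj hz hz').mem_cen_of_pow hT (hG hu) (hc hu) (j := j) ?_
    rw [show u ^ p ^ j = 1 from congrArg Subtype.val hj]
    exact one_mem _, hF hu⟩
  have := D.amb.finite_GF ((D.conj hz hz').cen {y})
  have : Finite P := Finite.of_injective _ (Subgroup.inclusion_injective h4)
  obtain ⟨j, hj⟩ := IsPGroup.iff_card.1 hP
  have h5 := Subgroup.card_dvd_of_le h4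
  rw [hj] at h5 ⊢
  exact Nat.pow_le_pow_right (Fact.out : p.Prime).pos
    (((Fact.out : p.Prime).pow_dvd_iff_le_factorization Nat.card_pos.ne').1 h5)

/-- **The lower bound.** -/
theorem low (h : Fq p ρ F n) (D : Datum p ρ F G) {y x : Y} (hy : F y = y) (hx : x ∈ G) (hs : x * y * x⁻¹ ∈ D.T)
    {Θ : Set (D.I → ℤ)} (H : Cp D {x * y * x⁻¹} Θ)
    (hg : ∀ w, (∀ a ∈ D.Sz {x * y * x⁻¹}, D.act w (D.g a) ∈ D.Sz {x * y * x⁻¹}) → ∀ a ∈ Θ, D.act w (D.g a) ∈ Θ) :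
    ∃ U : Subgroup Y, (∀ u ∈ U, F u = u ∧ (∃ j, u ^ p ^ j = 1) ∧ x * u * x⁻¹ ∈ D.S Θ) ∧
      (p ^ n) ^ Θ.ncard ≤ Nat.card U ^ 2 := by
  obtain ⟨z, hz, hz', hT, h1⟩ := exists_conj_le_T D (Z := {y}) (fun a ha => by rw [ha, hy]; rfl) (inv_mem hx)
    (fun a ha => by rw [ha, inv_inv]; exact hs)
  have h2 : z⁻¹ * y * z = x * y * x⁻¹ := by rw [h1 y rfl, inv_inv]
  have h3 : (D.conj hz hz').Sz {y} = D.Sz {x * y * x⁻¹} := by rw [conj_Sz hz hz' (h2 ▸ hs), h2]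
  have h4 : ∀ a ∈ (D.conj hz hz').Sz {y}, (D.conj hz hz').g a ∈ (D.conj hz hz').Sz {y} := fun a =>
    (D.conj hz hz').g_mem_Sz hT fun t ht => by rw [ht, hy]; rfl
  have H' : Cp (D.conj hz hz') {y} Θ := ⟨H.h4, H.h6, h3 ▸ H.sub, h3 ▸ H.act⟩
  obtain ⟨U, h5, h6⟩ := H'.exists_uni h hT h4 (hg _ (h3 ▸ h4))
  refine ⟨U, fun u hu => ⟨(h5 u hu).1, (h5 u hu).2.1, ?_⟩, h6⟩
  have h7 := (h5 u hu).2.2
  rw [Datum.conj_S] at h7
  have h8 := H.norm (Set.singleton_subset_iff.2 hs) (mul_mem hx hz) (Subgroup.mem_centralizer_singleton_iff.2 (by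
    nth_rewrite 1 [← h2]
    group)) (Nodes.Reps.mem_cj.1 h7)
  convert h8 using 1
  group

end Cfsg.Agent.N2.Ex.Mu.PU
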