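import Cfsg.Agent.N2.Ex.Mu.Defs
import Cfsg.Agent.N2.Ex.Mu.PUa
import Cfsg.Agent.SB.Exc.W.MC

/-!
# N2 (S3519), several components: the box `PU` (helper51)
-/

set_option autoImplicit false
set_option linter.unusedSectionVars false

namespace Cfsg.Agent.N2.Ex.Mu

open CoxeterSystem Cfsg Cfsg.Lie Cfsg.Lie.ChevalleyDatum
open Cfsg.Agent.ChevalleyStructure Cfsg.Agent.ChevalleyStructure.CoxeterGeom Cfsg.Agent.Tits.Roots Cfsg.Agent.Nodes
  Cfsg.Agent.Nodes.BNOf Cfsg.Agent.Nodes.RGDChev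
open Cfsg.Agent.KFacts.RgdChevCoord Cfsg.Agent.BpExc.Fr Cfsg.Agent.BpExc.LangFr
open Cfsg.Agent.H469.Exc Cfsg.Agent.H316.U6 Cfsg.Agent.H129.TorusChar Cfsg.Agent.DS.Ex Cfsg.Agent.DS.Nt Cfsg.Agent.SB.Exc

namespace PU

variable {D : ChevalleyDatum} {l : ℕ} {M : CoxeterMatrix (Fin l)} {hp : IsType D l M} {p : ℕ} [Fact p.Prime]

/-- the large components are kept by the additive maps which keep the roots of `s` -/
theorem th_map {s : YY D p} (u : (Fin l → ℤ) →+ (Fin l → ℤ)) (hu : Function.Injective u)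
    (h : ∀ a ∈ Ps hp p {s}, u a ∈ Ps hp p {s}) : ∀ a ∈ Th hp p s, u a ∈ Th hp p s := fun a ha => by
  have := finW hp
  exact ⟨h a ha.1, ha.2.trans (Set.ncard_le_ncard_of_injOn u
    (fun b hb => ⟨h b hb.1, by rw [← map_sub]; exact h _ hb.2⟩) hu.injOn
    ((RGD.finite_roots (cs := M.toCoxeterSystem) (h := hp.isCartan)).subset fun _ hb => hb.1.1))⟩

variable (hp) in
theorem rep_inj (w : M.Group) : Function.Injective (rep M.toCoxeterSystem hp.isCartan w) := fun a b e => by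
  rw [← rep_inv_apply M.toCoxeterSystem hp.isCartan w a, e, rep_inv_apply]

end PU

/-- **[PU]** -/
theorem boxPU : BoxPU := by
  intro D l M hp p _ tw f G _ _ T H F C a x _ hx
  rw [F.hι] at hx ⊢
  let D₀ := DL.Ex.chevFr hp (locFin p) F.m.he F.m.frob F.m.fr
  have hq := CI.fq F.m.he F.m.frob
  have hS : D₀.Sz {x * F.m.ι a * x⁻¹} = Ps hp p {x * F.m.ι a * x⁻¹} :=
    Cb.Sz_eq F.m.he F.m.frob F.m.fr (Set.singleton_subset_iff.2 hx)
  have e : ∀ j, (p ^ F.m.e) ^ j = (p ^ f) ^ j := fun j => congrArg (· ^ j) F.m.hq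
  refine ⟨fun P hP hc => ?_, ?_⟩
  · have h1 := PU.up hq D₀ (F.m.fix a) (Subgroup.mem_top x) hx (hP.map F.m.ι) le_top
      (by rintro _ ⟨u, -, rfl⟩; exact F.m.fix u) (by
        rintro _ ⟨u, hu, rfl⟩
        rw [Subgroup.mem_centralizer_singleton_iff, ← map_mul, ← map_mul,
          Subgroup.mem_centralizer_singleton_iff.1 (hc hu)])
    rw [Subgroup.card_map_of_injective F.m.inj, e] at h1
    exact h1.trans_eq (congrArg (fun A : Set (Fin l → ℤ) => (p ^ f) ^ A.ncard) hS)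
  by_cases hl : l = 4
  · refine ⟨⊥, IsPGroup.of_bot, fun y hy => ?_, fun h => absurd hl h⟩
    rw [Subgroup.mem_bot.1 hy, map_one, mul_one, mul_inv_cancel]
    exact one_mem _
  obtain ⟨h4, h6⟩ := (W.laced hp C.typ).resolve_left fun k => hl ((typ_l hp).1 k)
  obtain ⟨U, h1, h2⟩ := PU.low hq D₀ (F.m.fix a) (Subgroup.mem_top x) hx (Θ := Th hp p (x * F.m.ι a * x⁻¹))
    ⟨h4, h6, fun b hb => hS.ge hb.1, fun w hw => PU.th_map (rep M.toCoxeterSystem hp.isCartan w).toAddMonoidHom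
      (PU.rep_inj hp w) fun b hb => hS.le (hw b (hS.ge hb))⟩
    fun w hw => PU.th_map ((rep M.toCoxeterSystem hp.isCartan w).toAddMonoidHom.comp F.m.g.toAddMonoidHom)
      ((PU.rep_inj hp w).comp F.m.g.injective) fun b hb => hS.le (hw b (hS.ge hb))
  have h3 : U ≤ F.m.ι.range := fun u hu => by
    obtain ⟨k1, ⟨j, k2⟩, -⟩ := h1 u hu
    obtain ⟨m, k3, k4⟩ := F.m.idx u k1
    exact (Subgroup.zpowers_le.2 k4) (mem_zpowers_pow_iff.2
      ((k3.pow_right j).coprime_dvd_right (orderOf_dvd_of_pow_eq_one k2)))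
  refine ⟨U.comap F.m.ι, fun y => ?_, fun y hy => (h1 _ hy).2.2, fun _ => ?_⟩
  · obtain ⟨j, hj⟩ := (h1 _ y.2).2.1
    exact ⟨j, Subtype.ext (F.m.inj (by rw [Subgroup.coe_pow, map_pow, hj, Subgroup.coe_one, map_one]))⟩
  · rwa [← Subgroup.card_map_of_injective F.m.inj, Subgroup.map_comap_eq_self h3, ← e]

end Cfsg.Agent.N2.Ex.Mu
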