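import Cfsg.Agent.N2.Ex.Mu.Defs
import Cfsg.Agent.N2.Ex.Mu.LatY

/-!
# N2, several components: the rank drops (helper60)

`boxRK : BoxRK`.
-/

set_option autoImplicit false
set_option linter.unusedSectionVars false
set_option maxRecDepth 100000

namespace Cfsg.Agent.N2.Ex.MuRk

open CoxeterSystem Cfsg Cfsg.Lie Cfsg.Lie.ChevalleyDatum
open Cfsg.Agent.ChevalleyStructure Cfsg.Agent.ChevalleyStructure.CoxeterGeom Cfsg.Agent.ChevalleyStructure.CoxeterGeomTypes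
  Cfsg.Agent.Tits.Roots Cfsg.Agent.Nodes Cfsg.Agent.Nodes.RGDChev Cfsg.Agent.Nodes.Coroot
open Cfsg.Agent.KFacts.RgdChevCoord Cfsg.Agent.H469.Exc Cfsg.Agent.H316.U6 Cfsg.Agent.H129.TorusChar
open Cfsg.Agent.DS.Ex Cfsg.Agent.DS.Nt Cfsg.Agent.H931.KC
open Cfsg.Agent.DS.Ex.Tor (RT)
open Cfsg.Agent.N2.Ex.Al Cfsg.Agent.N2.Ex.Al.Ck Cfsg.Agent.N2.Ex.Mu.Lt
open Submodule (span span_le subset_span)

/-- eigenvalues modulo `r` of an endomorphism of finite order -/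
theorem tot_le {Q : Type} [AddCommGroup Q] [Module ℤ Q] [Module.Finite ℤ Q] [Module.Free ℤ Q] (g : Module.End ℤ Q) {N : ℕ}
    (hN : 0 < N) (hg : g ^ N = 1) {r : ℕ} [Fact r.Prime] (β : Q →ₗ[ℤ] ZMod r) {x : Q} (h0 : β x ≠ 0) {k : ZMod r}
    (hk : ∀ x, β (g x) = k * β x) : ∃ d, 0 < d ∧ d.totient ≤ Module.finrank ℤ Q ∧ k ^ d = 1 := by
  let b := Module.finBasis ℤ Q
  refine H998.PiCy.Lat.exists_totient (LinearMap.toMatrix b b g).transpose hN ?_ (v := fun i => β (b i)) (fun h => h0 ?_)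
    (funext fun i => ?_)
  · rw [← Matrix.transpose_pow, LinearMap.toMatrix_pow, hg, LinearMap.toMatrix_one, Matrix.transpose_one]
  · rw [show β = 0 from b.ext fun i => congrFun h i]
    rfl
  · show ∑ j, ((LinearMap.toMatrix b b g j i : ℤ) : ZMod r) * β (b j) = k * β (b i)
    rw [← hk, ← b.sum_repr (g (b i)), map_sum]
    exact Finset.sum_congr rfl fun j _ => by rw [β.map_smul, LinearMap.toMatrix_apply, zsmul_eq_mul]

variable {D : ChevalleyDatum} {l : ℕ} {M : CoxeterMatrix (Fin l)} {hp : IsType D l M} {T : Tb}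

/-- the saturation -/
def sat (P : Submodule ℤ (LL l)) : Submodule ℤ (LL l) where
  carrier := {x | ∃ m : ℤ, m ≠ 0 ∧ m • x ∈ P}
  zero_mem' := ⟨1, one_ne_zero, by rw [smul_zero]; exact P.zero_mem⟩
  add_mem' := by
    rintro x y ⟨m, h1, h2⟩ ⟨n, h3, h4⟩
    refine ⟨m * n, mul_ne_zero h1 h3, ?_⟩
    rw [smul_add]
    exact P.add_mem (by rw [mul_comm, mul_smul]; exact P.smul_mem _ h2) (by rw [mul_smul]; exact P.smul_mem _ h4)
  smul_mem' := by
    rintro c x ⟨m, h1, h2⟩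
    exact ⟨m, h1, by rw [smul_comm]; exact P.smul_mem c h2⟩

theorem map_mem (u : LL l ≃+ LL l) {A B : Set (LL l)} (h : ∀ b ∈ A, u b ∈ B) {x : LL l} (hx : x ∈ span ℤ A) :
    u x ∈ span ℤ B :=
  (span_le (p := (span ℤ B).comap u.toAddMonoidHom.toIntLinearMap)).2 (fun b hb => subset_span (h b hb)) hx

/-- **the rank drops by the degree of a cyclotomic polynomial** -/
theorem drop {A B : Set (LL l)} (hB : B.Finite) (hAB : A ⊆ B) (u : LL l ≃+ LL l) (h1 : ∀ b, u b ∈ B ↔ b ∈ B)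
    (h2 : ∀ b ∈ A, u b ∈ A) {r : ℕ} [Fact r.Prime] (F : LL l →+ ℤ) (hs : ∀ x ∈ sat (span ℤ A), (r : ℤ) ∣ F x)
    {a : LL l} (ha : a ∈ B) (nz : ¬ (r : ℤ) ∣ F a) {k : ZMod r} (hk : ∀ b, (F (u b) : ZMod r) = k * F b) :
    ∃ d, 0 < d ∧ rk' A + d.totient ≤ rk' B ∧ k ^ d = 1 := by
  let U : Module.End ℤ (LL l) := u.toAddMonoidHom.toIntLinearMap
  have k1 : ∀ x ∈ span ℤ B, U x ∈ span ℤ B := fun x hx => map_mem u (fun b => (h1 b).2) hx
  let g : Module.End ℤ (span ℤ B) := U.restrict k1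
  let S : Submodule ℤ (span ℤ B) := (sat (span ℤ A)).comap (span ℤ B).subtype
  have k2 : S ≤ S.comap g := fun x ⟨m, h3, h4⟩ => ⟨m, h3, by
    have := map_mem u h2 h4
    rwa [map_zsmul] at this⟩
  have : Module.IsTorsionFree ℤ (span ℤ B ⧸ S) := .of_smul_eq_zero fun c x h => by
    obtain ⟨x, rfl⟩ := Submodule.Quotient.mk_surjective S x
    rw [← Submodule.Quotient.mk_smul, Submodule.Quotient.mk_eq_zero] at h
    obtain ⟨m, h3, h4⟩ := h
    exact or_iff_not_imp_left.2 fun hc => (Submodule.Quotient.mk_eq_zero _).2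
      ⟨m * c, mul_ne_zero h3 hc, by rw [mul_smul]; exact h4⟩
  have : Finite {x // x ∈ B} := hB
  let ρ : Equiv.Perm {x // x ∈ B} := Equiv.Perm.subtypePerm u.toEquiv h1
  have k3 : ∀ (n : ℕ) (x : {x // x ∈ B}), (U ^ n) x = (ρ ^ n) x := fun n x => by
    induction n with
    | zero => rfl
    | succ n ih => rw [pow_succ', pow_succ', Module.End.mul_apply, ih]; rfl
  have k4 : g ^ orderOf ρ = 1 := LinearMap.ext fun x => Subtype.ext (by
    rw [Module.End.pow_restrict]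
    exact LinearMap.eqOn_span' (f := U ^ orderOf ρ) (g := 1) (fun b hb => by
      rw [k3 _ ⟨b, hb⟩, pow_orderOf_eq_one]; rfl) x.2)
  obtain ⟨d, a1, a2, a3⟩ := tot_le (S.mapQ S g k2) (orderOf_pos ρ) (by
      rw [← Submodule.mapQ_pow]
      exact Submodule.linearMap_qext _ (LinearMap.ext fun x => by
        show Submodule.Quotient.mk ((g ^ orderOf ρ) x) = Submodule.Quotient.mk x
        rw [k4, Module.End.one_apply]))
    (S.liftQ (((Int.castAddHom (ZMod r)).comp F).toIntLinearMap ∘ₗ (span ℤ B).subtype) fun x hx =>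
      (ZMod.intCast_zmod_eq_zero_iff_dvd _ r).2 (hs _ hx)) (x := Submodule.Quotient.mk ⟨a, subset_span ha⟩)
    (fun h => nz ((ZMod.intCast_zmod_eq_zero_iff_dvd _ r).1 h)) (k := k) fun x => by
      obtain ⟨x, rfl⟩ := Submodule.Quotient.mk_surjective S x
      exact hk x
  refine ⟨d, a1, ?_, a3⟩
  have k5 := Submodule.finrank_quotient_add_finrank S
  have k6 : rk' A ≤ Module.finrank ℤ S := by
    rw [rk', ← (Submodule.comapSubtypeEquivOfLe (Submodule.span_mono hAB)).finrank_eq]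
    exact Submodule.finrank_mono fun x hx => ⟨1, one_ne_zero, by rw [one_smul]; exact hx⟩
  rw [rk', rk'] at *
  omega

/-- no `r`-torsion -/
def TF (r : ℕ) (A : Set (LL l)) : Prop :=
  ∀ F : LL l →+ ℤ, (∀ a ∈ A, (r : ℤ) ∣ F a) → ∀ x ∈ sat (span ℤ A), (r : ℤ) ∣ F x

theorem tf_image {r : ℕ} {A : Set (LL l)} (u : LL l ≃+ LL l) (h : TF r (u '' A)) : TF r A := fun F hF x ⟨m, h1, h2⟩ => by
  have := h (F.comp u.symm.toAddMonoidHom) (by rintro _ ⟨a, ha, rfl⟩; simpa using hF a ha) (u x)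
    ⟨m, h1, by rw [← map_zsmul]; exact map_mem u (fun b hb => Set.mem_image_of_mem u hb) h2⟩
  simpa using this

/-- the value of a functional on the base -/
def pr (T : Tb) (l : ℕ) (R : Rw) (Y : List (List ℤ)) (i j : ℕ) : ℤ :=
  ∑ k : Fin l, T.vec l (R.Δ.getD j 0) k * vz l (Y.getD i []) k

/-- dual functionals with values prime to `r` -/
noncomputable def dua (T : Tb) (l r g : ℕ) (R : Rw) (Y : List (List ℤ)) : Bool :=
  aL (fun i => aL (fun j => cond (Nat.beq i j)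
    (!decide (pr T l R Y i j = 0) && (Nat.blt g R.Δ.length || !decide (pr T l R Y i j % r = 0)))
    (decide (pr T l R Y i j = 0))) R.Δ.length) R.Δ.length

theorem st_le (G : Gt hp T) {m : ℕ} {Δ : List ℕ} (h : T.rch m Δ = true) :
    span ℤ (St T l m) ≤ span ℤ (Set.range fun j : Fin Δ.length => T.vec l (Δ.getD j 0)) := by
  refine span_le.2 fun a ha => (G.rch h
    (S := {a | RT hp a ∧ a ∈ span ℤ (Set.range fun j : Fin Δ.length => T.vec l (Δ.getD j 0))})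
    ⟨fun _ h => h.1, fun a h => ⟨h.1.neg, neg_mem h.2⟩⟩ (fun a ha b hb => ⟨ac_rw hp ha.1 b ▸ rt_ac hp _ hb.1,
      sub_mem hb.2 (Submodule.smul_mem _ _ ha.2)⟩) 1 (fun d hd => ?_) ⟨a, ha, ac_one hp a⟩).2
  rw [ac_one]
  obtain ⟨j, hj, rfl⟩ := List.getElem_of_mem hd
  exact ⟨G.root _ (G.rch_lt h _ hd).1, subset_span ⟨⟨j, hj⟩, congrArg (T.vec l) (List.getD_eq_getElem _ _ hj)⟩⟩

theorem rk_le (G : Gt hp T) {m : ℕ} {Δ : List ℕ} (h : T.rch m Δ = true) : rk' (St T l m) ≤ Δ.length :=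
  (Submodule.finrank_mono (st_le G h)).trans ((finrank_range_le_card _).trans (Fintype.card_fin _).le)

theorem tf_st (G : Gt hp T) {R : Rw} (h : T.rch R.m R.Δ = true) {r g : ℕ} (hr : r.Prime) {Y : List (List ℤ)}
    (h' : dua T l r g R Y = true) (hg : rk' (St T l R.m) ≤ g) : TF r (St T l R.m) := by
  simp only [dua, aL_iff] at h'
  have k0 : ∀ i : Fin R.Δ.length, T.vec l (R.Δ.getD i 0) ∈ St T l R.m := fun i => by
    have h5 := G.rch_lt h (R.Δ.getD i 0) (by rw [List.getD_eq_getElem _ _ i.2]; exact List.getElem_mem i.2)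
    exact (G.mem_St h5.1).2 h5.2
  have k1 : ∀ i : Fin R.Δ.length, pr T l R Y i i ≠ 0 ∧ (g < R.Δ.length ∨ ¬ (r : ℤ) ∣ pr T l R Y i i) := fun i => by
    have h5 := h' i i.2 i i.2
    rw [Nat.beq_refl, cond_true, Bool.and_eq_true, Bool.or_eq_true, Nat.blt_eq, Bool.not_eq_true', Bool.not_eq_true',
      decide_eq_false_iff_not, decide_eq_false_iff_not, ← Int.dvd_iff_emod_eq_zero] at h5
    exact h5
  have k2 : ∀ (c : Fin R.Δ.length → ℤ) (i : Fin R.Δ.length),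
      psi (vz l (Y.getD i [])) (∑ j, c j • T.vec l (R.Δ.getD j 0)) = c i * pr T l R Y i i := fun c i => by
    rw [map_sum, Finset.sum_eq_single i (fun k _ hk => ?_) (fun h => absurd (Finset.mem_univ i) h), map_zsmul]
    · rfl
    · have h7 := h' i i.2 k k.2
      rw [show Nat.beq i k = false from Bool.eq_false_iff.2 fun h => hk (Fin.ext (Nat.eq_of_beq_eq_true h)).symm, cond_false,
        decide_eq_true_eq] at h7
      rw [map_zsmul]
      exact mul_eq_zero_of_right _ h7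
  have k3 : LinearIndependent ℤ fun i : Fin R.Δ.length => (⟨_, subset_span (k0 i)⟩ : span ℤ (St T l R.m)) := by
    refine LinearIndependent.of_comp (Submodule.subtype _) (Fintype.linearIndependent_iff.2 fun c hc i => ?_)
    have h5 := k2 c i
    rw [show ∑ j, c j • T.vec l (R.Δ.getD j 0) = 0 from hc, map_zero] at h5
    exact (mul_eq_zero.1 h5.symm).resolve_right (k1 i).1
  have k4 : R.Δ.length ≤ g := le_trans (by simpa using k3.fintype_card_le_finrank) hg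
  rintro F hF x ⟨m, h1, h2⟩
  obtain ⟨c, hc⟩ := (Submodule.mem_span_range_iff_exists_fun ℤ).1 (st_le G h h2)
  have k5 : ∀ i : Fin R.Δ.length, m * psi (vz l (Y.getD i [])) x = c i * pr T l R Y i i := fun i => by
    rw [← k2, hc, map_zsmul, smul_eq_mul]
  have k6 : (∏ i : Fin R.Δ.length, pr T l R Y i i) * F x = ∑ j : Fin R.Δ.length, psi (vz l (Y.getD j [])) x *
      (∏ i ∈ Finset.univ.erase j, pr T l R Y i i) * F (T.vec l (R.Δ.getD j 0)) := by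
    refine mul_left_cancel₀ h1 ?_
    rw [mul_left_comm, ← smul_eq_mul m (F x), ← map_zsmul, ← hc, map_sum, Finset.mul_sum, Finset.mul_sum]
    refine Finset.sum_congr rfl fun j _ => ?_
    rw [← mul_assoc, ← mul_assoc, k5, map_zsmul, smul_eq_mul, ← Finset.mul_prod_erase _ _ (Finset.mem_univ j)]
    ring
  have k7 := Nat.prime_iff_prime_int.1 hr
  refine (k7.dvd_or_dvd (k6 ▸ Finset.dvd_sum fun j _ => (hF _ (k0 j)).mul_left _ :)).resolve_left fun h3 => ?_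
  obtain ⟨i, -, h4⟩ := (k7.dvd_finsetProd_iff _).1 h3
  exact (k1 i).2.elim (not_lt.2 k4) fun h5 => h5 h4

theorem tf_of (G : Gt hp T) {L : List Rw} (hL : ∀ j < L.length, T.row L j = true) (hL0 : 0 < L.length)
    (hL1 : (rw0 L 0).m = 0) {r g e : ℕ} (hr : r.Prime) {Y : ℕ → List (List ℤ)}
    (h : aL (fun j => Nat.beq j e || dua T l r g (rw0 L j) (Y j)) L.length = true) {A : Set (LL l)} (h1 : Sy hp A)
    (h2 : Rc hp A) (hg : rk' A ≤ g) : TF r A ∨ e < L.length ∧ ∃ v, ac hp v '' A = St T l (rw0 L e).m := by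
  obtain ⟨j, hj, v, hv⟩ := G.cls_of hL hL0 hL1 h1 h2
  have h3 := hL j hj
  have h4 := aL_iff.1 h j hj
  rw [Tb.row, Bool.and_eq_true] at h3
  rw [Bool.or_eq_true, Nat.beq_eq] at h4
  rcases h4 with rfl | h4
  · exact Or.inr ⟨hj, v, hv⟩
  · exact Or.inl (tf_image (ac hp v) (hv ▸ tf_st G h3.1 hr h4 (by rwa [← hv, rk_image])))

/-- functionals -/
def zE6 (j : ℕ) : List (List ℤ) :=
  bif Nat.beq j 9 then [[1, 0, 0, 0, 0, -1], [0, 1, 0, 0, 0, -1], [0, 0, 1, 0, 0, -2], [0, 0, 0, 0, 0, 1]] else yE6.getD j []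

/-- functionals -/
def zE7 (j : ℕ) : List (List ℤ) :=
  bif Nat.beq j 12 then [[1, 0, 0, 0, 0, -1, 0], [0, 1, 0, 0, 0, -1, 0], [0, 0, 1, 0, 0, -2, 0], [0, 0, 0, 0, 0, 1, 0]]
  else bif Nat.beq j 21 then [[1, 0, 0, 0, 0, 0, -1], [0, 1, 0, 0, 0, 0, -1], [0, 0, 1, 0, 0, 0, -2], [0, 0, 0, 0, 1, 0, -2],
    [0, 0, 0, 0, 0, 0, 1]]
  else bif Nat.beq j 34 then [[1, 0, 0, 0, 0, 0, -1], [0, 1, 0, 0, 0, 0, -1], [0, 0, 1, 0, 0, 0, -2], [0, 0, 0, 1, 0, 0, -3],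
    [0, 0, 0, 0, 0, 0, 1]]
  else yE7.getD j []

/-- functionals -/
def zE8 (j : ℕ) : List (List ℤ) :=
  bif Nat.beq j 11 then [[1, 0, 0, 0, 0, -1, 0, 0], [0, 1, 0, 0, 0, -1, 0, 0], [0, 0, 1, 0, 0, -2, 0, 0],
    [0, 0, 0, 0, 0, 1, 0, 0]]
  else bif Nat.beq j 22 then [[1, 0, 0, 0, 0, 0, -1, 0], [0, 1, 0, 0, 0, 0, -1, 0], [0, 0, 1, 0, 0, 0, -2, 0],
    [0, 0, 0, 0, 1, 0, -2, 0], [0, 0, 0, 0, 0, 0, 1, 0]]
  else bif Nat.beq j 40 then [[1, 0, 0, 0, -2, 0, 0, 4], [0, 1, 0, 0, -3, 0, 0, 6], [0, 0, 1, 0, -4, 0, 0, 8],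
    [0, 0, 0, 1, -6, 0, 0, 12], [0, 0, 0, 0, -4, 1, 0, 8], [0, 0, 0, 0, -3, 0, 1, 6], [0, 0, 0, 0, 1, 0, 0, -2]]
  else yE8.getD j []

theorem duF4 : aL (fun j => Nat.beq j 99 || dua tbF4 4 3 3 (rw0 rwF4 j) (yF4.getD j [])) rwF4.length = true := by
  decide +kernel

theorem duE6 : aL (fun j => Nat.beq j 99 || dua tbE6 6 3 5 (rw0 rwE6 j) (zE6 j)) rwE6.length = true := by decide +kernel

theorem duE7 : aL (fun j => Nat.beq j 99 || dua tbE7 7 3 5 (rw0 rwE7 j) (zE7 j)) rwE7.length = true := by decide +kernel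

theorem duE8 : aL (fun j => Nat.beq j 99 || dua tbE8 8 3 5 (rw0 rwE8 j) (zE8 j)) rwE8.length = true := by decide +kernel

theorem dvE8 : aL (fun j => Nat.beq j 54 || dua tbE8 8 5 8 (rw0 rwE8 j) (zE8 j)) rwE8.length = true := by decide +kernel

/-- three is a good prime in small rank -/
theorem tf3 (hD : Typ D) {A : Set (LL l)} (h1 : Sy hp A) (h2 : Rc hp A) (hg : rk' A ≤ Mu.g3 l) : TF 3 A := by
  rcases hD with rfl | rfl | rfl | rfl
  · obtain rfl := (typ_l hp).1 rfl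
    exact (tf_of (gsF4 hp).toGt rowF4 (by decide) rfl Nat.prime_three duF4 h1 h2 hg).resolve_right fun h => absurd h.1 (by decide)
  · obtain rfl := (typ_l hp).2.1 rfl
    exact (tf_of (gsE6 hp).toGt rowE6 (by decide) rfl Nat.prime_three duE6 h1 h2 hg).resolve_right fun h => absurd h.1 (by decide)
  · obtain rfl := (typ_l hp).2.2.1 rfl
    exact (tf_of (gsE7 hp).toGt rowE7 (by decide) rfl Nat.prime_three duE7 h1 h2 hg).resolve_right fun h => absurd h.1 (by decide)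
  · obtain rfl := (typ_l hp).2.2.2 rfl
    exact (tf_of (gsE8 hp).toGt rowE8 (by decide) rfl Nat.prime_three duE8 h1 h2 hg).resolve_right fun h => absurd h.1 (by decide)

theorem mem_iff {H : AddSubgroup (LL l)} {i : Fin l} (h : ∀ j, j ≠ i → sr j ∈ H) (x : LL l) : x ∈ H ↔ x i • sr i ∈ H := by
  conv_lhs => rw [IsMC.eq_sum_sr x, ← Finset.add_sum_erase _ _ (Finset.mem_univ i)]
  exact H.add_mem_cancel_right (sum_mem fun j hj => zsmul_mem (h j (Finset.ne_of_mem_erase hj)) _)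

theorem d54 : (∀ j : Fin 8, j ≠ 4 → (rw0 rwE8 54).m.testBit j = true) ∧ (rw0 rwE8 54).m.testBit 119 = true ∧
    tbE8.vec 8 119 4 = 5 ∧ cL (fun _ => true) tbE8.n = 240 := by decide +kernel

/-- `A₄ A₄` is maximal -/
theorem tf5 {M : CoxeterMatrix (Fin 8)} {hp : IsType chevE8 8 M} {A : Set (LL 8)} (h1 : Sy hp A) (h2 : Rc hp A)
    {H : AddSubgroup (LL 8)} (hH : ∀ a ∈ A, a ∈ H) {F : LL 8 →+ ℤ} (hF : ∀ a ∈ A, (5 : ℤ) ∣ F a) {a : LL 8} (ha : a ∈ H)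
    (nz : ¬ (5 : ℤ) ∣ F a) {y : LL 8} (hy : y ∉ H) : TF 5 A := by
  have G := (gsE8 hp).toGt
  refine (tf_of G rowE8 (by decide) rfl Nat.prime_five dvE8 h1 h2
    ((Submodule.finrank_le _).trans (Module.finrank_fin_fun ℤ).le)).resolve_right fun ⟨_, v, hv⟩ => hy ?_
  have k0 : ∀ K : AddSubgroup (LL 8), (∀ a ∈ A, a ∈ K) → ∀ s < tbE8.n, (rw0 rwE8 54).m.testBit s = true →
      tbE8.vec 8 s ∈ K.comap (ac hp v⁻¹).toAddMonoidHom := fun K hK s h3 h4 => by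
    obtain ⟨b, b1, b2⟩ : tbE8.vec 8 s ∈ ac hp v '' A := hv ▸ (G.mem_St h3).2 h4
    rw [← b2, AddSubgroup.mem_comap, AddEquiv.coe_toAddMonoidHom, ac_inv]
    exact hK b b1
  have k1 : ∀ K : AddSubgroup (LL 8), (∀ a ∈ A, a ∈ K) → ∀ x, x ∈ K ↔ ac hp v x 4 • ac hp v⁻¹ (sr 4) ∈ K := fun K hK x => by
    have h3 := mem_iff (fun j hj => G.sim j ▸ k0 K hK j (G.lt_n j) (d54.1 j hj)) (ac hp v x)
    rwa [AddSubgroup.mem_comap, AddSubgroup.mem_comap, AddEquiv.coe_toAddMonoidHom, ac_inv, map_zsmul] at h3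
  have k2 := (k1 H hH _).1 (k0 H hH 119 (by decide) d54.2.1)
  rw [AddEquiv.coe_toAddMonoidHom, ac_inv', d54.2.2.1] at k2
  have k3 : ¬ (5 : ℤ) ∣ ac hp v a 4 := fun h => nz (Int.mem_zmultiples_iff.1
    ((k1 ((AddSubgroup.zmultiples 5).comap F) (fun a ha => Int.mem_zmultiples_iff.2 (hF a ha)) a).2
      (Int.mem_zmultiples_iff.2 (by rw [map_zsmul]; exact h.mul_right _))))
  obtain ⟨s, t, e⟩ := (Int.prime_iff_natAbs_prime.2 (by norm_num) : Prime (5 : ℤ)).irreducible.coprime_iff_not_dvd.2 k3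
  refine (k1 H hH y).2 (zsmul_mem ?_ _)
  have k4 := add_mem (zsmul_mem k2 s) (zsmul_mem ((k1 H hH a).1 ha) t)
  rwa [smul_smul, smul_smul, ← add_smul, e, one_smul] at k4

theorem c6 : aL (fun j => Nat.ble (rw0 rwE6 j).Δ.length 3 || (!Nat.beq (cL (rw0 rwE6 j).m.testBit tbE6.n) 12 &&
    !Nat.beq (cL (rw0 rwE6 j).m.testBit tbE6.n) 0) || Nat.beq (cL (fun a => aL (fun b => !(rw0 rwE6 j).m.testBit b ||
      Nat.beq (tbE6.c b a) 2) tbE6.n) tbE6.n) 6) rwE6.length = true := by decide +kernel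

/-- `A₂ A₂` does not occur -/
theorem rk6 {M : CoxeterMatrix (Fin 6)} {hp : IsType chevE6 6 M} {r : ℕ} [Fact r.Prime] {F : LL 6 →+ ℤ} {u : LL 6 ≃+ LL 6}
    (hu : ∀ b, RT hp (u b) ↔ RT hp b) {k : ZMod r} (hk : ∀ b, (F (u b) : ZMod r) = k * F b) (h4 : 4 ∣ orderOf k)
    (h : (Kl hp r F).ncard = 12 ∨ (Kl hp r F).ncard = 0) : rk' (Kl hp r F) ≤ 3 := by
  have G := (gsE6 hp).toGt
  obtain ⟨j, hj, v, hv⟩ := G.cls_of rowE6 (by decide) rfl (kl_sy r F) (kl_rc r F)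
  have h3 := rowE6 j hj
  have h5 := aL_iff.1 c6 j hj
  rw [Tb.row, Bool.and_eq_true] at h3
  rw [← ncard_ac (hp := hp) v, hv, G.ncard_St] at h
  simp only [Bool.or_eq_true, Bool.and_eq_true, Nat.ble_eq, Nat.beq_eq, Bool.not_eq_true', ← Bool.not_eq_true] at h5
  rcases h5 with (h5 | h5) | h5
  · rw [← rk_image (ac hp v), hv]
    exact (rk_le G h3.1).trans h5
  · exact absurd h (not_or.2 h5)
  exfalso
  have k1 : ({a | RT hp a ∧ ∀ b ∈ Kl hp r F, cp hp b a = 0} : Set (LL 6)).ncard = 6 := by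
    refine Eq.trans ?_ h5
    rw [← ncard_ac (hp := hp) v, ← G.ncard_eq (P := fun a => ∀ b ∈ St tbE6 6 (rw0 rwE6 j).m, cp hp b a = 0) fun a ha => ?_]
    · refine congrArg Set.ncard (Set.ext fun a => ⟨?_, fun ⟨a1, a2⟩ => ⟨_, ⟨rt_ac hp v⁻¹ a1, fun b hb => ?_⟩, ac_inv' hp v a⟩⟩)
      · rintro ⟨a, ⟨a1, a2⟩, rfl⟩
        refine ⟨rt_ac hp v a1, hv ▸ ?_⟩
        rintro _ ⟨b, hb, rfl⟩
        rw [cp_ac hp v b a1, a2 b hb]
      · rw [← cp_ac hp v b (rt_ac hp v⁻¹ a1), ac_inv']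
        exact a2 _ (hv ▸ ⟨b, hb, rfl⟩)
    · simp only [aL_iff, Bool.or_eq_true, Nat.beq_eq, Bool.not_eq_true', ← Bool.not_eq_true]
      refine ⟨fun h b hb => or_iff_not_imp_left.2 fun h1 => ?_, ?_⟩
      · have := h _ ⟨b, hb, not_not.1 h1, rfl⟩
        rw [G.cpe b hb a ha] at this
        omega
      · rintro h _ ⟨b, hb, h1, rfl⟩
        rw [G.cpe b hb a ha, (h b hb).resolve_left (not_not.2 h1)]
        rfl
  have hz := fun x : ℤ => ZMod.intCast_zmod_eq_zero_iff_dvd x r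
  have k2 : Set.MapsTo u (Kl hp r F) (Kl hp r F) := fun b hb =>
    ⟨(hu b).2 hb.1, by rw [← hz, hk, (hz _).2 hb.2, mul_zero]⟩
  have k3 : (Kl hp r F).Finite := Set.Finite.of_finite_image (hv ▸ G.fin_St _) (ac hp v).injective.injOn
  have k4 := pow_ncard (β := fun x => (F x : ZMod r)) (Set.finite_of_ncard_ne_zero (k1.trans_ne (by norm_num))) (u := u)
    (fun a ha => ⟨(hu a).2 ha.1, fun b hb => by
      obtain ⟨c, hc, rfl⟩ := ((k3.injOn_iff_bijOn_of_mapsTo k2).1 u.injective.injOn).surjOn hb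
      rw [cp_aut (gsE6 hp) hu hc.1 ha.1, ha.2 c hc]⟩)
    (fun a ha h0 => by
      have := ha.2 a ⟨ha.1, (hz _).1 h0⟩
      rw [cp_self hp ha.1] at this
      omega) hk
  rw [k1] at k4
  exact absurd (h4.trans k4) (by norm_num)

variable {p : ℕ} [Fact p.Prime] {t : YY D p}

theorem cast_eq {r : ℕ} (hr : r.Prime) {ζ : KK p} (a1 : IsPrimitiveRoot ζ r) {F : LL l →+ ℤ} (a2 : ∀ x, cX hp t x = ζ ^ F x)
    {k : ℕ} {a b : LL l} (h : cX hp t a = cX hp t b ^ k) : (F a : ZMod r) = (k : ZMod r) * F b := by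
  have h0 := a1.ne_zero hr.ne_zero
  rw [a2, a2, ← zpow_natCast, ← zpow_mul] at h
  rw [← Int.cast_natCast, ← Int.cast_mul, eq_comm, ZMod.intCast_eq_intCast_iff_dvd_sub, ← a1.zpow_eq_one_iff_dvd,
    zpow_sub₀ h0, h, mul_comm, div_self (zpow_ne_zero _ h0)]

variable (hp) in
/-- the common kernel -/
def kr (Z : Set (YY D p)) (hZ : Z ⊆ TT D (KK p)) : AddSubgroup (LL l) where
  carrier := {x | ∀ z ∈ Z, cX hp z x = 1}
  zero_mem' z hz := (isMC_cX hp (hZ hz)).zero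
  add_mem' hx hy z hz := by rw [(isMC_cX hp (hZ hz)).add, hx z hz, hy z hz, mul_one]
  neg_mem' hx z hz := by rw [(isMC_cX hp (hZ hz)).neg, hx z hz, inv_one]

theorem two (hD : Typ D) {Z : Set (YY D p)} {r n k : ℕ} (hZ : Z ⊆ TT D (KK p)) (ht : Mu.Po D t r) (nz : Mu.NZ hp p Z t)
    (hz : Mu.Rz hp p Z t k) (hn : n ∣ orderOf (k : ZMod r))
    (h : 7 ≤ r ∨ r = 5 ∧ (l ≠ 8 ∨ Mu.nR hp p Z < 240) ∨ r = 3 ∧ Mu.rk hp p Z ≤ Mu.g3 l) :
    Mu.rk hp p (insert t Z) + n.totient ≤ Mu.rk hp p Z := by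
  obtain ⟨t1, hr, t2, t3⟩ := ht
  have : Fact r.Prime := ⟨hr⟩
  obtain ⟨ζ, F, a1, a2, a3, a4⟩ := exists_F hp t1 hr t2 (t3 ▸ pow_orderOf_eq_one t)
  obtain ⟨u, u1, u2, u3⟩ := hz
  obtain ⟨a, b1, b2⟩ := nz
  have hZ' := Set.insert_subset t1 hZ
  have e := ps_insert hp hZ t1
  have k0 : ∀ a ∈ Ps hp p (insert t Z), (r : ℤ) ∣ F a := fun a ha => (a3 a).1 (((mem_Ps hZ').1 ha).2 t (Set.mem_insert _ _))
  have k1 : 5 ≤ r → (D = chevE8 → 7 ≤ r) → ∀ x ∈ sat (span ℤ (Ps hp p (insert t Z))), (r : ℤ) ∣ F x :=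
    fun h5 h7 x ⟨m, h1, h2⟩ => by
      rw [← Submodule.mem_toAddSubgroup, Submodule.span_int_eq_addSubgroupClosure, e, a4] at h2
      exact dvd_of_smul hr (hr_lt hp hD h5 h7) F h1 (AddSubgroup.closure_mono Set.inter_subset_right h2)
  obtain ⟨d, c1, c2, c3⟩ := drop (A := Ps hp p (insert t Z)) (B := Ps hp p Z)
    (((Set.finite_lt_nat D.nroots).image (vec D l)).subset fun a h =>
      (isRoot_iff hp M.toCoxeterSystem a).1 ((mem_Ps hZ).1 h).1) (e ▸ Set.inter_subset_left) u u2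
    (fun b hb => by
      rw [e] at hb ⊢
      exact ⟨(u2 b).2 hb.1, (mem_ps hp t1).2 ⟨(u1 b).2 ((mem_ps hp t1).1 hb.2).1, by
        rw [u3, ((mem_ps hp t1).1 hb.2).2, one_pow]⟩⟩) F (by
      rcases h with h | ⟨rfl, h⟩ | ⟨rfl, h⟩
      · exact k1 (by omega) fun _ => h
      · by_cases h8 : D = chevE8
        · subst h8
          obtain rfl := (typ_l hp).2.2.2 rfl
          by_cases hy : ∀ y, y ∈ kr hp Z hZ
          · refine absurd (h.resolve_left (not_not.2 rfl)) (not_lt.2 (le_of_eq ?_))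
            rw [← d54.2.2.2, ← (gsE8 hp).toGt.ncard_eq (P := fun _ => True) fun _ _ => by simp]
            exact congrArg Set.ncard (Set.ext fun a => ((mem_Ps hZ).trans (and_congr_right' (iff_true_intro (hy a)))).symm)
          · obtain ⟨y, hy⟩ := not_forall.1 hy
            exact tf5 (ps_sy hp hZ') (ps_rc hp hZ') (H := kr hp Z hZ)
              (fun a ha z hz => ((mem_Ps hZ').1 ha).2 z (Set.mem_insert_of_mem _ hz))
              k0 ((mem_Ps hZ).1 b1).2 (fun h => b2 ((a3 a).2 h)) hy F k0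
        · exact k1 le_rfl fun h => absurd h h8
      · exact tf3 hD (ps_sy hp hZ') (ps_rc hp hZ')
          ((Submodule.finrank_mono (Submodule.span_mono (e ▸ Set.inter_subset_left))).trans h) F k0)
    b1 (fun h => b2 ((a3 a).2 h)) fun b => cast_eq hr a1 a2 (u3 b)
  exact (Nat.add_le_add_left (Nat.le_of_dvd (Nat.totient_pos.2 c1)
    (Nat.totient_dvd_of_dvd (hn.trans (orderOf_dvd_of_pow_eq_one c3)))) _).trans c2

theorem three (hD : Typ D) {r k : ℕ} (ht : Mu.Po D t r) (h6 : l = 6) (hz : Mu.Rz hp p ∅ t k) (h4 : 4 ∣ orderOf (k : ZMod r))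
    (hm : ∀ [Fact r.Prime], 4 ∣ Cb.hm hp t r) : Mu.rk hp p {t} ≤ 3 := by
  obtain ⟨t1, hr, t2, t3⟩ := ht
  have : Fact r.Prime := ⟨hr⟩
  obtain ⟨ζ, F, a1, a2, -, a4⟩ := exists_F hp t1 hr t2 (t3 ▸ pow_orderOf_eq_one t)
  obtain ⟨u, u1, -, u3⟩ := hz
  have hl := typ_l hp
  obtain rfl : D = chevE6 := by
    rcases hD with e | e | e | e
    · have := hl.1 e; omega
    · exact e
    · have := hl.2.2.1 e; omega
    · have := hl.2.2.2 e; omega
  subst h6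
  obtain ⟨f, f1, f2, f3⟩ := Cb.pair_E6 hp t2 t3
  rw [dd_eq hp t1, a4, add_right_inj] at f3
  rw [Mu.rk, a4]
  refine rk6 u1 (fun b => cast_eq hr a1 a2 (u3 b)) h4 (f3 ▸ ?_)
  exact (by decide : ∀ f ∈ Cb.tpE6, 4 ∣ f.1 → f.2 = 12 ∨ f.2 = 0) f f1 (hm.trans f2)

end Cfsg.Agent.N2.Ex.MuRk

namespace Cfsg.Agent.N2.Ex.Mu

open Cfsg.Agent.H129.TorusChar Cfsg.Agent.Tits.Roots

/-- **[RK]** -/
theorem boxRK : BoxRK := fun D l M hp p _ hD => by
  refine ⟨?_, fun _ _ _ _ _ => MuRk.two hD, fun _ _ _ => MuRk.three hD⟩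
  have h : Submodule.span ℤ (DS.Nt.Ps hp p (∅ : Set (DS.Ex.YY D p))) = ⊤ := eq_top_iff.2 fun x _ => by
    rw [IsMC.eq_sum_sr x]
    exact sum_mem fun i _ => Submodule.smul_mem _ _ (Submodule.subset_span
      ((DS.Nt.mem_Ps (Set.empty_subset _)).2 ⟨isRoot_sr _ _ i, fun _ h => h.elim⟩))
  rw [rk, h, finrank_top, Module.finrank_fin_fun]

end Cfsg.Agent.N2.Ex.Mu
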