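import Cfsg.Agent.N2.Ex.Mu.Defs
import Cfsg.Agent.N2.Ex.Cb.Hm

/-!
# N2, several components: the realised exponents, `boxRz` (helper19)
-/

set_option autoImplicit false
set_option linter.unusedSectionVars false

namespace Cfsg.Agent.N2.Ex.Mu

open CoxeterSystem Cfsg Cfsg.Lie Cfsg.Lie.ChevalleyDatum
open Cfsg.Agent.ChevalleyStructure Cfsg.Agent.ChevalleyStructure.CoxeterGeom Cfsg.Agent.Tits.Roots Cfsg.Agent.Nodes Cfsg.Agent.Nodes.BNOf Cfsg.Agent.Nodes.RGDChev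
open Cfsg.Agent.KFacts.RgdChevCoord Cfsg.Agent.BpExc.Fr Cfsg.Agent.BpExc.LangFr
open Cfsg.Agent.H469.Exc Cfsg.Agent.H316.U6 Cfsg.Agent.H129.TorusChar Cfsg.Agent.DS.Ex Cfsg.Agent.DS.Nt

namespace RzA

variable {D : ChevalleyDatum} {l : ℕ} {M : CoxeterMatrix (Fin l)} {hp : IsType D l M} {p : ℕ} [Fact p.Prime]
  {Z : Set (YY D p)} {t : YY D p}

theorem one : Rz hp p Z t 1 := ⟨AddEquiv.refl _, fun _ => Iff.rfl, fun _ => Iff.rfl, fun _ => (pow_one _).symm⟩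

theorem mul {a b : ℕ} (ha : Rz hp p Z t a) (hb : Rz hp p Z t b) : Rz hp p Z t (a * b) := by
  obtain ⟨u, h1, h2, h3⟩ := ha
  obtain ⟨v, h4, h5, h6⟩ := hb
  exact ⟨u.trans v, fun c => (h4 _).trans (h1 c), fun c => (h5 _).trans (h2 c), fun c => by rw [AddEquiv.trans_apply, h6, h3, pow_mul]⟩

theorem pow {a : ℕ} (ha : Rz hp p Z t a) (n : ℕ) : Rz hp p Z t (a ^ n) := by
  induction n with
  | zero => exact one
  | succ n ih => rw [pow_succ]; exact mul ih ha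

variable (hp Z t) in
/-- the group of the realised exponents -/
def HR (r : ℕ) [Fact r.Prime] : Subgroup (ZMod r)ˣ where
  carrier := {k | ∃ a : ℕ, (a : ZMod r) = k ∧ Rz hp p Z t a}
  one_mem' := ⟨1, Nat.cast_one, one⟩
  mul_mem' := by
    rintro k k' ⟨a, h1, h2⟩ ⟨b, h3, h4⟩
    exact ⟨a * b, by rw [Nat.cast_mul, h1, h3, Units.val_mul], mul h2 h4⟩
  inv_mem' := by
    rintro k ⟨a, h1, h2⟩
    refine ⟨a ^ (orderOf k - 1), ?_, pow h2 _⟩
    rw [Nat.cast_pow, h1, ← Units.val_pow_eq_pow_val, eq_comm]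
    congr 1
    rw [inv_eq_iff_mul_eq_one, ← pow_succ', Nat.sub_add_cancel (orderOf_pos k), pow_orderOf_eq_one]

theorem dvd_card {r : ℕ} [Fact r.Prime] {a : ℕ} (h0 : (a : ZMod r) ≠ 0) (h : Rz hp p Z t a) :
    orderOf (a : ZMod r) ∣ Nat.card (HR hp Z t r) := by
  have h1 := (HR hp Z t r).orderOf_dvd_natCard (x := Units.mk0 _ h0) ⟨a, rfl, h⟩
  rwa [← orderOf_units] at h1

/-- an automorphism which, up to conjugation, fixes `Z` and maps a power of `t` to `t` -/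
theorem of_aut (hf : Z.Finite) (hZ : Z ⊆ TT D (KK p)) (ht : t ∈ TT D (KK p)) {β : MulAut (YY D p)} {e : ℕ} (hβ : IsFrob p e β)
    {g : (Fin l → ℤ) ≃+ (Fin l → ℤ)} (Φ : Fr M.toCoxeterSystem hp.isCartan (TT D (KK p)) (XX D l (KK p)) β g) {c : YY D p} {j : ℕ}
    (h1 : ∀ z ∈ Z, c * β z = z * c) (h2 : c * β (t ^ j) = t * c) : Rz hp p Z t (j * p ^ e) := by
  have := hf.to_subtype
  obtain ⟨-, -, w, v, hv, h3, -⟩ := form₂ hp (ι := Option Z) (s := fun i => β (i.elim (t ^ j) Subtype.val))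
    (t := fun i => i.elim t Subtype.val) (fun i => (Φ.tor _).2 (by cases i; exacts [pow_mem ht j, hZ (Subtype.prop _)]))
    (fun i => by cases i; exacts [ht, hZ (Subtype.prop _)]) (c := c) fun i => by cases i; exacts [h2, h1 _ (Subtype.prop _)]
  have h4 : ∀ x ∈ TT D (KK p), ∀ y, v * β x = y * v → ∀ b,
      cX hp y ((g.trans (repAut M.toCoxeterSystem hp.isCartan w)) b) = cX hp x b ^ p ^ e := fun x hx y h b => by
    rw [← cX_sigma hp M.toCoxeterSystem hβ Φ hx, ← hv.cX ((Φ.tor _).2 hx), h, mul_inv_cancel_right]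
    rfl
  have h5 : ∀ b, IsRoot M.toCoxeterSystem hp.isCartan ((g.trans (repAut M.toCoxeterSystem hp.isCartan w)) b) ↔
      IsRoot M.toCoxeterSystem hp.isCartan b := fun b => by rw [AddEquiv.trans_apply, hv.fr.root, Φ.root]
  refine ⟨_, h5, fun b => ?_, fun b => by rw [h4 _ (pow_mem ht j) t (h3 none), cX_pow hp ht, pow_mul]⟩
  rw [mem_Ps hZ, mem_Ps hZ, h5]
  refine and_congr_right fun _ => forall₂_congr fun z hz => ?_
  have h6 := sub_pow_char_pow (cX hp z b) 1 e (p := p)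
  rw [one_pow] at h6
  rw [h4 z (hZ hz) z (h3 (some ⟨z, hz⟩)), ← sub_eq_zero, ← h6, pow_eq_zero_iff (pow_pos (Fact.out : p.Prime).pos e).ne', sub_eq_zero]

theorem neg (hZ : Z ⊆ TT D (KK p)) (ht : t ∈ TT D (KK p)) {r : ℕ} (hr : 0 < r) (h : t ^ r = 1) : Rz hp p Z t (r - 1) := by
  have h1 : ∀ b, IsRoot M.toCoxeterSystem hp.isCartan (AddEquiv.neg _ b) ↔ IsRoot M.toCoxeterSystem hp.isCartan b := fun b =>
    ⟨fun h => neg_neg b ▸ IsRoot.neg h, fun h => h.neg⟩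
  refine ⟨AddEquiv.neg _, h1, fun b => ?_, fun b => ?_⟩
  · rw [mem_Ps hZ, mem_Ps hZ, h1]
    exact and_congr_right fun _ => forall₂_congr fun z hz => by rw [AddEquiv.neg_apply, (isMC_cX hp (hZ hz)).neg, inv_eq_one]
  · rw [AddEquiv.neg_apply, (isMC_cX hp ht).neg, inv_eq_iff_eq_inv, eq_comm]
    refine inv_eq_of_mul_eq_one_left ?_
    rw [← pow_succ', Nat.sub_add_cancel hr, ← cX_pow hp ht, h, cX_one]

end RzA

open RzA in
/-- **[Rz]** -/
theorem boxRz : BoxRz := by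
  rintro D l M hp p _ - q K _ m x Z t c r j hf hZ - ⟨ht, hr, hrp, ho⟩ h2 hσ hc hj
  have := Fact.mk hr
  have h3 : t ^ r = 1 := ho ▸ pow_orderOf_eq_one t
  obtain ⟨k, hk⟩ := IsCyclic.exists_ofOrder_eq_natCard (α := HR hp Z t r)
  obtain ⟨a, h4, h5⟩ := k.2
  refine ⟨a, ?_, h5⟩
  rw [h4, orderOf_units, Subgroup.orderOf_coe, hk]
  refine Nat.lcm_dvd ?_ (Nat.lcm_dvd (dvd_card (fun h0 => ?_) ?_) (m.hq ▸ dvd_card (Cb.cast_pow_ne hrp _) ?_))
  · have h6 : ((r - 1 : ℕ) : ZMod r) = -1 := by rw [Nat.cast_pred hr.pos, ZMod.natCast_self, zero_sub]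
    have h7 := dvd_card (hp := hp) (by rw [h6]; exact neg_ne_zero.2 one_ne_zero) (neg hZ ht hr.pos h3)
    rwa [h6, orderOf_neg_one, if_neg (by rw [ringChar.eq (ZMod r) r]; exact h2)] at h7
  · rw [ZMod.natCast_eq_zero_iff, ← ho, orderOf_dvd_iff_pow_eq_one] at h0
    rw [h0, conj_eq_one_iff] at hj
    rw [hj, orderOf_one] at ho
    exact hr.ne_one ho.symm
  · have h6 := of_aut (hp := hp) hf hZ ht IsFrob.one Fr.one (c := c⁻¹) (j := j)
      (fun z hz => (inv_mem hc z hz).symm) (by rw [← hj, MulAut.one_apply]; group)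
    rwa [pow_zero, mul_one] at h6
  · have h6 : ∀ z ∈ insert t Z, x * (m.σ x)⁻¹ * m.σ z = z * (x * (m.σ x)⁻¹) := fun z hz => by
      have h7 := hσ z hz
      rw [map_mul, map_mul, map_inv] at h7
      calc x * (m.σ x)⁻¹ * m.σ z = x * ((m.σ x)⁻¹ * m.σ z * m.σ x) * (m.σ x)⁻¹ := by group
        _ = _ := by rw [h7]; group
    have h7 := of_aut (hp := hp) hf hZ ht m.frob m.fr (j := 1) (fun z hz => h6 z (Set.mem_insert_of_mem _ hz))
      (by rw [pow_one]; exact h6 t (Set.mem_insert _ _))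
    rwa [one_mul] at h7

end Cfsg.Agent.N2.Ex.Mu
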