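import Cfsg.Agent.N2.Ex.Mu.T33B
import Cfsg.Agent.N2.Ex.Al.RwF4
import Cfsg.Agent.N2.Ex.Al.RwE6
import Cfsg.Agent.N2.Ex.Al.RwE7

/-!
# N2, multiplicities: the checks for elements of order six (helper72, generated test vectors)
-/

set_option autoImplicit false
set_option maxRecDepth 100000

namespace Cfsg.Agent.N2.Ex.Mu.T3

open Cfsg.Agent.N2.Ex.Al Cfsg.Agent.N2.Ex.Al.Ck

theorem ckF4 : chk tbF4 4 [[0, 0, 1, 0], [1, 2, 0, 1], [4, 8, 6, 3], [3, 6, 4, 2], [-2, -4, -3, -2], [2, 3, 2, 1], [0, 1, 0, 0],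
    [0, 1, 1, 0], [1, 1, 0, 0], [1, -1, 0, 1], [1, 1, 1, 0]] rwF4 6 (fun Y B a => ib Y B a.a) (lf3 6 18 12) = true := by
  decide +kernel

theorem ckF9 : chk tbF4 4 [[2, 3, 2, 1], [1, 1, 1, 1]] rwF4 8 (fun _ _ _ => true) (lf9 8) = true := by decide +kernel

theorem ckE6 : chk tbE6 6 [[-1, 1, -2, 2, 0, 0], [1, 0, 2, 0, 1, 0], [0, 0, 0, 0, 0, 1], [0, 0, 0, 0, 1, 0],
    [-2, -3, -4, -6, 0, -4], [-2, -3, -4, -6, -4, -2], [-2, -3, -4, -6, -5, -4], [-2, -3, -4, -6, -5, 0], [0, 1, 0, 2, 1, 0],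
    [1, -1, 2, -2, 0, 2], [-1, 0, -2, 0, -1, 1], [0, 0, 0, 0, 1, 1], [1, 1, 2, 3, 2, 1], [1, 2, 2, 3, 2, 1],
    [-1, 0, 1, 0, 0, 1], [0, 1, 1, 2, 2, 1], [2, 0, 1, 0, 0, 1], [2, 0, -2, 0, 2, 1], [1, 0, 2, 3, 0, 2], [1, 0, 2, 0, 1, 2],
    [-1, 1, 0, 1, 0, 0], [1, 1, 0, 1, 0, 0], [0, 1, 0, 1, 1, 1]] rwE6 10 (fun Y B a => ib Y B a.a) (lf3 10 30 18) = true := by
  decide +kernel

theorem ckE7 : chk tbE7 7 [[0, 0, 0, 0, 1, 0, 0], [0, 0, 0, 0, 0, 0, 1], [6, 9, 12, 18, 15, 10, 5], [0, 0, 0, 0, 0, 1, 0],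
    [-2, -3, -4, -6, -5, 0, -3], [-2, -3, -4, -6, -5, -4, -3], [0, 0, 0, 0, 0, 1, 2], [-2, -3, -4, -6, -5, -4, 0],
    [-2, -3, -4, -6, -5, -2, 0], [-2, -3, -4, -6, -5, -3, 0]] rwE7 24 (fun Y B a => ib Y B a.a) (lf3 24 60 42) = true := by
  decide +kernel

end Cfsg.Agent.N2.Ex.Mu.T3
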