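import Cfsg.Agent.N2.Ex.Mu.Defs
import Cfsg.Agent.N2.Ex.Mu.LatY
import Cfsg.Agent.N2.Ex.Mu.T33C

/-!
# N2, multiplicities: the boxes `T33` and `F9` (helper72)
-/

set_option autoImplicit false
set_option linter.unusedSectionVars false

namespace Cfsg.Agent.N2.Ex.Mu

open CoxeterSystem Cfsg Cfsg.Lie Cfsg.Lie.ChevalleyDatum
open Cfsg.Agent.ChevalleyStructure Cfsg.Agent.ChevalleyStructure.CoxeterGeom Cfsg.Agent.ChevalleyStructure.CoxeterGeomTypes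
  Cfsg.Agent.Tits.Roots Cfsg.Agent.Nodes Cfsg.Agent.Nodes.RGDChev Cfsg.Agent.Nodes.Coroot
open Cfsg.Agent.KFacts.RgdChevCoord Cfsg.Agent.H469.Exc Cfsg.Agent.H316.U6 Cfsg.Agent.H129.TorusChar
open Cfsg.Agent.DS.Ex Cfsg.Agent.DS.Nt Cfsg.Agent.H931.KC
open Cfsg.Agent.N2.Ex.Al Cfsg.Agent.N2.Ex.Al.Ck Cfsg.Agent.N2.Ex.Cb Cfsg.Agent.N2.Ex.Mu.Lt

namespace T3

variable {D : ChevalleyDatum} {l : ℕ} {M : CoxeterMatrix (Fin l)} (hp : IsType D l M) {p : ℕ} [Fact p.Prime]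

/-- the element `e` of the torus and the functional `E` modulo `N` -/
def Rl (N : ℕ) (e : YY D p) (E : Al.LL l →+ ℤ) : Prop := e ∈ TT D (KK p) ∧ ∀ x, cX hp e x = 1 ↔ (N : ℤ) ∣ E x

variable {hp} {N N' : ℕ} {e t : YY D p} {E χ : Al.LL l →+ ℤ}

theorem Rl.ps (h : Rl hp N e E) : Ps hp p {e} = Kl hp N E := Set.ext fun a => (mem_ps hp h.1).trans (and_congr_right' (h.2 a))

theorem Rl.ps2 (h : Rl hp N e E) (k : Rl hp N' t χ) : Ps hp p {e, t} = Kl hp N' χ ∩ Kl hp N E := by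
  rw [ps_insert hp (Set.singleton_subset_iff.2 k.1) h.1, h.ps, k.ps]

theorem Rl.ii (h : Rl hp N e E) {Z : Set (YY D p)} (k : In hp p Z e) : Ii hp (Ps hp p Z) N E :=
  ⟨fun x hx => (h.2 x).1 (k.1 x hx), k.2.imp fun a k => ⟨k.1, mt (h.2 a).2 k.2⟩⟩

variable (hp) in
theorem exists_rl {s s' : YY D p} (hs : Po D s 3) (hs' : Po D s' 3) (ht : Po D t 2) : ∃ F F' G : Al.LL l →+ ℤ,
    Rl hp 3 s F ∧ Rl hp 3 s' F' ∧ Rl hp 3 (s * s') (F + F') ∧ Rl hp 3 (s * s'⁻¹) (F - F') ∧ Rl hp 2 t G := by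
  obtain ⟨ζ, hζ⟩ := exists_prim (p := p) hs.2.1 hs.2.2.1
  obtain ⟨F, hF⟩ := exists_exp hp hs.2.1.pos hζ hs.1 (hs.2.2.2 ▸ pow_orderOf_eq_one s)
  obtain ⟨F', hF'⟩ := exists_exp hp hs.2.1.pos hζ hs'.1 (hs'.2.2.2 ▸ pow_orderOf_eq_one s')
  obtain ⟨-, G, -, -, hG, -⟩ := exists_F hp ht.1 ht.2.1 ht.2.2.1 (ht.2.2.2 ▸ pow_orderOf_eq_one t)
  have h0 := hζ.ne_zero three_ne_zero
  have hi : ∀ x, cX hp s'⁻¹ x = (cX hp s' x)⁻¹ := fun x => eq_inv_of_mul_eq_one_left (by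
    rw [← cX_mul hp (inv_mem hs'.1) hs'.1, inv_mul_cancel, cX_one])
  refine ⟨F, F', G, ⟨hs.1, fun x => ?_⟩, ⟨hs'.1, fun x => ?_⟩, ⟨mul_mem hs.1 hs'.1, fun x => ?_⟩,
    ⟨mul_mem hs.1 (inv_mem hs'.1), fun x => ?_⟩, ht.1, hG⟩ <;> rw [← hζ.zpow_eq_one_iff_dvd]
  · rw [hF]
  · rw [hF']
  · rw [cX_mul hp hs.1 hs'.1, hF, hF', AddMonoidHom.add_apply, zpow_add₀ h0]
  · rw [cX_mul hp hs.1 (inv_mem hs'.1), hi, hF, hF', AddMonoidHom.sub_apply, zpow_sub₀ h0, div_eq_mul_inv]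

end T3

open T3

/-- **[T33]** -/
theorem boxT33 : BoxT33 := by
  intro D l M hp p _ hD s s' t hs hs' ht h8 _ _ _ _ h1 h2 h3 h4 h5
  obtain ⟨F, F', G, a1, a2, a3, a4, b⟩ := exists_rl hp hs hs' ht
  have k1 := a2.ps ▸ b.ii h1
  have k2 := b.ps ▸ a2.ii h2
  have k3 := Set.inter_comm _ _ ▸ a1.ps2 a2 ▸ b.ii h3
  have k4 := a1.ps2 b ▸ a2.ii h4
  have k5 := a2.ps2 b ▸ a1.ii h5
  have k : ∀ bd x y, (∃ E ∈ [F, F', F + F', F - F'], (Kl hp 2 G ∩ Kl hp 3 E).ncard ≤ bd) ∨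
      (Kl hp 3 F).ncard = x ∧ (Kl hp 3 F').ncard = y ∨ (Kl hp 3 F).ncard = y ∧ (Kl hp 3 F').ncard = x →
      (∃ e ∈ ({s, s', s * s', s * s'⁻¹} : Set (YY D p)), nR hp p {e, t} ≤ bd) ∨
      nR hp p {s} = x ∧ nR hp p {s'} = y ∨ nR hp p {s} = y ∧ nR hp p {s'} = x := fun bd x y h => by
    simp only [nR, Set.mem_insert_iff, Set.mem_singleton_iff, exists_eq_or_imp, exists_eq_left, a1.ps, a2.ps, a1.ps2 b, a2.ps2 b,
      a3.ps2 b, a4.ps2 b]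
    simpa only [List.mem_cons, List.not_mem_nil, or_false, exists_eq_or_imp, exists_eq_left] using h
  rcases hD with rfl | rfl | rfl | rfl
  · obtain rfl := (typ_l hp).1 rfl
    exact k _ _ _ (t33_of (gsF4 hp).toGt (by decide) rowF4 (by decide) rfl ckF4 k1 k2 k3 k4 k5)
  · obtain rfl := (typ_l hp).2.1 rfl
    exact k _ _ _ (t33_of (gsE6 hp).toGt (by decide) rowE6 (by decide) rfl ckE6 k1 k2 k3 k4 k5)
  · obtain rfl := (typ_l hp).2.2.1 rfl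
    exact k _ _ _ (t33_of (gsE7 hp).toGt (by decide) rowE7 (by decide) rfl ckE7 k1 k2 k3 k4 k5)
  · exact absurd ((typ_l hp).2.2.2 rfl) h8

/-- **[F9]** -/
theorem boxF9 : BoxF9 := by
  intro D l M hp p _ hD s s' t hs hs' ht h4 _ _ h
  obtain ⟨F, F', G, a1, a2, a3, a4, b⟩ := exists_rl hp hs hs' ht
  have k : ∀ e E, Rl hp 3 e E → In hp p {e} t ∧ In hp p {t} e → Ii hp (Kl hp 3 E) 2 G ∧ Ii hp (Kl hp 2 G) 3 E :=
    fun e E a h => ⟨a.ps ▸ b.ii h.1, b.ps ▸ a.ii h.2⟩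
  simp only [Set.mem_insert_iff, Set.mem_singleton_iff, forall_eq_or_imp, forall_eq] at h
  obtain rfl : D = chevF4 := by
    rcases hD with rfl | rfl | rfl | rfl
    exacts [rfl, absurd (h4.symm.trans ((typ_l hp).2.1 rfl)) (by decide),
      absurd (h4.symm.trans ((typ_l hp).2.2.1 rfl)) (by decide), absurd (h4.symm.trans ((typ_l hp).2.2.2 rfl)) (by decide)]
  subst h4
  have := f9_of (gsF4 hp).toGt (by decide) rowF4 (by decide) rfl ckF9 (F := F) (F' := F') (G' := G) (by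
    simpa only [List.mem_cons, List.not_mem_nil, or_false, forall_eq_or_imp, forall_eq] using
      ⟨k _ _ a1 h.1, k _ _ a2 h.2.1, k _ _ a3 h.2.2.1, k _ _ a4 h.2.2.2⟩)
  simp only [nR, Set.mem_insert_iff, Set.mem_singleton_iff, exists_eq_or_imp, exists_eq_left, a1.ps2 b, a2.ps2 b,
    a3.ps2 b, a4.ps2 b]
  simpa only [List.mem_cons, List.not_mem_nil, or_false, exists_eq_or_imp, exists_eq_left] using this

end Cfsg.Agent.N2.Ex.Mu
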