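import Cfsg.Agent.N2.Ex.Mu.Defs2
import Cfsg.Agent.N2.Ex.Al.TbD

/-!
# N2 (S3519), several components: the boxes `CT` and `Avg` (helper55)
-/

set_option autoImplicit false
set_option linter.unusedSectionVars false

namespace Cfsg.Agent.N2.Ex.Mu

open CoxeterSystem Cfsg Cfsg.Lie Cfsg.Lie.ChevalleyDatum
open Cfsg.Agent.ChevalleyStructure Cfsg.Agent.ChevalleyStructure.CoxeterGeom Cfsg.Agent.ChevalleyStructure.CoxeterGeomTypes
  Cfsg.Agent.Tits.Roots Cfsg.Agent.Tits.Core Cfsg.Agent.Nodes Cfsg.Agent.Nodes.BNOf Cfsg.Agent.Nodes.Reps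
  Cfsg.Agent.Nodes.RGDChev
open Cfsg.Agent.KFacts.RgdChevCoord Cfsg.Agent.H469.Exc Cfsg.Agent.H129.TorusChar Cfsg.Agent.DS.Ex Cfsg.Agent.DS.Nt
open Cfsg.Agent.DS.Ex.Tor (RT)
open Cfsg.Agent.N2.Ex.Al (cp ac)
open Cfsg.Agent.N2.Ex.Al.Ck
open Subgroup (centralizer)
open scoped commutatorElement

namespace CT

/-! ### simply laced systems -/

/-- the check of the table -/
noncomputable def sl (T : Tb) : Bool := aL (fun r => aL (fun s => or (Nat.ble (T.c r s) 3) (Nat.beq r s)) T.n) T.n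

theorem sl6 : sl tbE6 = true := by decide +kernel

theorem sl7 : sl tbE7 = true := by decide +kernel

theorem sl8 : sl tbE8 = true := by decide +kernel

variable {D : ChevalleyDatum} {l : ℕ} {M : CoxeterMatrix (Fin l)} {hp : IsType D l M}

variable (hp) in
/-- one root length -/
def SL : Prop := ∀ a b, RT hp a → RT hp b → a ≠ b → cp hp a b ≤ 1

theorem sl_of {T : Tb} (G : Gs hp T) (h : sl T = true) : SL hp := fun a b ha hb hne => by
  simp only [sl, aL_iff, Bool.or_eq_true, Nat.beq_eq, Nat.ble_eq] at h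
  obtain ⟨r, hr, rfl⟩ := G.surj a ha
  obtain ⟨s, hs, rfl⟩ := G.surj b hb
  have h2 := (h r hr s hs).resolve_right fun e => hne (e ▸ rfl)
  rw [G.cpe r hr s hs]
  omega

variable (hp) in
theorem sl_typ (hD : Typ D) (h4 : l ≠ 4) : SL hp := by
  rcases hD with rfl | rfl | rfl | rfl
  · exact absurd ((typ_l hp).1 rfl) h4
  · obtain rfl := (typ_l hp).2.1 rfl
    exact sl_of (gsE6 hp) sl6
  · obtain rfl := (typ_l hp).2.2.1 rfl
    exact sl_of (gsE7 hp) sl7
  · obtain rfl := (typ_l hp).2.2.2 rfl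
    exact sl_of (gsE8 hp) sl8

theorem ne0 {a : Fin l → ℤ} (ha : RT hp a) : a ≠ 0 := fun h => by
  have h1 := cp_smul hp 0 a ha
  rw [zero_smul, ← h, cp_self hp ha] at h1
  omega

/-- the reflection in `a - b` maps `a` to `b` -/
theorem SL.refl (S : SL hp) {a b : Fin l → ℤ} (ha : RT hp a) (hb : RT hp b) (hc : RT hp (a - b)) :
    ac hp (rw' hp (a - b)) a = b := by
  have h1 := S a _ ha hc fun e => ne0 hb (by rw [eq_comm, sub_eq_self] at e; exact e)
  have h2 := S _ _ hb.neg hc fun e => ne0 ha (by rw [sub_eq_add_neg, eq_comm, add_eq_right] at e; exact e)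
  have h3 := cp_add hp a (-b) hc
  rw [← sub_eq_add_neg, cp_self hp hc] at h3
  rw [ac_rw hp hc, show cp hp a (a - b) = 1 by omega, one_smul, sub_sub_cancel]

theorem SL.ort (S : SL hp) {a b : Fin l → ℤ} (ha : RT hp a) (hb : RT hp b) (h1 : a ≠ b) (h2 : a ≠ -b) (h3 : ¬ RT hp (a - b))
    (h4 : ¬ RT hp (a + b)) : cp hp a b = 0 := by
  have k1 := S a b ha hb h1
  have k2 := S a _ ha hb.neg h2
  have k3 := rt_ac hp (rw' hp b) ha
  rw [cp_neg' hp _ hb] at k2
  rw [ac_rw hp hb] at k3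
  by_contra h
  rcases (by omega : cp hp a b = 1 ∨ cp hp a b = -1) with e | e
  · rw [e, one_smul] at k3
    exact h3 k3
  · rw [e, neg_smul, one_smul, sub_neg_eq_add] at k3
    exact h4 k3

theorem SL.not_btwn (S : SL hp) {a b z : Fin l → ℤ} (ha : RT hp a) (hb : RT hp b) (h1 : cp hp a b = 0) (h2 : cp hp b a = 0) :
    ¬ Btwn M.toCoxeterSystem hp.isCartan a b z := by
  rintro ⟨hz, m, i, j, hm, hi, hj, e⟩
  have k : ∀ c, RT hp c → m * cp hp z c = i * cp hp a c + j * cp hp b c := fun c hc => by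
    rw [← cp_smul hp _ _ hc, e, cp_add hp _ _ hc, cp_smul hp _ _ hc, cp_smul hp _ _ hc]
  have ka := k a ha
  have kb := k b hb
  have kz := k z hz
  rw [cp_self hp ha, h2] at ka
  rw [cp_self hp hb, h1] at kb
  rw [cp_self hp hz] at kz
  have n1 : z ≠ a := fun e => by rw [e, h1] at kb; omega
  have n2 : z ≠ b := fun e => by rw [e, h2] at ka; omega
  have a1 := S z a hz ha n1
  have a2 := S z b hz hb n2
  have a3 := S a z ha hz n1.symm
  have a4 := S b z hb hz n2.symm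
  nlinarith

/-! ### the large components -/

variable {p : ℕ} [Fact p.Prime] {s : YY D p}

theorem mem_ps {t : YY D p} (ht : t ∈ TT D (KK p)) {a : Fin l → ℤ} : a ∈ Ps hp p {t} ↔ RT hp a ∧ cX hp t a = 1 := by
  rw [mem_Ps (Set.singleton_subset_iff.2 ht)]
  simp only [Set.mem_singleton_iff, forall_eq]

theorem th_map (u : (Fin l → ℤ) ≃+ (Fin l → ℤ)) (hu : ∀ x, u x ∈ Ps hp p {s} ↔ x ∈ Ps hp p {s}) {a : Fin l → ℤ}
    (ha : a ∈ Th hp p s) : u a ∈ Th hp p s := by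
  refine ⟨(hu a).2 ha.1, ha.2.trans (le_of_eq ?_)⟩
  rw [← Set.ncard_image_of_injective _ u.injective]
  refine congrArg Set.ncard (Set.ext fun x => ?_)
  obtain ⟨y, rfl⟩ := u.surjective x
  rw [u.injective.mem_set_image, Set.mem_setOf_eq, Set.mem_setOf_eq, ← map_sub, hu, hu]

theorem ac_iff (hs : s ∈ TT D (KK p)) {w : M.Group} (h : ∀ x, cX hp s (ac hp w x) = cX hp s x) (x : Fin l → ℤ) :
    ac hp w x ∈ Ps hp p {s} ↔ x ∈ Ps hp p {s} := by
  rw [mem_ps hs, mem_ps hs, h]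
  exact and_congr_left' ⟨fun k => ac_inv hp w x ▸ rt_ac hp w⁻¹ k, rt_ac hp w⟩

theorem th_neg (hs : s ∈ TT D (KK p)) {a : Fin l → ℤ} (ha : a ∈ Th hp p s) : -a ∈ Th hp p s := by
  have k : ∀ x, x ∈ Ps hp p {s} → -x ∈ Ps hp p {s} := fun x hx => by
    rw [mem_ps hs] at hx ⊢
    exact ⟨hx.1.neg, by rw [(isMC_cX hp hs).neg, hx.2, inv_one]⟩
  exact th_map (AddEquiv.neg _) (fun x => ⟨fun h => neg_neg x ▸ k _ h, k x⟩) ha

theorem th_sub (S : SL hp) (hs : s ∈ TT D (KK p)) {a b : Fin l → ℤ} (ha : a ∈ Th hp p s) (hb : b ∈ Ps hp p {s})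
    (hc : RT hp (a - b)) : b ∈ Th hp p s := by
  have h1 := (mem_ps hs).1 ha.1
  have h2 := (mem_ps hs).1 hb
  have m := isMC_cX hp hs
  rw [← S.refl h1.1 h2.1 hc]
  refine th_map _ (ac_iff hs fun x => ?_) ha
  rw [ac_rw hp hc, m.sub, m.zsmul, m.sub, h1.2, h2.2, div_one, one_zpow, div_one]

theorem comm_of {a b : Fin l → ℤ} (ha : RT hp a) (hb : RT hp b) (h1 : a ≠ b) (h2 : a ≠ -b)
    (h : ∀ z, ¬ Btwn M.toCoxeterSystem hp.isCartan a b z) {u v : YY D p} (hu : u ∈ XX D l (KK p) a)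
    (hv : v ∈ XX D l (KK p) b) : u * v = v * u := by
  have H := tw hp p
  rw [← XLe hp p] at hu hv
  obtain ⟨i, hi⟩ := H.mem_XL.1 hu
  obtain ⟨j, hj⟩ := H.mem_XL.1 hv
  obtain ⟨k, k1, k2⟩ := H.dir i j
  have h3 := (H.rgd k).comm a b ha hb h1 h2 u (H.monoX a k1 hi) v (H.monoX b k2 hj)
  have h4 : btw M.toCoxeterSystem hp.isCartan (BpExc.TowChev.Xj hp (k := KK p) k) a b ≤ ⊥ :=
    iSup_le fun z => absurd z.2 (h _)
  exact commutatorElement_eq_one_iff_mul_comm.1 (Subgroup.mem_bot.1 (h4 h3))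

theorem cen_of {y : YY D p} (h : ∀ b ∈ Th hp p s, ∀ v ∈ XX D l (KK p) b, y * v = v * y) :
    y ∈ centralizer (LL hp p s : Set (YY D p)) := by
  have k : LL hp p s ≤ centralizer {y} := RGD.Sup_le fun b hb v hv => Subgroup.mem_centralizer_singleton_iff.2 (h b hb v hv).symm
  exact Subgroup.mem_centralizer_iff.2 fun v hv => Subgroup.mem_centralizer_singleton_iff.1 (k hv)

theorem X_cen (S : SL hp) (hs : s ∈ TT D (KK p)) {a : Fin l → ℤ} (ha : a ∈ Ps hp p {s}) (hn : a ∉ Th hp p s) :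
    XX D l (KK p) a ≤ centralizer (LL hp p s : Set (YY D p)) := fun y hy => cen_of fun b hb v hv => by
  have h1 := ((mem_ps hs).1 ha).1
  have h2 := ((mem_ps hs).1 hb.1).1
  have n1 : a ≠ b := fun e => hn (e ▸ hb)
  have n2 : a ≠ -b := fun e => hn (e ▸ th_neg hs hb)
  have n3 : ¬ RT hp (b - a) := fun k => hn (th_sub S hs hb ha k)
  have n4 : ¬ RT hp (b + a) := fun k => hn (th_sub S hs (th_neg hs hb) ha (by rw [← neg_add']; exact k.neg))
  refine comm_of h1 h2 n1 n2 (fun z => S.not_btwn h1 h2 ?_ ?_) hy hv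
  · exact S.ort h1 h2 n1 n2 (fun k => n3 (neg_sub a b ▸ k.neg)) fun k => n4 (add_comm a b ▸ k)
  · exact S.ort h2 h1 n1.symm (fun e => n2 (by rw [e, neg_neg])) n3 n4

theorem Mz_norm (S : SL hp) (hs : s ∈ TT D (KK p)) : Mz hp p {s} ≤ Subgroup.normalizer (LL hp p s : Set (YY D p)) := by
  refine Mz_le fun a ha => ?_
  by_cases h : a ∈ Th hp p s
  · exact (RGD.le_Sup h).trans Subgroup.le_normalizer
  · exact (X_cen S hs ha h).trans (Subgroup.centralizer_le_normalizer _)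

theorem conj_LL (S : SL hp) (hs : s ∈ TT D (KK p)) {c : YY D p} (hc : c ∈ centralizer ({s} : Set (YY D p))) {y : YY D p}
    (hy : y ∈ LL hp p s) : c * y * c⁻¹ ∈ LL hp p s := by
  have := finW hp
  obtain ⟨m, hm, w, -, k, hk, hks, rfl⟩ := form hp (Set.finite_singleton s) (Set.singleton_subset_iff.2 hs) (c := c)
    fun t ht => (Subgroup.mem_centralizer_iff.1 hc t ht).symm
  have h1 : Reps.cj k (LL hp p s) ≤ LL hp p s := by
    rw [LL, RGD.cj_Sup]
    refine iSup_le fun z => ?_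
    rw [hk.cj_X ((mem_ps hs).1 z.2.1).1]
    exact RGD.le_Sup (th_map (ac hp w) (ac_iff hs (hk.cX_of_comm hs (hks s rfl))) z.2)
  have h2 := (Subgroup.mem_normalizer_iff.1 (Mz_norm S hs hm) _).1 (h1 (conj_mem_cj.2 hy))
  simpa only [mul_inv_rev, mul_assoc] using h2

theorem th_iff (hs : s ∈ TT D (KK p)) {t : YY D p} (ht : t ∈ TT D (KK p)) :
    Th hp p s ⊆ Ps hp p {t} ↔ t ∈ centralizer (LL hp p s : Set (YY D p)) := by
  refine ⟨fun h => cen_of fun b hb v hv => ?_, fun h a ha => ?_⟩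
  · have k := (mem_ps ht).1 (h hb)
    exact comm_X ht k.1 k.2 hv
  · have k := ((mem_ps hs).1 ha.1).1
    exact (mem_ps ht).2 ⟨k, cX_eq_one_of_comm ht k one_ne_zero
      (Subgroup.mem_centralizer_iff.1 h _ (RGD.le_Sup ha (xc_mem (hp := hp) k 1))).symm⟩

theorem le_cen {Y : Type*} [Group Y] {J L : Subgroup Y} (hJ : IsSimpleGroup J) (h : ∀ c ∈ J, ∀ y ∈ L, c * y * c⁻¹ ∈ L) {t : Y}
    (ht : t ∈ J) (h1 : t ≠ 1) (hc : t ∈ centralizer (L : Set Y)) : J ≤ centralizer (L : Set Y) := by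
  have hn : ((centralizer (L : Set Y)).subgroupOf J).Normal := ⟨fun n hn g => by
    rw [Subgroup.mem_subgroupOf, Subgroup.mem_centralizer_iff] at hn ⊢
    intro y hy
    have k := hn _ (h _ (inv_mem g.2) y hy)
    rw [inv_inv] at k
    push_cast
    calc y * (g * n * (g : Y)⁻¹) = g * ((g : Y)⁻¹ * y * g * n) * (g : Y)⁻¹ := by group
      _ = _ := by rw [k]; group⟩
  rcases hn.eq_bot_or_eq_top with e | e
  · have k : (⟨t, ht⟩ : J) ∈ (centralizer (L : Set Y)).subgroupOf J := hc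
    rw [e, Subgroup.mem_bot, Subtype.ext_iff] at k
    exact absurd k h1
  · exact Subgroup.subgroupOf_eq_top.1 e

/-! ### averaging -/

theorem avg {E α : Type*} [Group E] [Finite E] (C : Finset α) (K : α → Subgroup E) [∀ e a, Decidable (e ∈ K a)] {r : ℕ}
    (h2 : 2 ≤ r) (hr : ∀ q, q.Prime → q ∣ Nat.card E → r ≤ q) (hK : ∀ a ∈ C, K a ≠ ⊤) (hC : 0 < C.card) :
    ∃ e, r * (C.filter fun a => e ∈ K a).card < C.card := by
  have := Fintype.ofFinite E
  by_contra! h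
  have k1 : ∀ a ∈ C, r * (Finset.univ.filter fun e => e ∈ K a).card ≤ Nat.card E := fun a ha => by
    obtain ⟨q, hq, hd⟩ := Nat.exists_prime_and_dvd (mt Subgroup.index_eq_one.1 (hK a ha))
    have k := (hr q hq (hd.trans (K a).index_dvd_card)).trans (Nat.le_of_dvd (Nat.pos_of_ne_zero Subgroup.index_ne_zero_of_finite) hd)
    rw [← (K a).index_mul_card, Nat.card_eq_fintype_card (α := K a), Fintype.card_subtype]
    exact Nat.mul_le_mul_right _ k
  have k2 : ∑ _e : E, C.card < ∑ e : E, r * (C.filter fun a => e ∈ K a).card :=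
    Finset.sum_lt_sum (fun e _ => h e) ⟨1, Finset.mem_univ _, by
      rw [Finset.filter_true_of_mem fun a _ => one_mem _]
      nlinarith⟩
  have k3 : ∑ e : E, r * (C.filter fun a => e ∈ K a).card = ∑ a ∈ C, r * (Finset.univ.filter fun e => e ∈ K a).card := by
    rw [← Finset.mul_sum, ← Finset.mul_sum]
    exact congrArg (r * ·) (Finset.sum_card_bipartiteAbove_eq_sum_card_bipartiteBelow fun e a => e ∈ K a)
  have k4 := Finset.sum_le_sum k1
  rw [Finset.sum_const, Finset.card_univ, smul_eq_mul, k3] at k2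
  rw [Finset.sum_const, smul_eq_mul, Nat.card_eq_fintype_card, mul_comm] at k4
  omega

theorem ps_fin {Z : Set (YY D p)} (hZ : Z ⊆ TT D (KK p)) : (Ps hp p Z).Finite :=
  ((Set.finite_Iio D.nroots).image (vec D l)).subset fun a ha => (isRoot_iff hp M.toCoxeterSystem a).1 ((mem_Ps hZ).1 ha).1

variable (hp) in
/-- the elements of `E` on which the root `a` is trivial -/
noncomputable def ke {E : Subgroup (YY D p)} (hE : E ≤ TT D (KK p)) (a : Fin l → ℤ) : Subgroup E :=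
  MonoidHom.ker (⟨⟨fun e => cX hp e.1 a, cX_one hp a⟩, fun e f => cX_mul hp (hE e.2) (hE f.2) a⟩ : E →* KK p)

theorem mem_ke {E : Subgroup (YY D p)} (hE : E ≤ TT D (KK p)) {a : Fin l → ℤ} {e : E} : e ∈ ke hp hE a ↔ cX hp e.1 a = 1 := Iff.rfl

end CT

open CT

/-- **[CT]** -/
theorem boxCT' : BoxCT' := fun _ _ _ hp _ _ hD h4 _ hs _ =>
  have S := sl_typ hp hD h4
  ⟨fun _ hc _ hy => conj_LL S hs hc hy, fun _ ht => th_iff hs ht, fun _ _ hJ hc ht hT h1 h =>
    le_cen hJ.2.1 (fun _ k _ hy => conj_LL S hs (hc k) hy) ht h1 ((th_iff hs hT).1 h)⟩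

/-- **[Avg]** -/
theorem boxAvg : BoxAvg := by
  intro D l M hp p _ _ x E r₀ hx hE hf hr hlt
  classical
  have s1 : ({x} : Set (YY D p)) ⊆ TT D (KK p) := Set.singleton_subset_iff.2 hx
  have s2 : insert x (E : Set (YY D p)) ⊆ TT D (KK p) := Set.insert_subset hx hE
  have f1 := ps_fin (hp := hp) s1
  have f2 := ps_fin (hp := hp) s2
  have m2 : ∀ a, a ∈ f2.toFinset ↔ a ∈ f1.toFinset ∧ ∀ e ∈ E, cX hp e a = 1 := fun a => by
    rw [f1.mem_toFinset, f2.mem_toFinset, mem_ps hx, mem_Ps s2, Set.forall_mem_insert, and_assoc]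
    rfl
  have sub : f2.toFinset ⊆ f1.toFinset := fun a ha => ((m2 a).1 ha).1
  have c1 := Finset.card_sdiff_add_card_eq_card sub
  unfold nR at hlt ⊢
  rw [Set.ncard_eq_toFinset_card _ f1, Set.ncard_eq_toFinset_card _ f2] at hlt ⊢
  obtain ⟨e, he⟩ := avg (f1.toFinset \ f2.toFinset) (ke hp hE) (le_max_right r₀ 2) (fun q hq hd => max_le (hr q hq hd) hq.two_le)
    (fun a ha k => by
      rw [Finset.mem_sdiff, m2] at ha
      exact ha.2 ⟨ha.1, fun e he => (mem_ke hE (e := ⟨e, he⟩)).1 (k ▸ Subgroup.mem_top _)⟩) (by omega)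
  have s3 : ({x, e.1} : Set (YY D p)) ⊆ TT D (KK p) := Set.insert_subset hx (Set.singleton_subset_iff.2 (hE e.2))
  have c2 : (Ps hp p {x, e.1}).ncard ≤ f2.toFinset.card + ((f1.toFinset \ f2.toFinset).filter fun a => e ∈ ke hp hE a).card := by
    refine le_trans ?_ (Finset.card_union_le _ _)
    rw [← Set.ncard_coe_finset]
    refine Set.ncard_le_ncard (fun a ha => ?_) (Finset.finite_toSet _)
    rw [mem_Ps s3, Set.forall_mem_insert] at ha
    rw [Finset.mem_coe, Finset.mem_union, Finset.mem_filter, Finset.mem_sdiff, or_iff_not_imp_left]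
    exact fun k => ⟨⟨f1.mem_toFinset.2 ((mem_ps hx).2 ⟨ha.1, ha.2.1⟩), k⟩, ha.2.2 _ rfl⟩
  refine ⟨e, e.2, ?_⟩
  have c3 := Nat.mul_le_mul_left r₀ c2
  have c4 := Nat.mul_le_mul_right ((f1.toFinset \ f2.toFinset).filter fun a => e ∈ ke hp hE a).card (le_max_left r₀ 2)
  rw [mul_add] at c3
  omega

end Cfsg.Agent.N2.Ex.Mu
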