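import Cfsg.Agent.N2.Ex.Mu.Defs
import Cfsg.Agent.S0205

/-!
# N2 (S3519), several components: the frame (helper39, task N2M-Fr)
-/

set_option autoImplicit false
set_option linter.unusedSectionVars false

namespace Cfsg.Agent.N2.Ex.Mu

open CoxeterSystem Cfsg Cfsg.Lie Cfsg.Lie.ChevalleyDatum
open Cfsg.Agent.ChevalleyStructure Cfsg.Agent.ChevalleyStructure.CoxeterGeom Cfsg.Agent.Tits.Roots Cfsg.Agent.Nodes Cfsg.Agent.Nodes.BNOf Cfsg.Agent.Nodes.RGDChev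
open Cfsg.Agent.KFacts.RgdChevCoord Cfsg.Agent.BpExc.Fr Cfsg.Agent.BpExc.LangFr
open Cfsg.Agent.H469.Exc Cfsg.Agent.H316.U6 Cfsg.Agent.H129.TorusChar Cfsg.Agent.DS.Ex Cfsg.Agent.DS.Nt
open Cfsg.Agent.SB.Exc (XF)
open Subgroup (centralizer)

namespace Fr

variable {D : ChevalleyDatum} {l : ℕ} {M : CoxeterMatrix (Fin l)} {hp : IsType D l M} {p : ℕ} [Fact p.Prime] {q : ℕ}
  {G : Type} [Group G] [Finite G] {T H : Subgroup G} (F : XF hp p q T) {ι : Type} {S : ι → Subgroup G}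

/-- `zz` as a homomorphism -/
noncomputable def zh (x : YY D p) : T →* YY D p := (MulAut.conj x).toMonoidHom.comp F.L.ι

theorem zh_apply (x : YY D p) (a : T) : zh F x a = zz F x a := rfl

theorem zh_inj (x : YY D p) : Function.Injective (zh F x) := (MulAut.conj x).injective.comp F.L.inj

theorem zz_mul (x : YY D p) (a b : T) : zz F x (a * b) = zz F x a * zz F x b := map_mul (zh F x) a b

theorem zz_inv (x : YY D p) (a : T) : zz F x a⁻¹ = (zz F x a)⁻¹ := map_inv (zh F x) a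

theorem zz_pow (x : YY D p) (a : T) (k : ℕ) : zz F x (a ^ k) = zz F x a ^ k := map_pow (zh F x) a k

theorem ord_zz (x : YY D p) (a : T) : orderOf (zz F x a) = orderOf a := orderOf_injective (zh F x) (zh_inj F x) a

theorem fin_zz (x : YY D p) (a : T) : IsOfFinOrder (zz F x a) := by
  rw [← orderOf_pos_iff, ord_zz]
  exact orderOf_pos a

theorem zz_conj (d x : YY D p) (a : T) : zz F (d * x) a = d * zz F x a * d⁻¹ := by
  unfold zz
  group

theorem mem_JJ {x y : YY D p} {i : ι} : y ∈ JJ F S x i ↔ ∃ a : T, (a : G) ∈ S i ∧ zz F x a = y := by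
  constructor
  · rintro ⟨_, ⟨a, ha, rfl⟩, rfl⟩
    exact ⟨a, ha, rfl⟩
  · rintro ⟨a, ha, rfl⟩
    exact ⟨_, ⟨a, ha, rfl⟩, rfl⟩

theorem zz_mem {x : YY D p} {i : ι} {a : T} (ha : (a : G) ∈ S i) : zz F x a ∈ JJ F S x i := (mem_JJ F).2 ⟨a, ha, rfl⟩

/-- the component is isomorphic to its image -/
noncomputable def eJ {i : ι} (h : S i ≤ T) (x : YY D p) : S i ≃* JJ F S x i :=
  (Subgroup.subgroupOfEquivOfLe h).symm.trans (((S i).subgroupOf T).equivMapOfInjective F.L.ι F.L.inj |>.trans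
    ((im F.L (S i)).equivMapOfInjective (MulAut.conj x).toMonoidHom (MulAut.conj x).injective))

theorem even_card {N : Type} [Group N] [Finite N] (h : IsSimpleGroup N) (hn : ¬ IsMulCommutative N) : Even (Nat.card N) := by
  by_contra h0
  exact hn ⟨⟨IsSimpleGroup.comm_iff_isSolvable.2 (Cfsg.Agent.S0205.result (Nat.not_even_iff_odd.1 h0))⟩⟩

theorem sp_JJ (hS : Mul T H (Set.range S)) (x : YY D p) (i : ι) : Sp (JJ F S x i) := by
  have e := eJ F ((hS.le _ ⟨i, rfl⟩).trans inf_le_right) x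
  have h1 := hS.simple _ ⟨i, rfl⟩
  have h2 := hS.nonab _ ⟨i, rfl⟩
  refine ⟨Finite.of_equiv _ e.toEquiv, e.symm.isSimpleGroup, fun h => h2 ⟨⟨fun a b => e.injective ?_⟩⟩, ?_⟩
  · rw [map_mul, map_mul]
    exact h.1.1 _ _
  · rw [← Nat.card_congr e.toEquiv]
    exact even_card h1 h2

theorem zz_comm (hi : Function.Injective S) (hS : Mul T H (Set.range S)) (x : YY D p) {i j : ι} (hij : i ≠ j) {a b : T}
    (ha : (a : G) ∈ S i) (hb : (b : G) ∈ S j) : zz F x a * zz F x b = zz F x b * zz F x a := by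
  rw [← zz_mul, ← zz_mul]
  exact congrArg _ (Subtype.ext (hS.comm _ ⟨i, rfl⟩ _ ⟨j, rfl⟩ (hi.ne hij) _ ha _ hb))

theorem JJ_cen (hi : Function.Injective S) (hS : Mul T H (Set.range S)) (x : YY D p) {I : Finset ι} {s : ι → T}
    (hs : ∀ i ∈ I, (s i : G) ∈ S i) {j : ι} (hj : j ∉ I) : JJ F S x j ≤ centralizer ((fun i => zz F x (s i)) '' I) := by
  intro y hy
  obtain ⟨b, hb, rfl⟩ := (mem_JJ F).1 hy
  rw [Subgroup.mem_centralizer_iff]
  rintro _ ⟨i, h, rfl⟩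
  exact zz_comm F hi hS x (fun k : i = j => hj (k ▸ h)) (hs i h) hb

section

variable (hD : Typ D) (hi : Function.Injective S) (hS : Mul T H (Set.range S))
include hD hi hS

theorem mz_odd (hP : BoxPerf) {x : YY D p} {I : Finset ι} {s : ι → T} (hs : ∀ i ∈ I, (s i : G) ∈ S i)
    (ht : ∀ i ∈ I, zz F x (s i) ∈ TT D (KK p)) (ho : ∀ i ∈ I, Odd (orderOf (s i))) {j : ι} (hj : j ∉ I) :
    JJ F S x j ≤ Mz hp p ((fun i => zz F x (s i)) '' I) := by
  refine hP D l M hp p hD _ _ (I.finite_toSet.image _) ?_ ?_ (sp_JJ F hS x j) (JJ_cen F hi hS x hs hj) (Or.inl ?_)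
  · rintro _ ⟨i, h, rfl⟩
    exact ht i h
  · rintro _ ⟨i, -, rfl⟩
    exact fin_zz F x _
  · rintro _ ⟨i, h, rfl⟩
    rw [ord_zz]
    exact ho i h

/-- one more element is moved into the torus -/
theorem step [DecidableEq ι] (hP : BoxPerf) (hT : BoxTor) {x : YY D p} {I : Finset ι} {s : ι → T} (hs : ∀ i ∈ I, (s i : G) ∈ S i)
    (ht : ∀ i ∈ I, zz F x (s i) ∈ TT D (KK p)) (ho : ∀ i ∈ I, Odd (orderOf (s i))) {j : ι} (hj : j ∉ I)
    (hsj : (s j : G) ∈ S j) (hc : (orderOf (s j)).Coprime p) : ∃ x', ∀ i ∈ insert j I, zz F x' (s i) ∈ TT D (KK p) := by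
  have hZ : (fun i => zz F x (s i)) '' I ⊆ TT D (KK p) := by
    rintro _ ⟨i, h, rfl⟩
    exact ht i h
  obtain ⟨d, hd, h1⟩ := hT D l M hp p hD _ (zz F x (s j)) (I.finite_toSet.image _) hZ
    (by rintro _ ⟨i, -, rfl⟩; exact fin_zz F x _) (Mz_le_DZ (mz_odd F hD hi hS hP hs ht ho hj (zz_mem F hsj)))
    (by rwa [ord_zz])
  refine ⟨d * x, fun i h => ?_⟩
  rw [zz_conj]
  rcases Finset.mem_insert.1 h with rfl | h
  · exact h1
  · rw [Mz_comm hZ hd ⟨i, h, rfl⟩, mul_inv_cancel_right]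
    exact ht i h

theorem exists_odd [DecidableEq ι] (hP : BoxPerf) (hT : BoxTor) {s : ι → T} (I : Finset ι) (hs : ∀ i ∈ I, (s i : G) ∈ S i)
    (hc : ∀ i ∈ I, (orderOf (s i)).Coprime p) (ho : ∀ i ∈ I, Odd (orderOf (s i))) :
    ∃ x, ∀ i ∈ I, zz F x (s i) ∈ TT D (KK p) := by
  induction I using Finset.induction_on with
  | empty => exact ⟨1, fun i h => absurd h (Finset.notMem_empty i)⟩
  | insert j I hj ih =>
    have m : ∀ {i : ι}, i ∈ I → i ∈ insert j I := fun h => Finset.mem_insert_of_mem h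
    obtain ⟨x, hx⟩ := ih (fun i h => hs i (m h)) (fun i h => hc i (m h)) fun i h => ho i (m h)
    exact step F hD hi hS hP hT (fun i h => hs i (m h)) hx (fun i h => ho i (m h)) hj (hs j (Finset.mem_insert_self _ _))
      (hc j (Finset.mem_insert_self _ _))

theorem exists_tor [DecidableEq ι] (hP : BoxPerf) (hT : BoxTor) {s : ι → T} (I : Finset ι) (hs : ∀ i ∈ I, (s i : G) ∈ S i)
    (hc : ∀ i ∈ I, (orderOf (s i)).Coprime p) (ho : ∀ i ∈ I, (orderOf (s i)).Prime)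
    (h2 : ∀ i ∈ I, ∀ j ∈ I, orderOf (s i) = 2 → orderOf (s j) = 2 → i = j) :
    ∃ x, ∀ i ∈ I, zz F x (s i) ∈ TT D (KK p) := by
  by_cases h : ∃ j ∈ I, orderOf (s j) = 2
  · obtain ⟨j, hj, hj2⟩ := h
    have m := fun {i : ι} (h : i ∈ I.erase j) => Finset.mem_of_mem_erase h
    have o : ∀ i ∈ I.erase j, Odd (orderOf (s i)) := fun i h =>
      (ho i (m h)).odd_of_ne_two fun k => (Finset.mem_erase.1 h).1 (h2 i (m h) j hj k hj2)
    obtain ⟨x, hx⟩ := exists_odd F hD hi hS hP hT (I.erase j) (fun i h => hs i (m h)) (fun i h => hc i (m h)) o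
    have := step F hD hi hS hP hT (fun i h => hs i (m h)) hx o (Finset.notMem_erase j I) (hs j hj) (hc j hj)
    rwa [Finset.insert_erase hj] at this
  · exact exists_odd F hD hi hS hP hT I hs hc fun i k => (ho i k).odd_of_ne_two fun e => h ⟨i, k, e⟩

theorem mz_two (hH : BoxH1) (hP : BoxPerf) {x : YY D p} {s : ι → T} {a b j : ι} (ha : (s a : G) ∈ S a) (hb : (s b : G) ∈ S b)
    (ta : zz F x (s a) ∈ TT D (KK p)) (tb : zz F x (s b) ∈ TT D (KK p)) (hc : (orderOf (s a)).Coprime (orderOf (s b)))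
    (hja : j ≠ a) (hjb : j ≠ b) : JJ F S x j ≤ Mz hp p {zz F x (s a), zz F x (s b)} := by
  have h1 := (hH D l M hp p hD).2.1 _ _ ta tb (fin_zz F x _) (fin_zz F x _) (by rwa [ord_zz, ord_zz])
  have h2 : Mz hp p {zz F x (s a) * zz F x (s b)} = Mz hp p {zz F x (s a), zz F x (s b)} :=
    congrArg (RGD.Sup (XX D l (KK p))) h1
  rw [← h2]
  refine hP D l M hp p hD _ _ (Set.finite_singleton _) (Set.singleton_subset_iff.2 (mul_mem ta tb)) ?_ (sp_JJ F hS x j) ?_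
    (Or.inr ⟨_, rfl⟩)
  · rintro _ rfl
    rw [← zz_mul]
    exact fin_zz F x _
  · intro y hy
    obtain ⟨c, hc, rfl⟩ := (mem_JJ F).1 hy
    rw [Subgroup.mem_centralizer_singleton_iff, ← mul_assoc, zz_comm F hi hS x hja hc ha, mul_assoc,
      zz_comm F hi hS x hjb hc hb, mul_assoc]

theorem mz_all [DecidableEq ι] (hH : BoxH1) (hP : BoxPerf) {x : YY D p} {I : Finset ι} {s : ι → T}
    (hs : ∀ i ∈ I, (s i : G) ∈ S i) (ht : ∀ i ∈ I, zz F x (s i) ∈ TT D (KK p)) (ho : ∀ i ∈ I, (orderOf (s i)).Prime)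
    (h2 : ∀ i ∈ I, ∀ j ∈ I, orderOf (s i) = 2 → orderOf (s j) = 2 → i = j)
    (h : (∀ i ∈ I, orderOf (s i) ≠ 2) ∨ I.card ≤ 2) {j : ι} (hj : j ∉ I) :
    JJ F S x j ≤ Mz hp p ((fun i => zz F x (s i)) '' I) := by
  by_cases h0 : ∀ i ∈ I, orderOf (s i) ≠ 2
  · exact mz_odd F hD hi hS hP hs ht (fun i k => (ho i k).odd_of_ne_two (h0 i k)) hj
  have hc := h.resolve_left h0
  push Not at h0
  obtain ⟨a, ha, ha2⟩ := h0
  by_cases h1 : ∀ b ∈ I, b = a
  · have h3 : (fun i => zz F x (s i)) '' I = {zz F x (s a)} := by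
      ext y
      constructor
      · rintro ⟨b, hb, rfl⟩
        rw [h1 b hb]
        rfl
      · rintro rfl
        exact ⟨a, ha, rfl⟩
    refine hP D l M hp p hD _ _ (I.finite_toSet.image _) ?_ ?_ (sp_JJ F hS x j) (JJ_cen F hi hS x hs hj) (Or.inr ⟨_, h3⟩)
    · rintro _ ⟨i, h, rfl⟩
      exact ht i h
    · rintro _ ⟨i, -, rfl⟩
      exact fin_zz F x _
  · push Not at h1
    obtain ⟨b, hb, hba⟩ := h1
    have h3 : ({a, b} : Finset ι) = I := by
      refine Finset.eq_of_subset_of_card_le ?_ (by rwa [Finset.card_pair hba.symm])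
      intro y hy
      rcases Finset.mem_insert.1 hy with rfl | hy
      · exact ha
      · rw [Finset.mem_singleton.1 hy]
        exact hb
    have h4 : (fun i => zz F x (s i)) '' I = {zz F x (s a), zz F x (s b)} := by
      rw [← h3, Finset.coe_pair, Set.image_pair]
    rw [h4]
    refine mz_two F hD hi hS hH hP (hs a ha) (hs b hb) (ht a ha) (ht b hb) ?_ (fun k => hj (k ▸ ha)) fun k => hj (k ▸ hb)
    exact (Nat.coprime_primes (ho a ha) (ho b hb)).2 fun k => hba (h2 b hb a ha (k ▸ ha2) ha2)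

end

theorem fix_zz (x : YY D p) (a : T) : F.m.σ (x⁻¹ * zz F x a * x) = x⁻¹ * zz F x a * x := by
  have h : x⁻¹ * zz F x a * x = F.m.ι a := by
    unfold zz
    rw [F.hι]
    group
  rw [h, F.m.fix]

theorem conj_zz (x : YY D p) {a c : T} {j : ℕ} (h : c * a * c⁻¹ = a ^ j) :
    zz F x c * zz F x a * (zz F x c)⁻¹ = zz F x a ^ j := by
  rw [← zz_inv, ← zz_mul, ← zz_mul, h, zz_pow]

theorem q_dvd_hm (x : YY D p) (a : T) {r : ℕ} [Fact r.Prime] (hrp : r ≠ p) (ha : orderOf a = r) :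
    orderOf (q : ZMod r) ∣ Cb.hm hp (zz F x a) r := by
  have hy : zz F x a ^ r = 1 := by rw [← ha, ← ord_zz F x, pow_orderOf_eq_one]
  have h := Cb.dvd_hm (k := Units.mk0 _ (Cb.cast_pow_ne hrp F.m.e)) (Cb.mem_HH_of_aut (hp := hp) hrp hy F.m.frob (z := 1)
    (g := F.m.g) (by rw [map_one, one_mul]; exact F.m.fr) (j := 1) ?_ (by rw [Nat.cast_one, mul_one]; rfl))
  · rwa [Units.val_mk0, F.m.hq] at h
  · have h1 := fix_zz F x a
    rw [map_mul, map_mul, map_inv] at h1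
    refine isConj_iff.2 ⟨x * (F.m.σ x)⁻¹, ?_⟩
    rw [pow_one]
    calc x * (F.m.σ x)⁻¹ * F.m.σ (zz F x a) * (x * (F.m.σ x)⁻¹)⁻¹
        = x * ((F.m.σ x)⁻¹ * F.m.σ (zz F x a) * F.m.σ x) * x⁻¹ := by group
      _ = zz F x a := by rw [h1]; group

end Fr

open Fr

/-- **[Fr]** -/
theorem boxFr_of (hH : BoxH1) (hP : BoxPerf) (hT : BoxTor) (hR : BoxRz) : BoxFr := by
  intro D l M hp p _ tw f G _ _ T H F ι _ _ S C hi hS I s n hE h2
  have hD := C.typ
  have hs : ∀ i ∈ I, (s i : G) ∈ S i := fun i h => (hE i h).1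
  have ho : ∀ i ∈ I, (orderOf (s i)).Prime := fun i h => (hE i h).2.1
  have hn : ∀ i ∈ I, orderOf (s i) ≠ p := fun i h => (hE i h).2.2.1
  obtain ⟨x, hx⟩ := exists_tor F hD hi hS hP hT I hs (fun i h => (Nat.coprime_primes (ho i h) Fact.out).2 (hn i h)) ho h2
  have po : ∀ i ∈ I, Po D (zz F x (s i)) (orderOf (s i)) := fun i h => ⟨hx i h, ho i h, hn i h, ord_zz F x _⟩
  have sub : ∀ I' : Finset ι, I' ⊆ I → (fun i => zz F x (s i)) '' I' ⊆ TT D (KK p) := by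
    rintro I' h _ ⟨i, k, rfl⟩
    exact hx i (h k)
  have mz : ∀ I' : Finset ι, I' ⊆ I → ((∀ i ∈ I', orderOf (s i) ≠ 2) ∨ I'.card ≤ 2) → ∀ j ∉ I',
      JJ F S x j ≤ Mz hp p ((fun i => zz F x (s i)) '' I') := fun I' h k j hj =>
    mz_all F hD hi hS hH hP (fun i e => hs i (h e)) (fun i e => hx i (h e)) (fun i e => ho i (h e))
      (fun i e j e' => h2 i (h e) j (h e')) k hj
  refine ⟨x, po, sp_JJ F hS x, mz, fun I' h k j hj hj' => ?_, fun I' h j hj hj' h0 => ?_, fun j hj h0 _ => ?_⟩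
  · refine (hH D l M hp p hD).1 _ _ _ (I'.finite_toSet.image _) (sub I' h) (sp_JJ F hS x j) (mz I' h k j hj')
      (zz_mem F (hs j hj)) (hx j hj) fun e => ?_
    have h1 := ord_zz F x (s j)
    rw [e, orderOf_one] at h1
    exact (ho j hj).ne_one h1.symm
  · obtain ⟨-, -, -, k, ⟨c, hc, h1⟩, h3⟩ := hE j hj
    obtain ⟨k', h4, h5⟩ := hR D l M hp p hD (p ^ f) T F.m x _ (zz F x (s j)) (zz F x c) _ k (I'.finite_toSet.image _) (sub I' h)
      (by rintro _ ⟨i, -, rfl⟩; exact fin_zz F x _) (po j hj) h0 (by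
        rintro _ (rfl | ⟨i, -, rfl⟩)
        exacts [fix_zz F x _, fix_zz F x _]) (JJ_cen F hi hS x (fun i e => hs i (h e)) hj' (zz_mem F hc)) (conj_zz F x h1)
    exact ⟨k', h3.trans h4, h5⟩
  · obtain ⟨-, -, -, k, ⟨c, -, h1⟩, h3⟩ := hE j hj
    refine h3.trans (Nat.lcm_dvd (Cb.two_dvd_hm ?_ h0) (Nat.lcm_dvd (Cb.ord_conj_dvd (hn j hj) (ord_zz F x _) ?_)
      (q_dvd_hm F x _ (hn j hj) rfl)))
    · rw [← ord_zz F x, pow_orderOf_eq_one]
    · exact isConj_iff.2 ⟨_, conj_zz F x h1⟩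

end Cfsg.Agent.N2.Ex.Mu
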