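import Cfsg.Agent.N2.Ex.Mu.Defs
import Cfsg.Agent.KM.Si.Q

/-!
# N2 (S3519), several components: the boxes `H1` and `Tor` (helper46)
-/

set_option autoImplicit false
set_option linter.unusedSectionVars false

namespace Cfsg.Agent.N2.Ex.Mu

open CoxeterSystem Cfsg Cfsg.Lie Cfsg.Lie.ChevalleyDatum
open Cfsg.Agent.ChevalleyStructure Cfsg.Agent.ChevalleyStructure.CoxeterGeom Cfsg.Agent.Tits.Roots Cfsg.Agent.Nodes Cfsg.Agent.Nodes.BNOf Cfsg.Agent.Nodes.RGDChev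
open Cfsg.Agent.KFacts.RgdChevCoord Cfsg.Agent.H469.Exc Cfsg.Agent.H316.U6 Cfsg.Agent.H129.TorusChar Cfsg.Agent.DS.Ex Cfsg.Agent.DS.Nt
open Subgroup (centralizer)

namespace HT

variable {D : ChevalleyDatum} {l : ℕ} {M : CoxeterMatrix (Fin l)} (hp : IsType D l M) {p : ℕ} [Fact p.Prime]
  {Z : Set (YY D p)} {e : ℕ}

/-- the split datum -/
noncomputable abbrev dt (he : 0 < e) : DL.Datum p (D.group (KK p)).subtype (DL.Ex.frobA hp.inList p e) ⊤ :=
  DL.Ex.chev hp (locFin p) he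

theorem sz_eq (he : 0 < e) (hZ : Z ⊆ TT D (KK p)) : (dt hp he).Sz Z = Ps hp p Z := by
  ext a
  refine Iff.trans ?_ (mem_Ps (hp := hp) (a := a) hZ).symm
  refine and_congr_right fun _ => forall_congr' fun z => forall_congr' fun hz => ?_
  obtain ⟨c, rfl⟩ := (DL.Ex.mem_TT_iff hp z).1 (hZ hz)
  rw [DL.Ex.cX_tau hp c a]
  exact Eq.congr_left ((dt hp he).χ_τ a c)

theorem cen_eq (he : 0 < e) (hZ : Z ⊆ TT D (KK p)) : (dt hp he).cen Z = DZ hp p Z :=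
  (congrArg (fun A => (dt hp he).T ⊔ (dt hp he).S A) (sz_eq hp he hZ)).trans (sup_comm _ _)

/-- **the torus of the semisimple part** -/
theorem h1 (hZ : Z ⊆ TT D (KK p)) {t : YY D p} (ht : t ∈ TT D (KK p)) (h : t ∈ Mz hp p Z) : H1 hp p Z t := fun x hx => by
  let X := dt (p := p) hp one_pos
  have h2 := KM.Si.Qd.T_inf_S_le (X.sub hZ (fun _ h => h) rfl) (x := t) ⟨ht, by
    rw [X.sub_S hZ (fun _ h => h) rfl]
    exact (X.io_roots Z).symm ▸ (sz_eq hp one_pos hZ).symm ▸ h⟩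
  have h3 : ∀ s ∈ KM.Si.ZL (X.sub hZ (fun _ h => h) rfl) (Set.range (X.sub hZ (fun _ h => h) rfl).cw),
      s ∈ TT D (KK p) ∧ cX hp s x = 1 := fun s hs => by
    induction hs using Subgroup.closure_induction with
    | mem _ hs =>
      obtain ⟨_, ⟨j, rfl⟩, a, rfl⟩ := hs
      have h4 := (X.pair_cor (DL.Base.bs_root j) x).trans (hx _ (sz_eq hp one_pos hZ ▸
        X.mem_Sz.2 ⟨DL.Base.bs_root j, DL.Base.bs_mem j⟩))
      exact ⟨X.τ_mem _, (DL.Ex.cX_tau hp _ x).trans (congrArg Units.val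
        ((DL.Ex.chr_coch x _ a).trans ((congrArg (a ^ ·) h4).trans (zpow_zero a))))⟩
    | one => exact ⟨one_mem _, cX_one hp x⟩
    | mul _ _ _ _ a b => exact ⟨mul_mem a.1 b.1, by rw [cX_mul hp a.1 b.1, a.2, b.2, mul_one]⟩
    | inv s _ a =>
      refine ⟨inv_mem a.1, ?_⟩
      have h4 := cX_mul hp a.1 (inv_mem a.1) x
      rwa [mul_inv_cancel, cX_one, a.2, one_mul, eq_comm] at h4
  exact (h3 t h2).2

/-- **semisimple elements of the connected centraliser** -/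
theorem tor (hZ : Z ⊆ TT D (KK p)) {y : YY D p} (hy : y ∈ DZ hp p Z) (h : (orderOf y).Coprime p) :
    ∃ d ∈ Mz hp p Z, d * y * d⁻¹ ∈ TT D (KK p) := by
  obtain ⟨e, he, h1⟩ := (dt (p := p) hp one_pos).amb.exists_lev' y
  obtain ⟨_, ⟨c, hc, rfl, -⟩, h2⟩ := (DL.Asm.sys' ((dt hp he).sub hZ (fun _ h => h) (cen_eq hp he hZ))).toral
    (s := y) ⟨hy, Subtype.ext h1⟩ ((Nat.Prime.coprime_iff_not_dvd Fact.out).1 h.symm)
  obtain ⟨m, hm, t, ht, rfl⟩ := mem_DZ.1 hc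
  have h3 : (m * t)⁻¹ * y * (m * t) ∈ TT D (KK p) := Nodes.Reps.mem_cj.1 h2
  refine ⟨m⁻¹, inv_mem hm, ?_⟩
  rw [show m⁻¹ * y * m⁻¹⁻¹ = t * ((m * t)⁻¹ * y * (m * t)) * t⁻¹ by group]
  exact mul_mem (mul_mem ht h3) (inv_mem ht)

theorem nz {J : Subgroup (YY D p)} {t : YY D p} (hJ : Sp J) (h : J ≤ Mz hp p Z) (h0 : t ∈ J) (ht : t ∈ TT D (KK p))
    (h1 : t ≠ 1) : NZ hp p Z t := by
  by_contra h2
  have := hJ.2.1
  refine hJ.2.2.1 (Subgroup.center_eq_top_iff.1 ((Subgroup.Normal.eq_bot_or_eq_top inferInstance).resolve_left fun h3 => h1 ?_))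
  have h4 : (⟨t, h0⟩ : J) ∈ Subgroup.center J := Subgroup.mem_center_iff.2 fun g => Subtype.ext
    (comm_Mz ht (fun a ha => by_contra fun h5 => h2 ⟨a, ha, h5⟩) (h g.2)).symm
  rw [h3] at h4
  exact congrArg Subtype.val (Subgroup.mem_bot.1 h4)

theorem ps_mul {s t : YY D p} (hs : s ∈ TT D (KK p)) (ht : t ∈ TT D (KK p)) (h : (orderOf s).Coprime (orderOf t)) :
    Ps hp p {s * t} = Ps hp p {s, t} := by
  ext a
  rw [mem_Ps (Set.singleton_subset_iff.2 (mul_mem hs ht)), mem_Ps (Set.pair_subset hs ht)]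
  simp only [Set.mem_singleton_iff, forall_eq, Set.mem_insert_iff, forall_eq_or_imp, cX_mul hp hs ht]
  refine and_congr_right' ⟨fun k => ?_, fun k => by rw [k.1, k.2, mul_one]⟩
  have a1 : cX hp s a ^ orderOf s = 1 := by rw [← cX_pow hp hs, pow_orderOf_eq_one, cX_one]
  have a2 : cX hp t a ^ orderOf t = 1 := by rw [← cX_pow hp ht, pow_orderOf_eq_one, cX_one]
  have a3 : cX hp s a ^ orderOf t = 1 := by simpa only [mul_pow, a2, mul_one, one_pow] using congrArg (· ^ orderOf t) k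
  have a4 : cX hp s a = 1 := by rw [← pow_one (cX hp s a), ← h.gcd_eq_one, pow_gcd_eq_one]; exact ⟨a1, a3⟩
  exact ⟨a4, by rwa [a4, one_mul] at k⟩

theorem ps_closure (hZ : Z ⊆ TT D (KK p)) : Ps hp p (Subgroup.closure Z) = Ps hp p Z := by
  have h0 : Subgroup.closure Z ≤ TT D (KK p) := (Subgroup.closure_le _).2 hZ
  ext a
  rw [mem_Ps h0, mem_Ps hZ]
  refine and_congr_right' ⟨fun h t ht => h t (Subgroup.subset_closure ht), fun h t ht => ?_⟩
  induction ht using Subgroup.closure_induction with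
  | mem _ hs => exact h _ hs
  | one => exact cX_one hp a
  | mul _ _ u v b c => rw [cX_mul hp (h0 u) (h0 v), b, c, mul_one]
  | inv s u b =>
    have h4 := cX_mul hp (h0 u) (inv_mem (h0 u)) a
    rwa [mul_inv_cancel, cX_one, b, one_mul, eq_comm] at h4

end HT

/-- **[H1]** -/
theorem boxH1 : BoxH1 := fun _ _ _ hp _ _ _ =>
  ⟨fun _ _ _ _ hZ hJ h h0 ht h1 => ⟨HT.h1 hp hZ ht (h h0), HT.nz hp hJ h h0 ht h1⟩, fun _ _ hs ht _ _ h => HT.ps_mul hp hs ht h,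
    fun _ => HT.ps_closure hp, fun x s h => (dd_conj x s).symm.trans (SB.Exc.CI.ncard_Ps (hp := hp) h).symm⟩

/-- **[Tor]** -/
theorem boxTor : BoxTor := fun _ _ _ hp _ _ _ _ _ _ hZ _ hy h => HT.tor hp hZ hy h

end Cfsg.Agent.N2.Ex.Mu
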