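import Cfsg.Agent.N2.Ex.Mu.Defs
import Cfsg.Agent.N2.Ex.Mu.Gp
import Cfsg.Agent.N2.Ex.Sim.Val
import Mathlib.GroupTheory.Perm.DomMulAct

/-!
# N2 (S3519), exceptional groups, several components: `boxMA_of` (helper35)
-/

set_option autoImplicit false
set_option linter.unusedSectionVars false

namespace Cfsg.Agent.N2.Ex.Mu

open Cfsg Cfsg.Lie Subgroup
open Cfsg.Agent.Nodes.RGDChev Cfsg.Agent.H316.U6 Cfsg.Agent.DS.Ex Cfsg.Agent.DS.Nt Cfsg.Agent.H469.Exc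

namespace MAg

/-- the permutations which keep `t` -/
def Pk {α : Type} (t : α → ℕ) : Subgroup (Equiv.Perm α) where
  carrier := {g | t ∘ g = t}
  mul_mem' {a b} ha hb := funext fun x => (congrFun ha (b x)).trans (congrFun hb x)
  one_mem' := rfl
  inv_mem' {a} ha := funext fun x => (congrFun ha (a⁻¹ x)).symm.trans (congrArg t (a.apply_symm_apply x))

theorem card_Pk {ι : Type} [Fintype ι] [DecidableEq ι] (t : ι → ℕ) : Nat.card (Pk t) = mu t := by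
  have h : Nat.card (Pk t) = Nat.card {g : Equiv.Perm ι // t ∘ g = t} := rfl
  rw [h, Nat.card_eq_fintype_card, DomMulAct.stabilizer_card', mu]
  exact Finset.prod_congr rfl fun v _ => by rw [Fintype.card_subtype]

theorem card_Pk_congr {α β : Type} (e : α ≃ β) (t : β → ℕ) : Nat.card (Pk t) = Nat.card (Pk fun a => t (e a)) :=
  (Nat.card_congr (e.permCongr.subtypeEquiv (p := fun g => g ∈ Pk fun a => t (e a)) (q := fun g => g ∈ Pk t) fun g =>
    ⟨fun k => funext fun x => (congrFun k (e.symm x)).trans (congrArg t (e.apply_symm_apply x)), fun k => funext fun x => by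
      have := congrFun k (e x)
      rwa [Function.comp_apply, Equiv.permCongr_apply, e.symm_apply_apply] at this⟩)).symm

variable {G : Type} [Group G] [Finite G] {T H : Subgroup G} {ι : Type} [Fintype ι] [DecidableEq ι] {S : ι → Subgroup G}
  (hS : Function.Injective S) (h : Mul T H (Set.range S))

include hS h

theorem pw (I : Finset ι) : Pairwise fun i j : I => ∀ x y : G, x ∈ S i → y ∈ S j → Commute x y :=
  fun i j k x y hx hy => h.comm _ ⟨i, rfl⟩ _ ⟨j, rfl⟩ (hS.ne fun e => k (Subtype.ext e)) x hx y hy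

theorem range_pi (I : Finset ι) : (noncommPiCoprod (pw hS h I)).range = ⨆ i ∈ I, S i := by
  rw [noncommPiCoprod_range, iSup_subtype']

omit hS in
theorem le_A (I : Finset ι) : ⨆ i ∈ I, S i ≤ H ⊓ T := iSup₂_le fun i _ => h.le _ ⟨i, rfl⟩

theorem cen {I : Finset ι} {i : ι} (hi : i ∉ I) {x y : G} (hx : x ∈ ⨆ j ∈ I, S j) (hy : y ∈ S i) : y * x = x * y :=
  (iSup₂_le (fun j hj z hz w hw => h.comm _ ⟨i, rfl⟩ _ ⟨j, rfl⟩ (hS.ne fun e => hi (e ▸ hj)) w hw z hz) :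
    (⨆ j ∈ I, S j) ≤ centralizer (S i : Set G)) hx y hy

theorem cen2 {I : Finset ι} {x : G} (hx : x ∈ ⨆ j ∈ I, S j) : ⨆ j ∈ Iᶜ, S j ≤ T ⊓ centralizer {x} :=
  le_inf ((le_A h _).trans inf_le_right) (iSup₂_le fun _ hj _ hy =>
    mem_centralizer_singleton_iff.2 (cen hS h (Finset.mem_compl.1 hj) hx hy))

theorem disj {I : Finset ι} {x : G} (h1 : x ∈ ⨆ j ∈ I, S j) (h2 : x ∈ ⨆ j ∈ Iᶜ, S j) : x = 1 :=
  h.cent x (le_A h I h1).2 (by
    rintro _ ⟨i, rfl⟩ y hy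
    by_cases k : i ∈ I
    exacts [(cen hS h (fun e => Finset.mem_compl.1 e k) h2 hy).symm, (cen hS h k h1 hy).symm])

theorem card_K (I : Finset ι) : Nat.card ↥(⨆ i ∈ I, S i) = ∏ i ∈ I, Nat.card (S i) := by
  have hi : Function.Injective (noncommPiCoprod (pw hS h I)) := by
    refine injective_noncommPiCoprod_of_iSupIndep fun i => disjoint_iff.2 (eq_bot_iff.2 fun x hx => mem_bot.2 ?_)
    refine disj hS h (I := {i.1}) ((le_iSup₂_of_le i.1 (Finset.mem_singleton_self _) le_rfl : S i ≤ ⨆ j ∈ ({i.1} : Finset ι), S j) hx.1) ?_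
    exact (iSup₂_le fun j hj => le_iSup₂_of_le j.1 (Finset.mem_compl.2 fun e => hj (Subtype.ext (Finset.mem_singleton.1 e))) le_rfl :
      (⨆ (j : I) (_ : j ≠ i), S j) ≤ ⨆ j ∈ ({i.1} : Finset ι)ᶜ, S j) hx.2
  rw [← range_pi hS h, ← Nat.card_congr (MonoidHom.ofInjective hi).toEquiv, Nat.card_pi,
    Finset.prod_coe_sort I fun i => Nat.card (S i)]

theorem card_dvd : Nat.card ↥(H ⊓ T) ∣ (∏ i, Nat.card (S i)) *
    ((∏ i, Nat.card (MulAut (S i)) / Nat.card (S i)) * mu fun i => Nat.card (S i)) := by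
  let e := Equiv.ofInjective S hS
  have := Fintype.ofEquiv ι e
  have h1 := Gp.card_dvd h (P := Pk fun U : Set.range S => Nat.card (U : Subgroup G)) (by
    rintro _ ⟨a, rfl⟩
    exact funext fun U => TH.card_cj (a : G) (U : Subgroup G))
  rw [card_Pk_congr e, card_Pk, ← e.prod_comp, mul_comm] at h1
  rw [← mul_assoc, ← Finset.prod_mul_distrib, Finset.prod_congr rfl fun i _ => Nat.mul_div_cancel' (by
    have := h.simple _ ⟨i, rfl⟩
    exact card_dvd_of_injective _ (conj_inj (h.nonab _ ⟨i, rfl⟩)))]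
  exact h1

theorem orb {I : Finset ι} {a : T} (ha : (a : G) ∈ ⨆ i ∈ I, S i) : Nat.card ↥(H ⊓ T) ≤
    (∏ i ∈ I, (Finset.univ.filter fun j => Nat.card (S j) = Nat.card (S i)).card * Nat.card (S i)) * cn a := by
  rw [← range_pi hS h] at ha
  obtain ⟨u, hu⟩ := ha
  have h1 : ∀ (g : ↥(H ⊓ T)) (i : ι), ∃ j, S j = TH.cj (g : G) (S i) := fun g i => h.perm g g.2.1 _ ⟨i, rfl⟩
  choose σ hσ using h1
  have h2 := Gp.card_le_fib (X := ∀ i : I, Σ j : {j // Nat.card (S j) = Nat.card (S i)}, S j) (H ⊓ T) (T ⊓ centralizer {(a : G)})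
    (fun g i => ⟨⟨σ g i, by rw [hσ, TH.card_cj]⟩, ⟨g * u i * (g : G)⁻¹, by rw [hσ]; exact TH.conj_mem_cj _ (u i).2⟩⟩)
    fun g g' e => ⟨T.mul_mem (T.inv_mem g.2.2) g'.2.2, mem_centralizer_singleton_iff.2 (by
      rw [← hu, noncommPiCoprod_apply]
      refine (Finset.noncommProd_commute _ _ _ _ fun i _ => ?_).eq
      have k : (g : G) * u i * (g : G)⁻¹ = g' * u i * (g' : G)⁻¹ :=
        congrArg (fun z : Σ j : {j // Nat.card (S j) = Nat.card (S i)}, S j => (z.2 : G)) (congrFun e i)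
      calc (g : G)⁻¹ * g' * u i = (g : G)⁻¹ * (g' * u i * (g' : G)⁻¹) * g' := by group
        _ = u i * ((g : G)⁻¹ * g') := by rw [← k]; group)⟩
  rw [Gp.cn_eq]
  refine h2.trans (Nat.mul_le_mul_right _ (le_of_eq ?_))
  rw [Nat.card_pi, ← Finset.prod_coe_sort I]
  refine Finset.prod_congr rfl fun i _ => ?_
  rw [Nat.card_sigma, Finset.sum_congr rfl fun j _ => j.2, Finset.sum_const, smul_eq_mul, Finset.card_univ, Fintype.card_subtype]

theorem mem_K {κ : ℕ} (hκ : Nat.card ↥(H ⊓ T) = (∏ i, Nat.card (S i)) * κ) {g : G} (hg : g ∈ H ⊓ T)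
    (ho : κ.Coprime (orderOf g)) : g ∈ ⨆ i ∈ (Finset.univ : Finset ι), S i := by
  have e : ⨆ i ∈ (Finset.univ : Finset ι), S i = sSup (Set.range S) := by simp only [Finset.mem_univ, iSup_pos, sSup_range]
  have hN : ((⨆ i ∈ (Finset.univ : Finset ι), S i).subgroupOf (H ⊓ T)).Normal :=
    ⟨fun x hx a => by
      rw [mem_subgroupOf, e] at hx ⊢
      exact h.prf.nrm a a.2.1 x hx⟩
  have h1 := ((⨆ i ∈ (Finset.univ : Finset ι), S i).subgroupOf (H ⊓ T)).card_mul_index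
  rw [Nat.card_congr (subgroupOfEquivOfLe (le_A h _)).toEquiv, card_K hS h, hκ] at h1
  have h2 := pow_index_mem (H := (⨆ i ∈ (Finset.univ : Finset ι), S i).subgroupOf (H ⊓ T)) ⟨g, hg⟩
  rw [Nat.eq_of_mul_eq_mul_left (Finset.prod_pos fun i _ => Nat.card_pos) h1] at h2
  obtain ⟨m, hm⟩ := exists_pow_eq_self_of_coprime ho
  rw [← hm]
  exact pow_mem h2 m

theorem winK {κ : ℕ} (hκ : Nat.card ↥(H ⊓ T) = (∏ i, Nat.card (S i)) * κ) {a : T} (ha : (a : G) ∈ H)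
    (ho : (orderOf a).Coprime κ) {c : ℕ} (hc : cn a ≤ c) (h1 : c ^ 3 * ∏ i, Nat.card (S i) ≤ Nat.card T) : Gd T H := by
  refine good_of_cc (A := H.subgroupOf T) ha hc (d := ∏ i, Nat.card (S i)) ?_ ?_
  · rw [← card_K hS h]
    refine Nat.card_le_card_of_injective (fun g => ⟨g.1, mem_K hS h hκ ⟨g.2.2, g.1.2⟩ ?_⟩) fun _ _ e =>
      Subtype.ext (Subtype.ext (Subtype.mk.inj e))
    obtain ⟨x, hx⟩ := isConj_iff.1 g.2.1
    rw [orderOf_coe, ← hx, ← MulAut.conj_apply, MulEquiv.orderOf_eq]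
    exact ho.symm
  · have h2 : ∏ i, Nat.card (S i) ≤ Nat.card (H.subgroupOf T) := by
      rw [card_A, ← card_K hS h]
      exact card_le_of_le (le_A h _)
    calc _ = c ^ 3 * (∏ i, Nat.card (S i)) * (∏ i, Nat.card (S i)) ^ 2 := by ring
      _ ≤ _ := Nat.mul_le_mul h1 (Nat.pow_le_pow_left h2 2)

theorem emb {I : Finset ι} {a : T} (ha : (a : G) ∈ ⨆ i ∈ I, S i) : (∏ i ∈ Iᶜ, Nat.card (S i)) * orderOf a ≤ cn a := by
  rw [Gp.cn_eq, ← card_K hS h, ← orderOf_coe, ← Nat.card_zpowers, ← Nat.card_prod]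
  have h1 : zpowers (a : G) ≤ T ⊓ centralizer {(a : G)} := zpowers_le.2 ⟨a.2, mem_centralizer_singleton_iff.2 rfl⟩
  refine Nat.card_le_card_of_injective (fun x => ⟨x.1 * x.2, mul_mem (cen2 hS h ha x.1.2) (h1 x.2.2)⟩) fun x y e => ?_
  have h2 : (x.1 : G) * x.2 = y.1 * y.2 := Subtype.mk.inj e
  have h3 : (y.1 : G)⁻¹ * x.1 = y.2 * (x.2 : G)⁻¹ := by
    rw [inv_mul_eq_iff_eq_mul, ← mul_assoc, ← h2, mul_inv_cancel_right]
  have h4 : (y.1 : G)⁻¹ * x.1 = 1 :=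
    disj hS h (h3 ▸ zpowers_le.2 ha (mul_mem y.2.2 (inv_mem x.2.2))) (mul_mem (inv_mem y.1.2) x.1.2)
  exact Prod.ext (Subtype.ext (inv_mul_eq_one.1 h4).symm) (Subtype.ext (mul_inv_eq_one.1 (h3.symm.trans h4)).symm)

theorem syl (p : ℕ) [Fact p.Prime] {I : Finset ι} {a : T} (ha : (a : G) ∈ ⨆ i ∈ I, S i) : ∃ P : Subgroup T,
    IsPGroup p P ∧ P ≤ centralizer {a} ∧ Nat.card P = ∏ i ∈ Iᶜ, p ^ (Nat.card (S i)).factorization p := by
  have h1 : ⨆ i ∈ Iᶜ, S i ≤ T := (le_A h _).trans inf_le_right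
  obtain ⟨P, hP⟩ := Sylow.exists_subgroup_card_pow_prime (G := ↥(⨆ i ∈ Iᶜ, S i)) p
    (n := ∑ i ∈ Iᶜ, (Nat.card (S i)).factorization p) (by
      rw [card_K hS h, ← Finset.prod_pow_eq_pow_sum]
      exact Finset.prod_dvd_prod_of_dvd _ _ fun i _ => Nat.ordProj_dvd _ _)
  refine ⟨P.map (inclusion h1), (IsPGroup.of_card hP).map _, ?_, ?_⟩
  · rintro _ ⟨x, -, rfl⟩
    exact mem_centralizer_singleton_iff.2 (Subtype.ext (mem_centralizer_singleton_iff.1 (cen2 hS h ha x.2).2))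
  · rw [card_map_of_injective (inclusion_injective h1), hP, Finset.prod_pow_eq_pow_sum]

end MAg

open MAg

/-- **[MA]** -/
theorem boxMA_of (hCN : BoxCN) (hPU : BoxPU) (h1 : BoxH1) : BoxMA := by
  intro D l M hp p _ tw f G _ _ T H F ι _ _ S C hS h
  obtain ⟨κ, hκ⟩ : ∏ i, Nat.card (S i) ∣ Nat.card ↥(H ⊓ T) := by
    rw [← card_K hS h]
    exact card_dvd_of_le (le_A h _)
  have hc : ∀ (a : T) (k : ℕ), (orderOf a).Coprime p → dd p (F.L.ι a) ≤ l + k → cn a ≤ cb l (p ^ f) k :=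
    hCN D l M hp p tw f G T H F C.toX0
  refine ⟨κ, Nat.dvd_of_mul_dvd_mul_left (Finset.prod_pos fun i _ => Nat.card_pos) (hκ ▸ card_dvd hS h),
    hκ ▸ card_dvd_of_le inf_le_right, ?_, ?_, ?_, ?_, ?_, ?_, ?_⟩
  · rintro I k _ ⟨a, a1, rfl, a2, a3⟩
    exact hκ ▸ (orb hS h a1).trans (Nat.mul_le_mul_left _ (hc a k a2 a3))
  · rintro I k _ ⟨a, a1, rfl, a2, a3⟩ b
    exact gd_of_cn (le_A h I a1).1 (hc a k a2 a3) (hκ ▸ b)
  · rintro I k _ ⟨a, a1, rfl, a2, a3⟩ b1 b2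
    exact winK hS h hκ (le_A h I a1).1 b1 (hc a k a2 a3) b2
  · rintro I k _ ⟨a, a1, rfl, a2, a3⟩
    exact (emb hS h a1).trans (hc a k a2 a3)
  · rintro I k _ ⟨a, a1, rfl, a2, a3⟩
    obtain ⟨x, hx⟩ := Cb.exists_tor hp a2 (y := F.L.ι a) (by rw [← map_pow, pow_orderOf_eq_one, map_one])
    obtain ⟨P, b1, b2, b3⟩ := syl hS h p a1
    have b4 := (h1 D l M hp p C.typ).2.2.2 x _ hx
    rw [← b3]
    exact ((hPU D l M hp p tw f G T H F C.toX0 a x a2 hx).1 P b1 b2).trans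
      (Nat.pow_le_pow_right (pow_pos (Fact.out : p.Prime).pos f) (by omega))
  · rintro I I' k k' _ ⟨a, a1, rfl, a2, a3⟩ b1 b2
    exact ⟨a, biSup_mono (f := S) b1 a1, rfl, a2, a3.trans (Nat.add_le_add_left b2 l)⟩
  · rintro I k _ ⟨a, a1, rfl, a2, a3⟩ b1 b2 b3
    have b4 := (Sm.boxVal D l M hp C.typ p (F.L.ι a) _ a2 (by rw [← map_pow, pow_orderOf_eq_one, map_one])).2.2 b1 b2
    exact ⟨a, a1, rfl, a2, by omega⟩

end Cfsg.Agent.N2.Ex.Mu
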