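import Cfsg.Agent.N2.Ex.Mu.Defs

/-!
# N2 (S3519), exceptional groups, several components: chains (helper43)
-/

set_option autoImplicit false
set_option linter.unusedSectionVars false
set_option maxHeartbeats 400000

namespace Cfsg.Agent.N2.Ex.Mu

open CoxeterSystem Cfsg Cfsg.Lie Cfsg.Lie.ChevalleyDatum
open Cfsg.Agent.ChevalleyStructure Cfsg.Agent.ChevalleyStructure.CoxeterGeom Cfsg.Agent.Tits.Roots Cfsg.Agent.Nodes Cfsg.Agent.Nodes.BNOf Cfsg.Agent.Nodes.RGDChev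
open Cfsg.Agent.KFacts.RgdChevCoord Cfsg.Agent.BpExc.Fr Cfsg.Agent.BpExc.LangFr
open Cfsg.Agent.H469.Exc Cfsg.Agent.H316.U6 Cfsg.Agent.H129.TorusChar Cfsg.Agent.DS.Ex Cfsg.Agent.DS.Nt
open Cfsg.Agent.SB.Exc (XF)

namespace Chn

variable {D : ChevalleyDatum} {l : ℕ} {M : CoxeterMatrix (Fin l)} {hp : IsType D l M} {p : ℕ} [Fact p.Prime]

theorem ps_anti {Z Z' : Set (YY D p)} (h : Z ⊆ Z') : Ps hp p Z' ⊆ Ps hp p Z := fun _ ha => ⟨ha.1, fun t ht => ha.2 t (h ht)⟩

theorem ps_union (Z Z' : Set (YY D p)) : Ps hp p (Z ∪ Z') = Ps hp p Z ∩ Ps hp p Z' := Set.ext fun _ =>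
  ⟨fun h => ⟨ps_anti Set.subset_union_left h, ps_anti Set.subset_union_right h⟩,
    fun h => ⟨h.1.1, fun t ht => ht.elim (h.1.2 t) (h.2.2 t)⟩⟩

theorem nR_ins {Z Z' : Set (YY D p)} (h : Ps hp p Z = Ps hp p Z') (t : YY D p) :
    nR hp p (insert t Z) = nR hp p (insert t Z') := by
  rw [nR, nR, Set.insert_eq, Set.insert_eq, ps_union, ps_union, h]

theorem sz_ne (l : ℕ) : SZ l l ≠ 0 := by
  rw [SZ, if_pos le_rfl, col]
  split_ifs <;> norm_num

theorem nR_lt (h0 : nR hp p (∅ : Set (YY D p)) = SZ l l) {Z Z' : Set (YY D p)} (h : Z ⊆ Z') {t : YY D p} (ht : t ∈ Z')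
    (hT : t ∈ TT D (KK p)) (nz : NZ hp p Z t) : nR hp p Z' < nR hp p Z := by
  obtain ⟨a, h1, h2⟩ := nz
  refine Set.ncard_lt_ncard ⟨ps_anti h, fun k => h2 ?_⟩
    ((Set.finite_of_ncard_ne_zero (s := Ps hp p (∅ : Set (YY D p))) (h0.trans_ne (sz_ne l))).subset (ps_anti (Set.empty_subset _)))
  rw [cX_root hp _ hT h1.1]
  exact (k h1).2 t ht

variable {q : ℕ} {G : Type} [Group G] [Finite G] {T : Subgroup G} {F : XF hp p q T} {ι : Type} [DecidableEq ι]
  {S : ι → Subgroup G} {I : Finset ι} {s : ι → T} {n : ι → ℕ} {x : YY D p}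

variable (F x) in
/-- the frame as a homomorphism -/
noncomputable def zh : T →* YY D p := (MulAut.conj x).toMonoidHom.comp F.L.ι

theorem zh_inj : Function.Injective (zh F x) := (MulAut.conj x).injective.comp F.L.inj

theorem zz_mul (a b : T) : zz F x (a * b) = zz F x a * zz F x b := map_mul (zh F x) a b

theorem zz_one : zz F x (1 : T) = 1 := map_one (zh F x)

theorem zz_inv (a : T) : zz F x a⁻¹ = (zz F x a)⁻¹ := map_inv (zh F x) a

theorem ord_zz (a : T) : orderOf (zz F x a) = orderOf a := orderOf_injective (zh F x) zh_inj a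

theorem fin_zz (a : T) : IsOfFinOrder (zz F x a) := (zh F x).isOfFinOrder (isOfFinOrder_of_finite a)

theorem comm_zz {a b : T} (ha : zz F x a ∈ TT D (KK p)) (hb : zz F x b ∈ TT D (KK p)) : Commute a b :=
  zh_inj (F := F) (x := x) (by
    rw [map_mul, map_mul]
    exact BpExc.TorChev.TT_comm hp _ ha _ hb)

variable (F s x) in
/-- the images of the elements of `K` -/
def ZZ (K : Finset ι) : Set (YY D p) := (fun i => zz F x (s i)) '' K

theorem ZZ_insert (i : ι) (K : Finset ι) : ZZ F s x (insert i K) = insert (zz F x (s i)) (ZZ F s x K) := by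
  rw [ZZ, Finset.coe_insert, Set.image_insert_eq]
  rfl

theorem ZZ_empty : ZZ F s x ∅ = ∅ := by rw [ZZ, Finset.coe_empty, Set.image_empty]

theorem ZZ_single (i : ι) : ZZ F s x {i} = {zz F x (s i)} := by rw [ZZ, Finset.coe_singleton, Set.image_singleton]

section

variable (hRK : BoxRK) (hSZ : BoxSZ) (hA : BoxAvg) (h1 : BoxH1) (hD : Typ D) (m : Fm F S I s n x)

include m in
theorem ZZ_sub {K : Finset ι} (hK : K ⊆ I) : ZZ F s x K ⊆ TT D (KK p) := by
  rintro _ ⟨i, hi, rfl⟩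
  exact (m.po i (hK hi)).1

include hSZ hD m in
theorem lt_top {i : ι} {K : Finset ι} (hK : K ⊆ I) (hi : i ∈ K) : nR hp p (ZZ F s x K) < SZ l l := by
  have h0 := (hSZ D l M hp p hD).1
  have := (m.inn ∅ (Finset.empty_subset _) (Or.inr (by simp)) i (hK hi) (by simp)).2
  rw [Finset.coe_empty, Set.image_empty] at this
  exact h0 ▸ nR_lt h0 (Set.empty_subset _) ⟨i, hi, rfl⟩ (m.po i (hK hi)).1 this

include hRK hSZ hD m in
theorem chain (ho : ∀ i ∈ I, orderOf (s i) ≠ 2) {i : ι} (hi : i ∈ I) (K : Finset ι) (hK : K ⊆ I) (hiK : i ∉ K)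
    (h5 : ∀ j ∈ K, 5 ≤ orderOf (s j)) :
    rk hp p (ZZ F s x (insert i K)) + ∑ j ∈ K, (n j).totient ≤ rk hp p {zz F x (s i)} := by
  induction K using Finset.induction_on with
  | empty => rw [Finset.sum_empty, add_zero, ZZ_insert, ZZ_empty, insert_empty_eq]
  | insert j K hj ih =>
    have a1 : j ∈ I := hK (Finset.mem_insert_self _ _)
    have a2 : K ⊆ I := (Finset.subset_insert _ _).trans hK
    have a3 : insert i K ⊆ I := Finset.insert_subset hi a2
    have a4 : j ∉ insert i K := by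
      rw [Finset.mem_insert, not_or]
      exact ⟨fun e => hiK (e ▸ Finset.mem_insert_self _ _), hj⟩
    have a5 := ih a2 (fun t => hiK (Finset.mem_insert_of_mem t)) fun k hk => h5 k (Finset.mem_insert_of_mem hk)
    obtain ⟨k, k1, k2⟩ := m.rz _ a3 j a1 a4 (ho j a1)
    have a6 := (hRK D l M hp p hD).2.1 (ZZ F s x (insert i K)) _ _ (n j) k (ZZ_sub m a3) (m.po j a1)
      (m.inn _ a3 (Or.inl fun t ht => ho t (a3 ht)) j a1 a4).2 k2 k1 (by
        have b1 := h5 j (Finset.mem_insert_self _ _)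
        have b2 : orderOf (s j) ≠ 6 := fun e => absurd (e ▸ (m.po j a1).2.1) (by norm_num)
        by_cases b3 : orderOf (s j) = 5
        · refine Or.inr (Or.inl ⟨b3, or_iff_not_imp_left.2 fun e => ?_⟩)
          have := lt_top hSZ hD m a3 (Finset.mem_insert_self _ _)
          obtain rfl := not_not.1 e
          exact this
        · exact Or.inl (by omega))
    rw [Finset.insert_comm, ZZ_insert j, Finset.sum_insert hj]
    omega

include hRK hSZ hD m in
theorem first {j : ι} (hj : j ∈ I) (h5 : 5 ≤ orderOf (s j)) : rk hp p {zz F x (s j)} ≤ rk1 l (orderOf (s j)) (n j) := by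
  have h2 : orderOf (s j) ≠ 2 := by omega
  obtain ⟨k, k1, k2⟩ := m.rz ∅ (Finset.empty_subset _) j hj (by simp) h2
  have k3 := (m.inn ∅ (Finset.empty_subset _) (Or.inr (by simp)) j hj (by simp)).2
  rw [Finset.coe_empty, Set.image_empty] at k2 k3
  obtain ⟨r1, r2, r3⟩ := hRK D l M hp p hD
  rw [rk1]
  split_ifs with c1 c2
  · exact r3 _ _ k (m.po j hj) c1.1 k2 (c1.2.trans k1) (c1.2.trans (m.hm j hj h2))
  · exact ((hSZ D l M hp p hD).2 _ (Set.singleton_subset_iff.2 (m.po j hj).1)).2.2.trans c2.1.le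
  · have b2 : orderOf (s j) ≠ 6 := fun e => absurd (e ▸ (m.po j hj).2.1) (by norm_num)
    have := r2 ∅ _ _ (n j) k (Set.empty_subset _) (m.po j hj) k3 k2 k1 (by
      by_cases b3 : orderOf (s j) = 5
      · exact Or.inr (Or.inl ⟨b3, Or.inl fun e => c2 ⟨e, b3⟩⟩)
      · exact Or.inl (by omega))
    rw [insert_empty_eq, r1] at this
    omega

include hRK hSZ hD m in
theorem rc (ho : ∀ i ∈ I, orderOf (s i) ≠ 2) {J : Finset ι} (hJ : J ⊆ I) {j : ι} (hj : j ∈ J) {r n' : ι → ℕ}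
    (hr : ∀ j ∈ J, orderOf (s j) = r j ∧ n j = n' j ∧ 5 ≤ r j) : Rc l J j r n' (rk hp p (ZZ F s x J)) := by
  have a1 := chain hRK hSZ hD m ho (hJ hj) (J.erase j) ((Finset.erase_subset _ _).trans hJ) (Finset.notMem_erase _ _)
    fun k hk => (hr k (Finset.mem_of_mem_erase hk)).1 ▸ (hr k (Finset.mem_of_mem_erase hk)).2.2
  have a2 := first hRK hSZ hD m (hJ hj) ((hr j hj).1 ▸ (hr j hj).2.2)
  rw [Finset.insert_erase hj, Finset.sum_congr rfl fun k hk => congrArg _ (hr k (Finset.mem_of_mem_erase hk)).2.1] at a1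
  rw [(hr j hj).1, (hr j hj).2.1] at a2
  exact a1.trans a2

include h1 hD in
theorem ww {a b : T} (ha : (a : G) ∈ ⨆ i ∈ I, S i) (hb : (b : G) ∈ ⨆ i ∈ I, S i) (ta : zz F x a ∈ TT D (KK p))
    (tb : zz F x b ∈ TT D (KK p)) (hc : (orderOf a).Coprime (orderOf b)) (pa : (orderOf a).Coprime p)
    (pb : (orderOf b).Coprime p) : WW F S I (nR hp p {zz F x a, zz F x b}) (orderOf a * orderOf b) := by
  obtain ⟨-, e2, -, e4⟩ := h1 D l M hp p hD
  refine ⟨a * b, mul_mem ha hb, (comm_zz ta tb).orderOf_mul_eq_mul_orderOf_of_coprime hc, Nat.Coprime.mul_left pa pb, le_of_eq ?_⟩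
  have := e2 _ _ ta tb (fin_zz a) (fin_zz b) (by rwa [ord_zz, ord_zz])
  rw [← zz_mul] at this
  rw [e4 x _ (show zz F x (a * b) ∈ _ from zz_mul (F := F) a b ▸ mul_mem ta tb), nR, nR, ← this]
  rfl

include h1 hD m in
theorem prd (hs : ∀ i ∈ I, (s i : G) ∈ S i) (K : Finset ι) (hK : K ⊆ I) (hi : Set.InjOn (fun j => orderOf (s j)) K) :
    ∃ b : T, (b : G) ∈ ⨆ i ∈ I, S i ∧ zz F x b ∈ TT D (KK p) ∧ orderOf b = ∏ j ∈ K, orderOf (s j) ∧
      Ps hp p {zz F x b} = Ps hp p (ZZ F s x K) := by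
  obtain ⟨-, e2, e3, -⟩ := h1 D l M hp p hD
  induction K using Finset.induction_on with
  | empty =>
    have e : zz F x (1 : T) = 1 := map_one (zh F x)
    refine ⟨1, one_mem _, e ▸ one_mem _, by simp, ?_⟩
    rw [ZZ_empty, ← e3 ∅ (Set.empty_subset _), Subgroup.closure_empty, Subgroup.coe_bot, e]
  | insert j K hj ih =>
    have a1 : j ∈ I := hK (Finset.mem_insert_self _ _)
    have a2 : K ⊆ I := (Finset.subset_insert _ _).trans hK
    obtain ⟨b, b1, b2, b3, b4⟩ := ih a2 (hi.mono (by simp))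
    have c : (orderOf (s j)).Coprime (orderOf b) := b3 ▸ Nat.Coprime.prod_right fun k hk =>
      (Nat.coprime_primes (m.po j a1).2.1 (m.po k (a2 hk)).2.1).2 fun e => hj (hi (by simp) (by simp [hk]) e ▸ hk)
    refine ⟨s j * b, mul_mem (Subgroup.mem_iSup_of_mem j (Subgroup.mem_iSup_of_mem a1 (hs j a1))) b1,
      zz_mul (F := F) (s j) b ▸ mul_mem (m.po j a1).1 b2,
      by rw [(comm_zz (m.po j a1).1 b2).orderOf_mul_eq_mul_orderOf_of_coprime c, Finset.prod_insert hj, b3], ?_⟩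
    rw [zz_mul, e2 _ _ (m.po j a1).1 b2 (fin_zz _) (fin_zz _) (by rwa [ord_zz, ord_zz]), ZZ_insert, Set.insert_eq,
      Set.insert_eq, ps_union, ps_union, b4]

include m in
theorem clo (hs : ∀ i ∈ I, (s i : G) ∈ S i) {J : Finset ι} (hJ : J ⊆ I) {b : T} (hb : b ∈ Subgroup.closure (s '' J)) :
    (b : G) ∈ ⨆ i ∈ I, S i ∧ zz F x b ∈ TT D (KK p) ∧ b ^ ∏ j ∈ J, orderOf (s j) = 1 := by
  induction hb using Subgroup.closure_induction with
  | mem _ h =>
    obtain ⟨j, hj, rfl⟩ := h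
    exact ⟨Subgroup.mem_iSup_of_mem j (Subgroup.mem_iSup_of_mem (hJ hj) (hs j (hJ hj))), (m.po j (hJ hj)).1,
      orderOf_dvd_iff_pow_eq_one.1 (Finset.dvd_prod_of_mem _ hj)⟩
  | one => exact ⟨one_mem _, zz_one (F := F) ▸ one_mem _, one_pow _⟩
  | mul a b _ _ ia ib =>
    exact ⟨mul_mem ia.1 ib.1, zz_mul (F := F) a b ▸ mul_mem ia.2.1 ib.2.1,
      by rw [(comm_zz ia.2.1 ib.2.1).mul_pow, ia.2.2, ib.2.2, mul_one]⟩
  | inv a _ ia =>
    exact ⟨inv_mem ia.1, zz_inv (F := F) a ▸ inv_mem ia.2.1, by rw [inv_pow, ia.2.2, inv_one]⟩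

include hSZ hA h1 hD m in
theorem av (hs : ∀ i ∈ I, (s i : G) ∈ S i) {J : Finset ι} (hJ : J ⊆ I) {r : ι → ℕ} (hr : ∀ j ∈ J, orderOf (s j) = r j)
    {a : T} (ha : (a : G) ∈ ⨆ i ∈ I, S i) (ta : zz F x a ∈ TT D (KK p)) (pa : (orderOf a).Coprime p)
    (ca : ∀ j ∈ J, (orderOf a).Coprime (r j)) {nx : ℕ} (hx : nR hp p {zz F x a} ≤ nx)
    (hlt : nR hp p (insert (zz F x a) (ZZ F s x J)) < nR hp p {zz F x a}) :
    Av (WW F S) I J r (orderOf a) (nR hp p (insert (zz F x a) (ZZ F s x J))) nx := by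
  have hz := (hSZ D l M hp p hD).2
  have e : ∏ j ∈ J, orderOf (s j) = ∏ j ∈ J, r j := Finset.prod_congr rfl hr
  have c1 : (orderOf a).Coprime (∏ j ∈ J, r j) := Nat.Coprime.prod_right ca
  have c2 : (∏ j ∈ J, r j).Coprime p := Nat.Coprime.prod_left fun j hj =>
    hr j hj ▸ (Nat.coprime_primes (m.po j (hJ hj)).2.1 Fact.out).2 (m.po j (hJ hj)).2.2.1
  refine ⟨hlt.trans_le hx, (hz _ (Set.insert_subset ta (ZZ_sub m hJ))).2.1, fun hi => ?_, fun r₀ h0 => ?_⟩
  · obtain ⟨b, b1, b2, b3, b4⟩ := prd h1 hD m hs J hJ fun i hi' j hj k =>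
      hi hi' hj ((hr i hi').symm.trans (Eq.trans k (hr j hj)))
    rw [e] at b3
    have := ww h1 hD ha b1 ta b2 (b3 ▸ c1) pa (b3 ▸ c2)
    rwa [b3, nR_ins b4] at this
  · have k1 : (Subgroup.closure (s '' J)).map (zh F x) = Subgroup.closure (ZZ F s x J) := by
      rw [MonoidHom.map_closure, Set.image_image]
      rfl
    have k2 : nR hp p (insert (zz F x a) ((Subgroup.closure (s '' J)).map (zh F x) : Subgroup _)) =
        nR hp p (insert (zz F x a) (ZZ F s x J)) := nR_ins (by rw [k1, (h1 D l M hp p hD).2.2.1 _ (ZZ_sub m hJ)]) _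
    obtain ⟨_, ⟨b, hb, rfl⟩, k3⟩ := hA D l M hp p hD (zz F x a) ((Subgroup.closure (s '' J)).map (zh F x)) r₀ ta
      (by rintro _ ⟨b, hb, rfl⟩; exact (clo m hs hJ hb).2.1)
      ((Subgroup.equivMapOfInjective _ _ zh_inj).toEquiv.finite_iff.1 inferInstance) (fun t ht hd => by
        rw [Subgroup.card_map_of_injective zh_inj] at hd
        have := Fact.mk ht
        obtain ⟨g, hg⟩ := exists_prime_orderOf_dvd_card' t hd
        have := orderOf_dvd_of_pow_eq_one (clo m hs hJ g.2).2.2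
        rw [Subgroup.orderOf_coe, hg] at this
        obtain ⟨j, hj, k⟩ := (ht.prime.dvd_finsetProd_iff _).1 this
        rw [(Nat.prime_dvd_prime_iff_eq ht (m.po j (hJ hj)).2.1).1 k, hr j hj]
        exact h0 j hj) (k2 ▸ hlt)
    obtain ⟨b1, b2, b3⟩ := clo m hs hJ hb
    have b4 := orderOf_dvd_of_pow_eq_one b3
    rw [e] at b4
    rw [k2] at k3
    exact ⟨_, _, ww h1 hD ha b1 ta b2 (c1.coprime_dvd_right b4) pa (c2.coprime_dvd_left b4), mul_dvd_mul_left _ b4,
      (hz _ (Set.insert_subset ta (Set.singleton_subset_iff.2 b2))).2.1, k3.trans_le (Nat.add_le_add_left hx _)⟩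

end

end Chn

open Chn

/-- **[MC]** -/
theorem boxMC_of (hFr : BoxFr) (hRK : BoxRK) (hSZ : BoxSZ) (hX : BoxX3) (hA : BoxAvg) (h1 : BoxH1) : BoxMC := by
  intro D l M hp p _ tw f G _ _ T H F ι _ _ S C hi hM
  have hle : ∀ i, S i ≤ T := fun i => (hM.le _ ⟨i, rfl⟩).trans inf_le_right
  have hD := C.typ
  constructor
  · intro J j₀ r n hj hE
    have : ∀ j, ∃ a : T, j ∈ J → orderOf a = r j ∧ Ea p (p ^ f) S j a (n j) := fun j => by
      by_cases k : j ∈ J
      · exact (El.ea S C.iso.1 (hle j) (hE j k).2).imp fun a ha _ => ha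
      · exact ⟨1, fun t => absurd t k⟩
    choose s hs using this
    have ho : ∀ j ∈ J, orderOf (s j) ≠ 2 := fun j k => by have := (hE j k).1; have := (hs j k).1; omega
    obtain ⟨x, m⟩ := hFr D l M hp p tw f G T H F ι S C hi hM J s n (fun j k => (hs j k).2) fun i k _ _ e => absurd e (ho i k)
    have e1 : zz F x (1 : T) = 1 := map_one (zh F x)
    have e2 : Ps hp p {zz F x (1 : T)} = Ps hp p (∅ : Set (YY D p)) := by
      rw [← (h1 D l M hp p hD).2.2.1 ∅ (Set.empty_subset _), Subgroup.closure_empty, Subgroup.coe_bot, e1]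
    have e3 : nR hp p {zz F x (1 : T)} = SZ l l := by rw [nR, e2, ← nR, (hSZ D l M hp p hD).1]
    have e4 : nR hp p (insert (zz F x (1 : T)) (ZZ F s x J)) = nR hp p (ZZ F s x J) := by
      rw [nR, Set.insert_eq, ps_union, e2, ← ps_union, Set.empty_union, nR]
    have := av hSZ hA h1 hD m (fun j k => (hs j k).2.1) subset_rfl (fun j k => (hs j k).1) (a := 1) (one_mem _)
      (e1 ▸ one_mem _) (by simp) (by simp) e3.le (by rw [e3, e4]; exact lt_top hSZ hD m subset_rfl hj)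
    rw [orderOf_one, e4] at this
    exact ⟨_, _, rc hRK hSZ hD m ho subset_rfl hj fun j k => ⟨(hs j k).1, rfl, (hE j k).1⟩,
      ((hSZ D l M hp p hD).2 _ (ZZ_sub m subset_rfl)).1, this⟩
  · intro J j₀ i r n b hj hE hiJ h3 hd hb
    have : ∀ j, ∃ a : T, (j ∈ J → orderOf a = r j ∧ Ea p (p ^ f) S j a (n j)) ∧
        (j = i → orderOf a = 3 ∧ Ea p (p ^ f) S j a 1) := fun j => by
      by_cases k : j ∈ J
      · exact (El.ea S C.iso.1 (hle j) (hE j k).2).imp fun a ha => ⟨fun _ => ha, fun e => absurd (e ▸ k) hiJ⟩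
      · have := Fact.mk Nat.prime_three
        obtain ⟨g, hg⟩ := exists_prime_orderOf_dvd_card' 3 hd
        have e : orderOf (Subgroup.inclusion (hle i) g) = 3 := by rw [orderOf_injective _ (Subgroup.inclusion_injective _), hg]
        refine ⟨Subgroup.inclusion (hle i) g, fun t => absurd t k, ?_⟩
        rintro rfl
        exact ⟨e, g.2, e ▸ Nat.prime_three, e ▸ h3.symm, 1, ⟨1, one_mem _, by simp⟩, one_dvd _⟩
    choose s hs hs' using this
    obtain ⟨o3, a3⟩ := hs' i rfl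
    have ho : ∀ j ∈ insert i J, orderOf (s j) ≠ 2 := fun j k => by
      rcases Finset.mem_insert.1 k with rfl | k
      · omega
      · have := (hE j k).1; have := (hs j k).1; omega
    have hEa : ∀ j ∈ insert i J, Ea p (p ^ f) S j (s j) (if j ∈ J then n j else 1) := fun j k => by
      rcases Finset.mem_insert.1 k with rfl | k
      · rwa [if_neg hiJ]
      · rw [if_pos k]
        exact (hs j k).2
    obtain ⟨x, m⟩ := hFr D l M hp p tw f G T H F ι S C hi hM _ s _ hEa fun i k _ _ e => absurd e (ho i k)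
    have hI := Finset.mem_insert_self i J
    have hJ := Finset.subset_insert i J
    have po := m.po i hI
    rw [o3] at po
    obtain ⟨y, y1, y2, y3⟩ := hX D l M hp p hD _ b po fun e t => hb e ⟨s i, a3.1, a3.2.1, ho i hI, a3.2.2.1, by
      rwa [(h1 D l M hp p hD).2.2.2 x _ po.1, Nat.add_sub_cancel_left]⟩
    have c1 := chain hRK hSZ hD m ho hI J hJ hiJ fun j k => (hs j k).1 ▸ (hE j k).1
    rw [Finset.sum_congr rfl fun j k => congrArg _ (if_pos k)] at c1
    have nz := (m.inn {i} (Finset.singleton_subset_iff.2 hI) (Or.inr (by simp)) j₀ (hJ hj)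
      (by rw [Finset.mem_singleton]; rintro rfl; exact hiJ hj)).2
    rw [Finset.coe_singleton, Set.image_singleton] at nz
    have c2 := av hSZ hA h1 hD m (fun j k => (hEa j k).1) hJ (fun j k => (hs j k).1)
      (Subgroup.mem_iSup_of_mem i (Subgroup.mem_iSup_of_mem hI a3.1)) po.1
      ((Nat.coprime_primes a3.2.1 Fact.out).2 a3.2.2.1)
      (fun j k => (Nat.coprime_primes a3.2.1 (hE j k).2.1).2 (by have := (hE j k).1; omega)) y2
      (nR_lt (hSZ D l M hp p hD).1 (Set.singleton_subset_iff.2 (Set.mem_insert _ _)) (Set.mem_insert_of_mem _ ⟨j₀, hj, rfl⟩)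
        (m.po j₀ (hJ hj)).1 nz)
    rw [o3, ← ZZ_insert] at c2
    refine ⟨rk hp p (ZZ F s x J), rk hp p (ZZ F s x (insert i J)), _, y, y1,
      rc hRK hSZ hD m ho hJ hj fun j k => ⟨(hs j k).1, if_pos k, (hE j k).1⟩, fun t => ?_, c1.trans y3,
      ((hSZ D l M hp p hD).2 _ (ZZ_sub m subset_rfl)).1, c2⟩
    obtain ⟨k, -, k2⟩ := m.rz J hJ i hI hiJ (ho i hI)
    have := (hRK D l M hp p hD).2.1 (ZZ F s x J) _ 3 1 k (ZZ_sub m hJ) po
      (m.inn J hJ (Or.inl fun j k => ho j (hJ k)) i hI hiJ).2 k2 (one_dvd _) (Or.inr (Or.inr ⟨rfl, t⟩))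
    rw [ZZ_insert]
    exact this

end Cfsg.Agent.N2.Ex.Mu
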