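import Cfsg.Agent.N2.Ex.Mu.Defs2
import Cfsg.Agent.S0144

/-!
# N2 (S3519), `F₄, E₆, ²E₆, E₇, E₈`, several components: the row `n = 2` (helper38)
-/

set_option autoImplicit false
set_option linter.unusedSectionVars false

namespace Cfsg.Agent.N2.Ex.Mu

open CoxeterSystem Cfsg Cfsg.Lie Cfsg.Lie.ChevalleyDatum
open Cfsg.Agent.ChevalleyStructure Cfsg.Agent.ChevalleyStructure.CoxeterGeom Cfsg.Agent.Tits.Roots Cfsg.Agent.Nodes Cfsg.Agent.Nodes.BNOf Cfsg.Agent.Nodes.RGDChev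
open Cfsg.Agent.KFacts.RgdChevCoord Cfsg.Agent.BpExc.Fr Cfsg.Agent.BpExc.LangFr
open Cfsg.Agent.H469.Exc Cfsg.Agent.H316.U6 Cfsg.Agent.H129.TorusChar Cfsg.Agent.DS.Ex Cfsg.Agent.DS.Nt
open Cfsg.Agent.SB.Exc (XF)
open Subgroup (centralizer)

namespace MNa

/-- an odd prime which is not the characteristic -/
theorem exists_odd {N : Type} [Group N] [Finite N] (hs : IsSimpleGroup N) (hn : ¬ IsMulCommutative N) {p : ℕ} (hp : p.Prime) :
    ∃ r : ℕ, r.Prime ∧ r ≠ 2 ∧ r ≠ p ∧ r ∣ Nat.card N := by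
  by_contra h
  have h0 : Nat.card N ≠ 0 := Nat.card_pos.ne'
  obtain ⟨i, m, hm, e⟩ := Nat.exists_eq_two_pow_mul_odd h0
  have hm0 : m ≠ 0 := by rintro rfl; simp at hm
  have h3 : m = p ^ m.primeFactorsList.length := by
    refine Nat.eq_prime_pow_of_unique_prime_dvd hm0 fun {r} hr hd => ?_
    by_contra k
    refine h ⟨r, hr, ?_, k, e ▸ hd.mul_left _⟩
    rintro rfl
    exact absurd hm (Nat.not_odd_iff_even.2 (even_iff_two_dvd.2 hd))
  have := S0144.result (G := N) 2 p i _ Nat.prime_two hp (e.trans (by rw [← h3]))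
  exact hn ⟨⟨IsSimpleGroup.comm_iff_isSolvable.2 this⟩⟩

theorem sp_cj {Y : Type} [Group Y] {J : Subgroup Y} (h : Sp J) (d : Y) : Sp (TH.cj d J) := by
  obtain ⟨h1, h2, h3, h4⟩ := h
  have e : J ≃* TH.cj d J := J.equivMapOfInjective _ (MulAut.conj d).injective
  refine ⟨Finite.of_equiv _ e.toEquiv, e.symm.isSimpleGroup, fun k => h3 ⟨⟨fun a b => e.injective ?_⟩⟩, by rwa [TH.card_cj]⟩
  rw [map_mul, map_mul]
  exact k.is_comm.comm _ _

/-- the boxes -/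
structure Bx : Prop where
  fr : BoxFr
  t2 : BoxT2
  ee : BoxEE
  en : BoxEN
  ct : BoxCT'
  nt : BoxNT
  h1 : BoxH1
  pf : BoxPerf
  tor : BoxTor

variable {D : ChevalleyDatum} {l : ℕ} {M : CoxeterMatrix (Fin l)} {hp : IsType D l M} {p : ℕ} [Fact p.Prime] {tw : Bool} {f : ℕ}
  {G : Type} [Group G] [Finite G] {T H : Subgroup G} {F : XF hp p (p ^ f) T} {ι : Type} [Fintype ι] [DecidableEq ι]
  {S : ι → Subgroup G}

theorem zz_mul (x : YY D p) (a b : T) : zz F x (a * b) = zz F x a * zz F x b := by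
  rw [zz, zz, zz, map_mul, conj_mul]

theorem zz_cj (d x : YY D p) (a : T) : zz F (d * x) a = d * zz F x a * d⁻¹ := by
  rw [zz, zz]; group

theorem ord_zz (x : YY D p) (a : T) : orderOf (zz F x a) = orderOf a :=
  (orderOf_injective (MulAut.conj x).toMonoidHom (MulAut.conj x).injective _).trans (orderOf_injective _ F.L.inj a)

theorem fin_zz (x : YY D p) (a : T) : IsOfFinOrder (zz F x a) := by
  rw [← orderOf_pos_iff, ord_zz]
  exact orderOf_pos a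

theorem zz_mem (x : YY D p) {i : ι} {a : T} (ha : (a : G) ∈ S i) : zz F x a ∈ JJ F S x i := TH.conj_mem_cj _ (ι_mem_im.2 ha)

theorem of_mem {x y : YY D p} {i : ι} (hy : y ∈ JJ F S x i) : ∃ a : T, (a : G) ∈ S i ∧ zz F x a = y := by
  obtain ⟨_, ⟨a, ha, rfl⟩, rfl⟩ := hy
  exact ⟨a, ha, rfl⟩

variable (p S) in
/-- a semisimple element of prime order of the component `i` -/
def Pe (i : ι) (a : T) : Prop := (a : G) ∈ S i ∧ (orderOf a).Prime ∧ orderOf a ≠ p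

theorem Pe.ea {i : ι} {a : T} (h : Pe p S i a) : Ea p (p ^ f) S i a 1 :=
  ⟨h.1, h.2.1, h.2.2, 1, ⟨1, one_mem _, by simp⟩, one_dvd _⟩

theorem Pe.cop {i : ι} {a : T} (h : Pe p S i a) : (orderOf a).Coprime p := (Nat.coprime_primes h.2.1 Fact.out).2 h.2.2

theorem Pe.po {i : ι} {a : T} (h : Pe p S i a) {x : YY D p} (hx : zz F x a ∈ TT D (KK p)) : Po D (zz F x a) (orderOf a) :=
  ⟨hx, h.2.1, h.2.2, ord_zz x a⟩

theorem Pe.ne {i : ι} {a : T} (h : Pe p S i a) (x : YY D p) : zz F x a ≠ 1 := fun k => by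
  have := ord_zz (F := F) x a
  rw [k, orderOf_one] at this
  exact h.2.1.one_lt.ne this

variable (tw F H S) in
/-- the standing hypotheses -/
structure Hy : Prop where
  b : Bx
  c : NC tw f F H
  inj : Function.Injective S
  mul : Mul T H (Set.range S)

namespace Hy

variable (h : Hy tw H F S)
include h

theorem le (i : ι) : S i ≤ T := (h.mul.le _ ⟨i, rfl⟩).trans inf_le_right

theorem comm {i j : ι} (hij : i ≠ j) {a b : T} (ha : (a : G) ∈ S i) (hb : (b : G) ∈ S j) : Commute a b :=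
  Subtype.ext (h.mul.comm _ ⟨i, rfl⟩ _ ⟨j, rfl⟩ (h.inj.ne hij) _ ha _ hb)

theorem frame (I : Finset ι) (s : ι → T) (hs : ∀ i ∈ I, Pe p S i (s i))
    (h2 : ∀ i ∈ I, ∀ j ∈ I, orderOf (s i) = 2 → orderOf (s j) = 2 → i = j) : ∃ x, Fm F S I s (fun _ => 1) x :=
  h.b.fr D l M hp p tw f G T H F ι S h.c h.inj h.mul I s _ (fun i hi => (hs i hi).ea) h2

theorem sp (x : YY D p) (i : ι) : Sp (JJ F S x i) := by
  obtain ⟨y, hy⟩ := h.frame ∅ (fun _ => 1) (fun _ k => absurd k (Finset.notMem_empty _)) fun _ k => absurd k (Finset.notMem_empty _)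
  have := sp_cj (hy.sp i) (x * y⁻¹)
  rwa [JJ, ← TH.cj_mul, inv_mul_cancel_right] at this

theorem pe {r : ℕ} (hr : r.Prime) (hp : r ≠ p) {i : ι} (hd : r ∣ Nat.card (S i)) : ∃ a : T, Pe p S i a ∧ orderOf a = r := by
  have := Fact.mk hr
  obtain ⟨g, hg⟩ := exists_prime_orderOf_dvd_card' r hd
  have e : orderOf (Subgroup.inclusion (h.le i) g) = r := by
    rw [orderOf_injective _ (Subgroup.inclusion_injective (h.le i)), hg]
  exact ⟨_, ⟨g.2, e ▸ hr, e ▸ hp⟩, e⟩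

theorem even (i : ι) : 2 ∣ Nat.card (S i) := by
  have := (h.sp 1 i).2.2.2
  rwa [JJ, TH.card_cj, card_im (h.le i), even_iff_two_dvd] at this

theorem base {i : ι} {a : T} (ha : Pe p S i a) : ∃ x, zz F x a ∈ TT D (KK p) := by
  obtain ⟨x, hx⟩ := h.frame {i} (fun _ => a) (fun j k => Finset.mem_singleton.1 k ▸ ha) fun j k j' k' _ _ =>
    (Finset.mem_singleton.1 k).trans (Finset.mem_singleton.1 k').symm
  exact ⟨x, (hx.po i (Finset.mem_singleton_self i)).1⟩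

theorem cen {i j : ι} (hij : i ≠ j) {a : T} (ha : (a : G) ∈ S i) (x : YY D p) :
    JJ F S x j ≤ centralizer ({zz F x a} : Set (YY D p)) := fun y hy => by
  obtain ⟨b, hb, rfl⟩ := of_mem hy
  rw [Subgroup.mem_centralizer_singleton_iff, ← zz_mul, ← zz_mul, (h.comm hij ha hb).eq]

theorem mz {i j : ι} (hij : i ≠ j) {a : T} (ha : (a : G) ∈ S i) {x : YY D p} (hx : zz F x a ∈ TT D (KK p)) :
    JJ F S x j ≤ Mz hp p {zz F x a} :=
  h.b.pf D l M hp p h.c.typ _ _ (Set.finite_singleton _) (Set.singleton_subset_iff.2 hx) (fun _ k => k ▸ fin_zz x a) (h.sp x j)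
    (h.cen hij ha x) (Or.inr ⟨_, rfl⟩)

theorem inn {i j : ι} (hij : i ≠ j) {a b : T} (ha : Pe p S i a) (hb : Pe p S j b) {x : YY D p} (hx : zz F x a ∈ TT D (KK p))
    (hy : zz F x b ∈ TT D (KK p)) : In hp p {zz F x a} (zz F x b) :=
  (h.b.h1 D l M hp p h.c.typ).1 _ _ _ (Set.finite_singleton _) (Set.singleton_subset_iff.2 hx) (h.sp x j) (h.mz hij ha.1 hx)
    (zz_mem x hb.1) hy (hb.ne x)

/-- the partner is moved into the torus, the base element is fixed -/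
theorem step {i j : ι} (hij : i ≠ j) {a b : T} (ha : Pe p S i a) (hb : Pe p S j b) {x : YY D p} (hx : zz F x a ∈ TT D (KK p)) :
    ∃ y, zz F y a = zz F x a ∧ zz F y b ∈ TT D (KK p) ∧ (l ≠ 4 → Th hp p (zz F x a) ⊆ Ps hp p {zz F y b} →
      JJ F S x j ≤ centralizer (LL hp p (zz F x a) : Set (YY D p))) := by
  have hZ := Set.singleton_subset_iff.2 hx
  obtain ⟨d, h1, h2⟩ := h.b.tor D l M hp p h.c.typ _ (zz F x b) (Set.finite_singleton _) hZ (fun _ k => k ▸ fin_zz x a)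
    (Mz_le_DZ (h.mz hij ha.1 hx (zz_mem x hb.1))) (by rw [ord_zz]; exact hb.cop)
  have h3 := Mz_comm hZ h1 (Set.mem_singleton _)
  have h4 : zz F (d * x) a = zz F x a := by rw [zz_cj, h3, mul_inv_cancel_right]
  rw [← zz_cj] at h2
  refine ⟨d * x, h4, h2, fun hl k y hy => Subgroup.mem_centralizer_iff.2 fun u hu => ?_⟩
  obtain ⟨c1, -, c3⟩ := h.b.ct D l M hp p h.c.typ hl _ hx (fin_zz x a)
  obtain ⟨c, hc, rfl⟩ := of_mem hy
  have h5 := Subgroup.mem_centralizer_iff.1 (c3 _ _ (h.sp (d * x) j) (h4 ▸ h.cen hij ha.1 (d * x)) (zz_mem _ hb.1) h2 (hb.ne _) k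
    (zz_mem (d * x) hc)) _ (c1 d (Subgroup.mem_centralizer_singleton_iff.2 h3) u hu)
  rw [zz_cj, conj_mul, conj_mul] at h5
  exact mul_left_cancel (mul_right_cancel h5)

theorem pair {i j : ι} (hij : i ≠ j) {a b : T} (ha : Pe p S i a) (hb : Pe p S j b) {x : YY D p} (hx : zz F x a ∈ TT D (KK p))
    (hy : zz F x b ∈ TT D (KK p)) (h1 : orderOf a ≠ 2) (h2 : orderOf b = 2 ∨ orderOf b = 3 ∧ 5 ≤ orderOf a) :
    Pair hp p (zz F x a) (zz F x b) (orderOf a) (orderOf b) 1 :=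
  ⟨ha.po hx, hb.po hy, h1, h2, h.inn hij ha hb hx hy, h.inn hij.symm hb ha hy hx,
    ⟨1, one_dvd _, AddEquiv.refl _, fun _ => Iff.rfl, fun _ => Iff.rfl, fun _ => (pow_one _).symm⟩, one_dvd _⟩

theorem dd_eq {a : T} {x : YY D p} (hx : zz F x a ∈ TT D (KK p)) : dd p (F.L.ι a) = l + nR hp p {zz F x a} :=
  (h.b.h1 D l M hp p h.c.typ).2.2.2 x _ hx

theorem ee {i : ι} {a : T} (ha : Pe p S i a) (h2 : orderOf a ≠ 2) {x : YY D p} (hx : zz F x a ∈ TT D (KK p))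
    (he : EtN l (nR hp p {zz F x a})) : EE F S i :=
  ⟨a, ha.1, ha.2.1, h2, ha.2.2, by rwa [h.dd_eq hx, Nat.add_sub_cancel_left]⟩

theorem ww {i j : ι} (hij : i ≠ j) {a b : T} (ha : Pe p S i a) (hb : Pe p S j b) {x : YY D p} (hx : zz F x a ∈ TT D (KK p))
    (hy : zz F x b ∈ TT D (KK p)) (hn : orderOf a ≠ orderOf b) {k : ℕ} (hk : nR hp p {zz F x a, zz F x b} ≤ k) :
    ∃ o, WW F S {i, j} k o := by
  refine ⟨_, a * b, mul_mem (Subgroup.mem_iSup_of_mem i (Subgroup.mem_iSup_of_mem (Finset.mem_insert_self _ _) ha.1))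
    (Subgroup.mem_iSup_of_mem j (Subgroup.mem_iSup_of_mem (Finset.mem_insert_of_mem (Finset.mem_singleton_self _)) hb.1)), rfl,
    (Nat.Coprime.mul_left ha.cop hb.cop).coprime_dvd_left (h.comm hij ha.1 hb.1).orderOf_mul_dvd_mul_orderOf, ?_⟩
  rw [h.dd_eq (x := x) (by rw [zz_mul]; exact mul_mem hx hy), zz_mul, nR, (h.b.h1 D l M hp p h.c.typ).2.1 _ _ hx hy (fin_zz x a)
    (fin_zz x b) (by rw [ord_zz, ord_zz]; exact (Nat.coprime_primes ha.2.1 hb.2.1).2 hn)]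
  exact Nat.add_le_add_left hk l

/-- all partners are near -/
theorem near (h4 : l ≠ 4) (hA : ∀ i, Nat.card (MulAut (S i)) < (p ^ f) ^ nt l) {i : ι} {a : T} (ha : Pe p S i a) {x : YY D p}
    (hx : zz F x a ∈ TT D (KK p)) (hP : Pt hp p (zz F x a)) (s : ι → T) (hs : ∀ j, Pe p S j (s j))
    (hn : ∀ j, j ≠ i → ∀ y, zz F y a ∈ TT D (KK p) → zz F y (s j) ∈ TT D (KK p) → Pt hp p (zz F y a) →
      Th hp p (zz F y a) ⊆ Ps hp p {zz F y (s j)}) : False := by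
  have h1 : nR hp p {zz F x a} < 2 * (Th hp p (zz F x a)).ncard ∧ nt l * 2 ≤ (Th hp p (zz F x a)).ncard := by
    rcases hP with ⟨rfl, k1, k2⟩ | ⟨rfl, ⟨k1, k2⟩ | ⟨k1, k2⟩⟩ | ⟨rfl, k1 | k1, k2⟩ <;> rw [k1, k2] <;> decide
  have h2 := h.b.nt D l M hp p tw f G T H F ι S h.c h.inj h.mul i a x h4 ha.1 ha.cop hx h1.1 fun j hj => by
    obtain ⟨y, k1, k2, k3⟩ := h.step hj.symm ha (hs j) hx
    exact k3 h4 (k1 ▸ hn j hj y (k1 ▸ hx) k2 (k1 ▸ hP))
  have h3 := Nat.pow_lt_pow_left (hA i) two_ne_zero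
  rw [← pow_mul] at h3
  exact absurd ((Nat.pow_le_pow_right (pow_pos (Fact.out : p.Prime).pos f) h1.2).trans h2) (not_le.2 h3)

theorem uniq (i j : ι) (hi : EE F S i) (hj : EE F S j) : i = j := by
  by_contra hij
  obtain ⟨a, a1, a2, a3, a4, a5⟩ := hi
  obtain ⟨b, b1, b2, b3, b4, b5⟩ := hj
  have ha : Pe p S i a := ⟨a1, a2, a4⟩
  have hb : Pe p S j b := ⟨b1, b2, b4⟩
  obtain ⟨x, hx⟩ := h.base ha
  obtain ⟨y, k1, k2, -⟩ := h.step hij ha hb hx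
  rw [← k1] at hx
  rw [h.dd_eq hx, Nat.add_sub_cancel_left] at a5
  rw [h.dd_eq k2, Nat.add_sub_cancel_left] at b5
  exact h.b.ee D l M hp p h.c.typ _ _ _ _ (ha.po hx) (hb.po k2) a3 b3 (h.inn hij ha hb hx k2) a5 b5

theorem nontriv : Nontrivial ι := by
  obtain ⟨_, ⟨i, rfl⟩, _, ⟨j, rfl⟩, k⟩ := h.mul.two
  exact ⟨i, j, fun e => k (e ▸ rfl)⟩

theorem exc : ∃ c i, i ≠ c ∧ ∀ k, k ≠ c → ¬ EE F S k := by
  have := h.nontriv
  by_cases k : ∃ c, EE F S c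
  · obtain ⟨c, hc⟩ := k
    obtain ⟨i, hi⟩ := exists_ne c
    exact ⟨c, i, hi, fun j hj e => hj (h.uniq j c e hc)⟩
  · obtain ⟨i, c, hi⟩ := exists_pair_ne ι
    exact ⟨c, i, hi, fun j _ e => k ⟨j, e⟩⟩

theorem n2 (h4 : l ≠ 4) (h2 : p ≠ 2) (hA : ∀ i, Nat.card (MulAut (S i)) < (p ^ f) ^ nt l) :
    ∃ i j o, i ≠ j ∧ WW F S {i, j} (gN l 2) o := by
  by_contra hW
  obtain ⟨c, i, hi, hc⟩ := h.exc
  obtain ⟨r, r1, r2, r3, r4⟩ := exists_odd (h.mul.simple _ ⟨i, rfl⟩) (h.mul.nonab _ ⟨i, rfl⟩) (Fact.out : p.Prime)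
  obtain ⟨a, ha, rfl⟩ := h.pe r1 r3 r4
  choose t ht ot using fun j => h.pe Nat.prime_two h2.symm (h.even j)
  have k : ∀ j, j ≠ i → ∀ y, zz F y a ∈ TT D (KK p) → zz F y (t j) ∈ TT D (KK p) → Nr hp p (zz F y a) (zz F y (t j)) :=
    fun j hj y k1 k2 => by
      rcases (h.b.t2 D l M hp p h.c.typ _ _ _ _ (h.pair hj.symm ha (ht j) k1 k2 r2 (Or.inl (ot j))) h4).1 with k | k | k | k
      · obtain ⟨o, ho⟩ := h.ww hj.symm ha (ht j) k1 k2 (ot j ▸ r2) k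
        exact absurd ⟨i, j, o, hj.symm, ot j ▸ ho⟩ hW
      · exact absurd (h.ee ha r2 k1 k) (hc i hi)
      · exact k
      · exact absurd ((ot j).symm.trans k.1) (by decide)
  obtain ⟨x, hx⟩ := h.base ha
  obtain ⟨y, k1, k2, -⟩ := h.step hi ha (ht c) hx
  rw [← k1] at hx
  exact h.near h4 hA ha hx (k c hi.symm y hx k2).1 t ht fun j hj z k3 k4 _ => (k j hj z k3 k4).2.2

/-- all pairs are near -/
theorem both (h4 : l ≠ 4) (hA : ∀ i, Nat.card (MulAut (S i)) < (p ^ f) ^ nt l) (s t : ι → T) (hs : ∀ j, Pe p S j (s j))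
    (ht : ∀ j, Pe p S j (t j)) {c i : ι} (hi : i ≠ c)
    (k : ∀ i j, i ≠ j → i ≠ c → ∀ y, zz F y (s i) ∈ TT D (KK p) → zz F y (t j) ∈ TT D (KK p) →
      Nr hp p (zz F y (s i)) (zz F y (t j)) ∨ Nr hp p (zz F y (t j)) (zz F y (s i))) : False := by
  obtain ⟨x, hx⟩ := h.base (hs i)
  obtain ⟨y, k1, k2, -⟩ := h.step hi (hs i) (ht c) hx
  rw [← k1] at hx
  rcases k i c hi hi y hx k2 with k3 | k3
  · exact h.near h4 hA (hs i) hx k3.1 t ht fun j hj z k4 k5 k6 =>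
      ((k i j hj.symm hi z k4 k5).resolve_right fun e => e.2.1 k6).2.2
  · exact h.near h4 hA (ht c) k2 k3.1 s hs fun j hj z k4 k5 k6 =>
      ((k j c hj hj z k5 k4).resolve_left fun e => e.2.1 k6).2.2

theorem n3 (h4 : l ≠ 4) (h3 : p ≠ 3) (hA : ∀ i, Nat.card (MulAut (S i)) < (p ^ f) ^ nt l)
    (hS : ∀ i, 3 ∣ Nat.card (S i) ∧ ∃ r, 5 ≤ r ∧ El (p ^ f) (S i) r 2) :
    ∃ i j o, i ≠ j ∧ WW F S {i, j} (if l = 6 ∧ 3 ≤ Fintype.card ι then 12 else gN l 3) o := by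
  by_contra hW
  have hf : 0 < f := Nat.pow_right_injective (Fact.out : p.Prime).two_le F.m.hq ▸ F.m.he
  have h0 : ∀ i, ∃ a : T, Pe p S i a ∧ 5 ≤ orderOf a := fun i => by
    obtain ⟨r, k1, k2⟩ := (hS i).2
    obtain ⟨a, rfl, k3⟩ := k2.ea S hf (h.le i)
    exact ⟨a, ⟨k3.1, k3.2.1, k3.2.2.1⟩, k1⟩
  choose s hs os using h0
  choose t ht ot using fun j => h.pe Nat.prime_three h3.symm (hS j).1
  have s2 : ∀ i, orderOf (s i) ≠ 2 := fun i => by have := os i; omega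
  have t2 : ∀ i, orderOf (t i) ≠ 2 := fun i => by have := ot i; omega
  have hT := fun i j (hij : i ≠ j) y k1 k2 => h.b.t2 D l M hp p h.c.typ _ _ _ _
    (h.pair (x := y) hij (hs i) (ht j) k1 k2 (s2 i) (Or.inr ⟨ot j, os i⟩)) h4
  have hN : ∀ i j, i ≠ j → ∀ y, zz F y (s i) ∈ TT D (KK p) → zz F y (t j) ∈ TT D (KK p) →
      ¬ nR hp p {zz F y (s i), zz F y (t j)} ≤ if l = 6 ∧ 3 ≤ Fintype.card ι then 12 else gN l 3 := fun i j hij y k1 k2 k => by
    obtain ⟨o, ho⟩ := h.ww hij (hs i) (ht j) k1 k2 (by have := os i; have := ot j; omega) k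
    exact hW ⟨i, j, o, hij, ho⟩
  obtain ⟨c, i, hi, hc⟩ := h.exc
  by_cases h6 : l = 6 ∧ 3 ≤ Fintype.card ι
  swap
  · refine h.both h4 hA s t hs ht hi fun i j hij hi y k1 k2 => ?_
    rcases (hT i j hij y k1 k2).1 with k | k | k | k
    · exact absurd (by rwa [if_neg h6, ← ot j]) (hN i j hij y k1 k2)
    · exact absurd (h.ee (hs i) (s2 i) k1 k) (hc i hi)
    · exact Or.inl k
    · exact Or.inr k.2
  have hB : ∀ i j, i ≠ j → ¬ EE F S i → ¬ EE F S j → ∀ y, zz F y (s i) ∈ TT D (KK p) → zz F y (t j) ∈ TT D (KK p) →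
      Nr hp p (zz F y (s i)) (zz F y (t j)) ∨ Nr hp p (zz F y (t j)) (zz F y (s i)) := fun i j hij hi hj y k1 k2 => by
    rcases (hT i j hij y k1 k2).2 h6.1 (ot j) with k | k | k | k
    · exact absurd (by rwa [if_pos h6]) (hN i j hij y k1 k2)
    · exact absurd (h.ee (hs i) (s2 i) k1 k) hi
    · exact absurd (h.ee (ht j) (t2 j) k2 k) hj
    · exact k
  by_cases h7 : EE F S c
  swap
  · have h8 : ∀ j, ¬ EE F S j := fun j => by
      by_cases e : j = c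
      · exact e ▸ h7
      · exact hc j e
    exact h.both h4 hA s t hs ht hi fun i j hij _ => hB i j hij (h8 i) (h8 j)
  obtain ⟨j, hj⟩ : ∃ j, j ∉ ({i, c} : Finset ι) := by
    by_contra k
    have k1 : (Finset.univ : Finset ι) ⊆ {i, c} := fun j _ => by_contra fun e => k ⟨j, e⟩
    have := (Finset.card_le_card k1).trans Finset.card_le_two
    rw [Finset.card_univ] at this
    omega
  rw [Finset.mem_insert, Finset.mem_singleton, not_or] at hj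
  obtain ⟨a, a1, a2, a3, a4, a5⟩ := h7
  have ha : Pe p S c a := ⟨a1, a2, a4⟩
  let u : ι → T := fun k => if k = c then a else if k = i then s k else t k
  have ui : u i = s i := by simp only [u, if_neg hi, if_pos]
  have uj : u j = t j := by simp only [u, if_neg hj.1, if_neg hj.2]
  have uc : u c = a := if_pos rfl
  have u2 : ∀ k, Pe p S k (u k) ∧ orderOf (u k) ≠ 2 := fun k => by
    simp only [u]
    split_ifs with e1 e2
    · exact ⟨e1 ▸ ha, a3⟩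
    · exact ⟨hs k, s2 k⟩
    · exact ⟨ht k, t2 k⟩
  obtain ⟨x, hx⟩ := h.frame Finset.univ u (fun k _ => (u2 k).1) fun k _ _ _ e => absurd e (u2 k).2
  have k1 := (hx.po i (Finset.mem_univ _)).1
  have k2 := (hx.po j (Finset.mem_univ _)).1
  have k3 := (hx.po c (Finset.mem_univ _)).1
  have k4 := (hx.inn {i, j} (Finset.subset_univ _) (Or.inl fun k _ => (u2 k).2) c (Finset.mem_univ _) (by
    rw [Finset.mem_insert, Finset.mem_singleton, not_or]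
    exact ⟨hi.symm, Ne.symm hj.2⟩)).1
  rw [Finset.coe_pair, Set.image_pair, ui, uj, uc] at k4
  rw [ui] at k1
  rw [uj] at k2
  rw [uc] at k3
  rw [h.dd_eq k3, Nat.add_sub_cancel_left] at a5
  rcases hB i j (Ne.symm hj.1) (hc i hi) (hc j hj.2) x k1 k2 with k | k
  · exact h.b.en D l M hp p h.c.typ _ _ _ _ k1 k2 (ha.po k3) a3 h6.1 k (h.inn (Ne.symm hj.1) (hs i) (ht j) k1 k2).2 k4 a5
  · exact h.b.en D l M hp p h.c.typ _ _ _ _ k2 k1 (ha.po k3) a3 h6.1 k (h.inn hj.1 (ht j) (hs i) k2 k1).2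
      (Set.pair_comm _ _ ▸ k4) a5

end Hy

end MNa

/-- **[MN]** -/
theorem boxMN_of (fr : BoxFr) (t2 : BoxT2) (ee : BoxEE) (en : BoxEN) (ct : BoxCT') (nt : BoxNT) (h1 : BoxH1) (pf : BoxPerf)
    (tor : BoxTor) : BoxMN := by
  intro D l M hp p _ tw f G _ _ T H F ι _ _ S C hi hM
  have h : MNa.Hy tw H F S := ⟨⟨fr, t2, ee, en, ct, nt, h1, pf, tor⟩, C, hi, hM⟩
  exact ⟨h.uniq, h.n2, h.n3⟩

end Cfsg.Agent.N2.Ex.Mu
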