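import Cfsg.Agent.N2.Ex.Mu.Defs
import Cfsg.Agent.N2.Ex.Mu.Gp

/-!
# N2 (S3519), exceptional groups, several components: elements of order six (helper62)

`boxMS_of : BoxFr → BoxT33 → BoxF9 → BoxH1 → BoxPerf → BoxTor → BoxMS`.
-/

set_option autoImplicit false
set_option linter.unusedSectionVars false
set_option maxHeartbeats 400000

namespace Cfsg.Agent.N2.Ex.Mu

open CoxeterSystem Cfsg Cfsg.Lie Cfsg.Lie.ChevalleyDatum
open Cfsg.Agent.ChevalleyStructure Cfsg.Agent.ChevalleyStructure.CoxeterGeom Cfsg.Agent.Tits.Roots Cfsg.Agent.Nodes Cfsg.Agent.Nodes.BNOf Cfsg.Agent.Nodes.RGDChev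
open Cfsg.Agent.KFacts.RgdChevCoord Cfsg.Agent.BpExc.Fr Cfsg.Agent.BpExc.LangFr
open Cfsg.Agent.H469.Exc Cfsg.Agent.H316.U6 Cfsg.Agent.H129.TorusChar Cfsg.Agent.DS.Ex Cfsg.Agent.DS.Nt
open Cfsg.Agent.SB.Exc (XF)
open Subgroup (centralizer)

namespace Ms

/-- the four subgroups of order three of a group of order nine -/
theorem ord3 {Y : Type} [Group Y] {a b : Y} (ha : orderOf a = 3) (hb : orderOf b = 3) (hc : a * b = b * a) (h1 : b ≠ a)
    (h2 : b ≠ a⁻¹) {e : Y} (he : e ∈ ({a, b, a * b, a * b⁻¹} : Set Y)) : orderOf e = 3 := by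
  have : Fact (Nat.Prime 3) := ⟨Nat.prime_three⟩
  have c : Commute a b := hc
  have a3 : a ^ 3 = 1 := ha ▸ pow_orderOf_eq_one a
  have b3 : b ^ 3 = 1 := hb ▸ pow_orderOf_eq_one b
  rcases he with rfl | rfl | rfl | rfl
  · exact ha
  · exact hb
  · exact orderOf_eq_prime (by rw [c.mul_pow, a3, b3, one_mul]) fun k => h2 (eq_inv_of_mul_eq_one_right k)
  · exact orderOf_eq_prime (by rw [c.inv_right.mul_pow, a3, inv_pow, b3, inv_one, one_mul]) fun k =>
      h1 (mul_inv_eq_one.1 k).symm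

theorem sp_cj {Y : Type} [Group Y] {J : Subgroup Y} (h : Sp J) (g : Y) : Sp (TH.cj g J) := by
  obtain ⟨h1, h2, h3, h4⟩ := h
  let e : J ≃* TH.cj g J := J.equivMapOfInjective _ (MulAut.conj g).injective
  refine ⟨Finite.of_equiv _ e.toEquiv, e.symm.isSimpleGroup, fun k => h3 ⟨⟨fun a b => e.injective ?_⟩⟩, ?_⟩
  · rw [map_mul, map_mul]
    exact k.1.1 _ _
  · rwa [TH.card_cj]

variable {D : ChevalleyDatum} {l : ℕ} {M : CoxeterMatrix (Fin l)} {hp : IsType D l M} {p : ℕ} [Fact p.Prime]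

/-- `F₄`: the centraliser of a semisimple element is connected -/
theorem conn4 (hD : Typ D) (hl : l = 4) {n : ℕ} (hn : n.Coprime p) {t : YY D p} (ht : t ∈ TT D (KK p)) (htn : t ^ n = 1)
    {c : YY D p} (hc : c * t = t * c) : c ∈ DZ hp p {t} := by
  have := finW hp
  have hZ : ({t} : Set (YY D p)) ⊆ TT D (KK p) := Set.singleton_subset_iff.2 ht
  have h1 := H931.KC.card_PP_le hp (Cb.cast_ne hn) ht htn
  have h4 : D = chevF4 := by
    have k := typ_l hp
    rcases hD with e | e | e | e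
    · exact e
    · exact absurd (k.2.1 e) (by omega)
    · exact absurd (k.2.2.1 e) (by omega)
    · exact absurd (k.2.2.2 e) (by omega)
  rw [H931.KC.card_mk, (nmk_le hp hD).2.1 (Or.inl h4)] at h1
  obtain ⟨m, hm, w, hw, k, h2, -, rfl⟩ := form hp (Set.finite_singleton t) hZ (c := c) fun s hs => by rw [hs, hc]
  have h5 := Finite.card_le_one_iff_subsingleton.1 h1
  have h6 : w = 1 := congrArg Subtype.val (h5.elim ⟨w, mem_PP_of_PPZ hw⟩ 1)
  rw [h6] at h2
  exact mul_mem (Mz_le_DZ hm) (T_le_DZ h2.mem_T)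

variable {q : ℕ} {G : Type} [Group G] [Finite G] {T H : Subgroup G} {F : XF hp p q T} {ι : Type} {S : ι → Subgroup G}

theorem zz_mul (x : YY D p) (a b : T) : zz F x (a * b) = zz F x a * zz F x b := by
  unfold zz
  rw [map_mul]
  group

theorem zz_inv (x : YY D p) (a : T) : zz F x a⁻¹ = (zz F x a)⁻¹ := by
  unfold zz
  rw [map_inv]
  group

theorem zz_fr (d x : YY D p) (a : T) : zz F (d * x) a = d * zz F x a * d⁻¹ := by
  unfold zz
  group

theorem zz_inj (x : YY D p) {a b : T} (h : zz F x a = zz F x b) : a = b :=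
  F.L.inj (mul_left_cancel (mul_right_cancel h))

theorem ord_zz (x : YY D p) (a : T) : orderOf (zz F x a) = orderOf a :=
  ((MulAut.conj x).orderOf_eq (F.L.ι a)).trans (orderOf_injective _ F.L.inj a)

theorem zz_mem (x : YY D p) {a : T} {i : ι} (h : (a : G) ∈ S i) : zz F x a ∈ JJ F S x i :=
  TH.conj_mem_cj x (ι_mem_im.2 h)

theorem card_JJ (x : YY D p) {i : ι} (h : S i ≤ T) : Nat.card (JJ F S x i) = Nat.card (S i) :=
  (TH.card_cj _ _).trans (card_im h)

theorem mem4 (x : YY D p) {a b : T} {e : YY D p}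
    (he : e ∈ ({zz F x a, zz F x b, zz F x a * zz F x b, zz F x a * (zz F x b)⁻¹} : Set (YY D p))) :
    ∃ e' ∈ ({a, b, a * b, a * b⁻¹} : Set T), e = zz F x e' := by
  rcases he with rfl | rfl | rfl | rfl
  · exact ⟨a, by simp, rfl⟩
  · exact ⟨b, by simp, rfl⟩
  · exact ⟨a * b, by simp, (zz_mul x a b).symm⟩
  · exact ⟨a * b⁻¹, by simp, by rw [zz_mul, zz_inv]⟩

theorem mem4' {Y : Type} [Group Y] {K : Subgroup Y} {a b e : Y} (ha : a ∈ K) (hb : b ∈ K)
    (he : e ∈ ({a, b, a * b, a * b⁻¹} : Set Y)) : e ∈ K := by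
  rcases he with rfl | rfl | rfl | rfl
  · exact ha
  · exact hb
  · exact mul_mem ha hb
  · exact mul_mem ha (inv_mem hb)

theorem cop6 (h5 : 5 ≤ p) : Nat.Coprime 6 p :=
  Nat.Coprime.mul_left ((Nat.coprime_primes Nat.prime_two Fact.out).2 (by omega))
    ((Nat.coprime_primes Nat.prime_three Fact.out).2 (by omega))

/-- the product of an element of order three and an involution -/
theorem ww_of (h1 : BoxH1) (hD : Typ D) (h5 : 5 ≤ p) {I : Finset ι} {x : YY D p} {e t : T} {c : ℕ}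
    (he : (e : G) ∈ ⨆ i ∈ I, S i) (ht : (t : G) ∈ ⨆ i ∈ I, S i) (e3 : orderOf e = 3) (t2 : orderOf t = 2)
    (eT : zz F x e ∈ TT D (KK p)) (tT : zz F x t ∈ TT D (KK p)) (h : nR hp p {zz F x e, zz F x t} ≤ c) : WW F S I c 6 := by
  obtain ⟨-, k2, -, k4⟩ := h1 D l M hp p hD
  have c1 : Commute e t := zz_inj (F := F) x (by rw [zz_mul, zz_mul]; exact BpExc.TorChev.TT_comm hp _ eT _ tT)
  refine ⟨e * t, mul_mem he ht, ?_, cop6 h5, ?_⟩
  · rw [c1.orderOf_mul_eq_mul_orderOf_of_coprime (by rw [e3, t2]; decide), e3, t2]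
  · have k5 := k4 x (F.L.ι (e * t)) (show zz F x (e * t) ∈ _ by rw [zz_mul]; exact mul_mem eT tT)
    have k6 := k2 _ _ eT tT (orderOf_pos_iff.1 (by rw [ord_zz, e3]; decide)) (orderOf_pos_iff.1 (by rw [ord_zz, t2]; decide))
      (by rw [ord_zz, ord_zz, e3, t2]; decide)
    rw [k5]
    refine Nat.add_le_add_left (le_trans (le_of_eq ?_) h) l
    show (Ps hp p {zz F x (e * t)}).ncard = _
    rw [zz_mul, k6]
    rfl

theorem mem_sup {I : Finset ι} {i : ι} (hi : i ∈ I) {a : G} (h : a ∈ S i) : a ∈ ⨆ i ∈ I, S i :=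
  (le_iSup₂ (f := fun i (_ : i ∈ I) => S i) i hi) h

theorem ea_one {i : ι} {a : T} (h : (a : G) ∈ S i) (h1 : (orderOf a).Prime) (h2 : orderOf a ≠ p) : Ea p q S i a 1 :=
  ⟨h, h1, h2, 1, ⟨1, one_mem _, by rw [one_mul, inv_one, mul_one, pow_one]⟩, one_dvd _⟩

theorem exists_ord {i : ι} (hi : S i ≤ T) {r : ℕ} (hr : r.Prime) (h : r ∣ Nat.card (S i)) :
    ∃ a : T, (a : G) ∈ S i ∧ orderOf a = r := by
  have := Fact.mk hr
  obtain ⟨a, ha⟩ := exists_prime_orderOf_dvd_card' r h
  exact ⟨Subgroup.inclusion hi a, a.2, by rw [orderOf_injective _ (Subgroup.inclusion_injective hi), ha]⟩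

section Frame

variable [DecidableEq ι] {I : Finset ι} {s : ι → T} {n : ι → ℕ} {x : YY D p}

theorem in1 (h : Fm F S I s n x) {i j : ι} (hi : i ∈ I) (hj : j ∈ I) (hne : j ≠ i) :
    In hp p {zz F x (s i)} (zz F x (s j)) := by
  have k := h.inn {i} (Finset.singleton_subset_iff.2 hi) (Or.inr (by simp)) j hj (by simpa using hne)
  rwa [Finset.coe_singleton, Set.image_singleton] at k

theorem in2 (h : Fm F S I s n x) {i j k : ι} (hi : i ∈ I) (hj : j ∈ I) (hk : k ∈ I) (h1 : k ≠ i) (h2 : k ≠ j) :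
    In hp p {zz F x (s i), zz F x (s j)} (zz F x (s k)) := by
  have k := h.inn {i, j} (Finset.insert_subset hi (Finset.singleton_subset_iff.2 hj)) (Or.inr Finset.card_le_two) k hk
    (by simp [h1, h2])
  rwa [Finset.coe_pair, Set.image_pair] at k

end Frame

/-- `In` for two elements of different components, in any frame -/
theorem in_of (h1 : BoxH1) (pf : BoxPerf) (hD : Typ D) (hinj : Function.Injective S) (hS : Mul T H (Set.range S))
    {x : YY D p} {i j : ι} (hne : i ≠ j) (hJ : Sp (JJ F S x j)) {e t : T} (he : (e : G) ∈ S i) (ht : (t : G) ∈ S j)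
    (t1 : t ≠ 1) (eT : zz F x e ∈ TT D (KK p)) (tT : zz F x t ∈ TT D (KK p)) : In hp p {zz F x e} (zz F x t) := by
  have hZ : ({zz F x e} : Set (YY D p)) ⊆ TT D (KK p) := Set.singleton_subset_iff.2 eT
  refine (h1 D l M hp p hD).1 _ _ _ (Set.finite_singleton _) hZ hJ (pf D l M hp p hD _ _ (Set.finite_singleton _) hZ
    (fun z hz => ?_) hJ ?_ (Or.inr ⟨_, rfl⟩)) (zz_mem x ht) tT fun k => t1 ?_
  · rw [hz, ← orderOf_pos_iff, ord_zz]
    exact orderOf_pos e
  · rintro _ ⟨_, ⟨y, hy, rfl⟩, rfl⟩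
    refine Subgroup.mem_centralizer_singleton_iff.2 ?_
    show zz F x y * zz F x e = zz F x e * zz F x y
    rw [← zz_mul, ← zz_mul]
    exact congrArg _ (Subtype.ext (hS.comm _ ⟨i, rfl⟩ _ ⟨j, rfl⟩ (fun k => hne (hinj k)) _ he _ hy).symm)
  · rw [← orderOf_eq_one_iff, ← ord_zz (F := F) x, k, orderOf_one]

end Ms

open Ms in
/-- **[MS]** -/
theorem boxMS_of (fr : BoxFr) (t33 : BoxT33) (f9 : BoxF9) (h1 : BoxH1) (pf : BoxPerf) (tor : BoxTor) : BoxMS := by
  intro D l M hp p _ tw f G _ _ T H F ι _ _ S C hinj hS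
  have hD : Typ D := C.typ
  have hT : ∀ i, S i ≤ T := fun i => (hS.le _ ⟨i, rfl⟩).trans inf_le_right
  have hfr := fr D l M hp p tw f G T H F ι S C hinj hS
  have h2 : ∀ i, ∃ t : T, (t : G) ∈ S i ∧ orderOf t = 2 := fun i => by
    obtain ⟨x, hx⟩ := hfr ∅ (fun _ => 1) (fun _ => 1) (by simp) (by simp)
    refine exists_ord (hT i) Nat.prime_two ?_
    rw [← card_JJ (F := F) x (hT i)]
    exact (hx.sp i).2.2.2.two_dvd
  constructor
  · intro i j k hij hik hjk h5 h8 hi hj hk
    have core : ∀ (u v w : ι) (a b : T), u ≠ v → u ≠ w → v ≠ w → (a : G) ∈ S u → (b : G) ∈ S v → orderOf a = 3 →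
        orderOf b = 3 → WW F S {u, v, w} (col l 6 10 24 0) 6 ∨
          dd p (F.L.ι a) = l + col l 18 30 60 0 ∧ dd p (F.L.ι b) = l + col l 12 18 42 0 ∨
          dd p (F.L.ι a) = l + col l 12 18 42 0 ∧ dd p (F.L.ι b) = l + col l 18 30 60 0 := by
      intro u v w a b uv uw vw ha hb a3 b3
      obtain ⟨t, ht, t2⟩ := h2 w
      obtain ⟨s, su, sv, sw⟩ : ∃ s : ι → T, s u = a ∧ s v = b ∧ s w = t :=
        ⟨fun m => if m = u then a else if m = v then b else t, by simp, by simp [uv.symm], by simp [uw.symm, vw.symm]⟩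
      have mu : u ∈ ({u, v, w} : Finset ι) := by simp
      have mv : v ∈ ({u, v, w} : Finset ι) := by simp
      have mw : w ∈ ({u, v, w} : Finset ι) := by simp
      obtain ⟨x, hx⟩ := hfr {u, v, w} s (fun _ => 1) (fun m hm => by
        simp only [Finset.mem_insert, Finset.mem_singleton] at hm
        rcases hm with rfl | rfl | rfl
        · rw [su]
          exact ea_one ha (a3 ▸ Nat.prime_three) (by omega)
        · rw [sv]
          exact ea_one hb (b3 ▸ Nat.prime_three) (by omega)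
        · rw [sw]
          exact ea_one ht (t2 ▸ Nat.prime_two) (by omega)) (fun m hm m' hm' k1 k2 => by
        simp only [Finset.mem_insert, Finset.mem_singleton] at hm hm'
        have k3 : m = w := by
          rcases hm with rfl | rfl | rfl
          · rw [su] at k1; omega
          · rw [sv] at k1; omega
          · rfl
        have k4 : m' = w := by
          rcases hm' with rfl | rfl | rfl
          · rw [su] at k2; omega
          · rw [sv] at k2; omega
          · rfl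
        rw [k3, k4])
      have p1 := hx.po u mu
      have p2 := hx.po v mv
      have p3 := hx.po w mw
      have i1 := in1 hx mu mv uv.symm
      have i2 := in1 hx mv mu uv
      have i3 := in1 hx mu mw uw.symm
      have i4 := in1 hx mw mu uw
      have i5 := in1 hx mv mw vw.symm
      have i6 := in1 hx mw mv vw
      have i7 := in2 hx mu mv mw uw.symm vw.symm
      have i8 := in2 hx mu mw mv uv.symm vw
      have i9 := in2 hx mv mw mu uv uw
      simp only [su, sv, sw] at p1 p2 p3 i1 i2 i3 i4 i5 i6 i7 i8 i9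
      rw [a3] at p1
      rw [b3] at p2
      rw [t2] at p3
      have d1 := (h1 D l M hp p hD).2.2.2 x _ p1.1
      have d2 := (h1 D l M hp p hD).2.2.2 x _ p2.1
      have hb1 : (b : G) ∉ S u := fun k => by
        have k1 : b = 1 := Subtype.ext (Gp.cen_one hS ⟨v, rfl⟩ hb fun y hy =>
          (hS.comm _ ⟨u, rfl⟩ _ ⟨v, rfl⟩ (fun e => uv (hinj e)) _ k _ hy).symm)
        rw [k1, orderOf_one] at b3
        omega
      rcases t33 D l M hp p hD _ _ _ p1 p2 p3 h8 i1 i2 i3 i4 i5 i6 i7 i8 i9 with ⟨e, he, k⟩ | ⟨k1, k2⟩ | ⟨k1, k2⟩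
      · have eT := mem4' p1.1 p2.1 he
        obtain ⟨e', he', rfl⟩ := mem4 x he
        refine Or.inl (ww_of h1 hD h5 ?_ (mem_sup mw ht) (ord3 a3 b3 (Subtype.ext
          (hS.comm _ ⟨u, rfl⟩ _ ⟨v, rfl⟩ (fun e => uv (hinj e)) _ ha _ hb)) (fun e => hb1 (e ▸ ha))
            (fun e => hb1 (e ▸ inv_mem ha)) he') t2 eT p3.1 k)
        exact mem4' (K := (⨆ i ∈ ({u, v, w} : Finset ι), S i).subgroupOf T) (mem_sup mu ha) (mem_sup mv hb) he'
      · exact Or.inr (Or.inl ⟨d1.trans (congrArg _ k1), d2.trans (congrArg _ k2)⟩)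
      · exact Or.inr (Or.inr ⟨d1.trans (congrArg _ k1), d2.trans (congrArg _ k2)⟩)
    obtain ⟨a, ha, a3⟩ := exists_ord (hT i) Nat.prime_three hi
    obtain ⟨b, hb, b3⟩ := exists_ord (hT j) Nat.prime_three hj
    obtain ⟨c, hc, c3⟩ := exists_ord (hT k) Nat.prime_three hk
    have hne : col l 18 30 60 0 ≠ col l 12 18 42 0 := by
      have k := typ_l hp
      rcases hD with e | e | e | e
      · rw [k.1 e]; decide
      · rw [k.2.1 e]; decide
      · rw [k.2.2.1 e]; decide
      · exact absurd (k.2.2.2 e) h8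
    rcases core i j k a b hij hik hjk ha hb a3 b3 with k1 | k1
    · exact k1
    rcases core i k j a c hik hij hjk.symm ha hc a3 c3 with k2 | k2
    · rwa [Finset.pair_comm k j] at k2
    rcases core j k i b c hjk hij.symm hik.symm hb hc b3 c3 with k3 | k3
    · rwa [Finset.pair_comm k i, Finset.insert_comm j i] at k3
    omega
  · intro i j hij h5 h4 a₀ b₀ a3' b3' hc' n1' n2'
    have hi := Subgroup.inclusion_injective (hT i)
    obtain ⟨a, b, ha, hb, a3, b3, hc, n1, n2⟩ : ∃ a b : T, (a : G) ∈ S i ∧ (b : G) ∈ S i ∧ orderOf a = 3 ∧ orderOf b = 3 ∧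
        a * b = b * a ∧ b ≠ a ∧ b ≠ a⁻¹ :=
      ⟨Subgroup.inclusion (hT i) a₀, Subgroup.inclusion (hT i) b₀, a₀.2, b₀.2, by rw [orderOf_injective _ hi, a3'],
        by rw [orderOf_injective _ hi, b3'], by rw [← map_mul, ← map_mul, hc'], fun k => n1' (hi k),
        fun k => n2' (hi (by rw [k, map_inv]))⟩
    obtain ⟨t, ht, t2⟩ := h2 j
    obtain ⟨s, si, sj⟩ : ∃ s : ι → T, s i = a ∧ s j = t := ⟨fun m => if m = i then a else t, by simp, by simp [hij.symm]⟩
    have mi : i ∈ ({i, j} : Finset ι) := by simp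
    have mj : j ∈ ({i, j} : Finset ι) := by simp
    obtain ⟨x, hx⟩ := hfr {i, j} s (fun _ => 1) (fun m hm => by
      simp only [Finset.mem_insert, Finset.mem_singleton] at hm
      rcases hm with rfl | rfl
      · rw [si]
        exact ea_one ha (a3 ▸ Nat.prime_three) (by omega)
      · rw [sj]
        exact ea_one ht (t2 ▸ Nat.prime_two) (by omega)) (fun m hm m' hm' k1 k2 => by
      simp only [Finset.mem_insert, Finset.mem_singleton] at hm hm'
      have k3 : m = j := by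
        rcases hm with rfl | rfl
        · rw [si] at k1; omega
        · rfl
      have k4 : m' = j := by
        rcases hm' with rfl | rfl
        · rw [si] at k2; omega
        · rfl
      rw [k3, k4])
    have p1 := (hx.po i mi).1
    have p2 := (hx.po j mj).1
    rw [si] at p1
    rw [sj] at p2
    have cm : ∀ y : T, (y : G) ∈ S i → Commute y t := fun y hy =>
      Subtype.ext (hS.comm _ ⟨i, rfl⟩ _ ⟨j, rfl⟩ (fun e => hij (hinj e)) _ hy _ ht)
    have a1 : a ^ 3 = 1 := a3 ▸ pow_orderOf_eq_one a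
    have t1 : t ^ 2 = 1 := t2 ▸ pow_orderOf_eq_one t
    have o6 : orderOf (zz F x (a * t)) = 6 := by
      rw [ord_zz, (cm a ha).orderOf_mul_eq_mul_orderOf_of_coprime (by rw [a3, t2]; decide), a3, t2]
    have yT : zz F x (a * t) ∈ TT D (KK p) := by
      rw [zz_mul]
      exact mul_mem p1 p2
    have hZ : ({zz F x (a * t)} : Set (YY D p)) ⊆ TT D (KK p) := Set.singleton_subset_iff.2 yT
    have hb1 : zz F x b ∈ DZ hp p {zz F x (a * t)} := conn4 hD h4 (cop6 h5) yT (o6 ▸ pow_orderOf_eq_one _) (by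
      rw [← zz_mul, ← zz_mul, ((show Commute b a from hc.symm).mul_right (cm b hb)).eq])
    obtain ⟨d, hd, bT⟩ := tor D l M hp p hD _ _ (Set.finite_singleton _) hZ (fun z hz => by
      rw [hz, ← orderOf_pos_iff, o6]; decide) hb1 (by
        rw [ord_zz, b3]
        exact (Nat.coprime_primes Nat.prime_three Fact.out).2 (by omega))
    have k6 := (h1 D l M hp p hD).2.1 _ _ p1 p2 (orderOf_pos_iff.1 (by rw [ord_zz, a3]; decide))
      (orderOf_pos_iff.1 (by rw [ord_zz, t2]; decide)) (by rw [ord_zz, ord_zz, a3, t2]; decide)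
    have hd' : d ∈ Mz hp p {zz F x a, zz F x t} := by
      refine (Mz_le fun r hr => X_le_Mz ?_ : Mz hp p {zz F x (a * t)} ≤ _) hd
      rwa [← k6, ← zz_mul]
    have hZ' : ({zz F x a, zz F x t} : Set (YY D p)) ⊆ TT D (KK p) :=
      Set.insert_subset p1 (Set.singleton_subset_iff.2 p2)
    have aT : zz F (d * x) a ∈ TT D (KK p) := by
      rwa [zz_fr, Mz_comm hZ' hd' (Set.mem_insert _ _), mul_inv_cancel_right]
    have tT : zz F (d * x) t ∈ TT D (KK p) := by
      rwa [zz_fr, Mz_comm hZ' hd' (Set.mem_insert_of_mem _ rfl), mul_inv_cancel_right]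
    rw [← zz_fr] at bT
    have sp : ∀ m, Sp (JJ F S (d * x) m) := fun m => by
      have k := sp_cj (hx.sp m) d
      rwa [JJ, ← TH.cj_mul] at k
    have t0 : t ≠ 1 := fun k => by
      rw [k, orderOf_one] at t2
      omega
    obtain ⟨e, he, k⟩ := f9 D l M hp p hD _ _ _ ⟨aT, Nat.prime_three, by omega, (ord_zz _ a).trans a3⟩
      ⟨bT, Nat.prime_three, by omega, (ord_zz _ b).trans b3⟩ ⟨tT, Nat.prime_two, by omega, (ord_zz _ t).trans t2⟩ h4
      (fun k => n1 (zz_inj _ k)) (fun k => n2 (zz_inj (F := F) (d * x) (by rw [k, zz_inv]))) (fun e he => by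
        have eT := mem4' aT bT he
        obtain ⟨e', he', rfl⟩ := mem4 _ he
        have m1 : (e' : G) ∈ S i := mem4' (K := (S i).subgroupOf T) ha hb he'
        have e3 := ord3 a3 b3 hc n1 n2 he'
        refine ⟨in_of h1 pf hD hinj hS hij (sp j) m1 ht t0 eT tT, in_of h1 pf hD hinj hS hij.symm (sp i) ht m1 (fun k => ?_) tT eT⟩
        rw [k, orderOf_one] at e3
        omega)
    have eT := mem4' aT bT he
    obtain ⟨e', he', rfl⟩ := mem4 _ he
    exact ww_of h1 hD h5 (mem_sup mi (mem4' (K := (S i).subgroupOf T) ha hb he')) (mem_sup mj ht)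
      (ord3 a3 b3 hc n1 n2 he') t2 eT tT k

end Cfsg.Agent.N2.Ex.Mu
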