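import Cfsg.Agent.N2.Ex.Mu.Defs2

/-!
# N2 (S3519), several components: `boxMT_of` (helper64)
-/

set_option autoImplicit false
set_option linter.unusedSectionVars false

namespace Cfsg.Agent.N2.Ex.Mu

open CoxeterSystem Cfsg Cfsg.Lie Cfsg.Lie.ChevalleyDatum
open Cfsg.Agent.ChevalleyStructure Cfsg.Agent.ChevalleyStructure.CoxeterGeom Cfsg.Agent.Tits.Roots Cfsg.Agent.Nodes Cfsg.Agent.Nodes.BNOf Cfsg.Agent.Nodes.RGDChev
open Cfsg.Agent.KFacts.RgdChevCoord Cfsg.Agent.BpExc.Fr Cfsg.Agent.BpExc.LangFr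
open Cfsg.Agent.H469.Exc Cfsg.Agent.H316.U6 Cfsg.Agent.H129.TorusChar Cfsg.Agent.DS.Ex Cfsg.Agent.DS.Nt
open Cfsg.Agent.SB.Exc (XF)
open Subgroup (centralizer)

namespace Mt

theorem Sp.cj {Y : Type} [Group Y] {J : Subgroup Y} (h : Sp J) (d : Y) : Sp (TH.cj d J) := by
  have e := Subgroup.equivMapOfInjective J (MulAut.conj d).toMonoidHom (MulAut.conj d).injective
  have := h.1
  have := h.2.1
  refine ⟨Finite.of_equiv _ e.toEquiv, e.symm.isSimpleGroup, fun k => h.2.2.1 ⟨⟨fun a b => e.injective ?_⟩⟩,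
    Nat.card_congr e.toEquiv ▸ h.2.2.2⟩
  rw [map_mul, map_mul]
  exact k.is_comm.comm _ _

variable {D : ChevalleyDatum} {l : ℕ} {M : CoxeterMatrix (Fin l)} {hp : IsType D l M} {p : ℕ} [Fact p.Prime] {q : ℕ}
  {G : Type} [Group G] [Finite G] {T : Subgroup G} {F : XF hp p q T} {ι : Type} [DecidableEq ι] {S : ι → Subgroup G}

theorem zz_mul (x : YY D p) (a b : T) : zz F x (a * b) = zz F x a * zz F x b := by
  rw [zz, zz, zz, map_mul]
  group

theorem zz_mem {x : YY D p} {i : ι} {a : T} (h : (a : G) ∈ S i) : zz F x a ∈ JJ F S x i := ⟨_, ⟨a, h, rfl⟩, rfl⟩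

theorem ord_zz (x : YY D p) (a : T) : orderOf (zz F x a) = orderOf a :=
  (orderOf_injective (MulAut.conj x).toMonoidHom (MulAut.conj x).injective _).trans (orderOf_injective _ F.L.inj a)

theorem exists_inv {x : YY D p} {i : ι} (h : Sp (JJ F S x i)) : ∃ b : T, (b : G) ∈ S i ∧ orderOf b = 2 := by
  have := h.1
  obtain ⟨⟨_, _, ⟨b, hb, rfl⟩, rfl⟩, h1⟩ := exists_prime_orderOf_dvd_card' (G := JJ F S x i) 2 h.2.2.2.two_dvd
  exact ⟨b, hb, (ord_zz (F := F) x b).symm.trans ((Subgroup.orderOf_mk _ _).symm.trans h1)⟩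

theorem exists_three {i : ι} (hi : S i ≤ T) (h : 3 ∣ Nat.card (S i)) : ∃ b : T, (b : G) ∈ S i ∧ orderOf b = 3 := by
  have : Fact (Nat.Prime 3) := ⟨by decide⟩
  obtain ⟨g, h1⟩ := exists_prime_orderOf_dvd_card' (G := S i) 3 h
  exact ⟨Subgroup.inclusion hi g, g.2, (orderOf_injective _ (Subgroup.inclusion_injective hi) g).trans h1⟩

/-- the frames -/
def Fra (F : XF hp p q T) (S : ι → Subgroup G) : Prop := ∀ (I : Finset ι) (s : ι → T) (n : ι → ℕ),
  (∀ i ∈ I, Ea p q S i (s i) (n i)) → (∀ i ∈ I, ∀ j ∈ I, orderOf (s i) = 2 → orderOf (s j) = 2 → i = j) → ∃ x, Fm F S I s n x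

theorem one (fr : Fra F S) {i : ι} {a : T} {n : ℕ} (h : Ea p q S i a n) : ∃ x, Fm F S {i} (fun _ => a) (fun _ => n) x :=
  fr {i} _ _ (fun j hj => by rwa [Finset.mem_singleton.1 hj])
    fun j hj k hk _ _ => (Finset.mem_singleton.1 hj).trans (Finset.mem_singleton.1 hk).symm

theorem two (fr : Fra F S) {i j : ι} (hij : i ≠ j) {a b : T} {n r' : ℕ} (h : Ea p q S i a n) (h2 : orderOf a ≠ 2)
    (hb : (b : G) ∈ S j) (ho : orderOf b = r') (hr : r' = 2 ∨ r' = 3 ∧ 5 ≤ orderOf a) (hp' : p ≠ r') :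
    ∃ x, Pair hp p (zz F x a) (zz F x b) (orderOf a) r' n ∧ Sp (JJ F S x j) ∧ JJ F S x j ≤ Mz hp p {zz F x a} ∧
      NZ hp p ∅ (zz F x a) ∧ ∃ k : ℕ, n ∣ orderOf (k : ZMod (orderOf a)) ∧ Rz hp p ∅ (zz F x a) k := by
  subst ho
  have e1 : (fun k => if k = i then a else b) i = a := if_pos rfl
  have e2 : (fun k => if k = i then a else b) j = b := if_neg hij.symm
  have e3 : (fun k => if k = i then n else 1) i = n := if_pos rfl
  have e4 : (fun k => if k = i then n else 1) j = 1 := if_neg hij.symm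
  generalize (fun k => if k = i then a else b) = s at e1 e2
  generalize (fun k => if k = i then n else 1) = m at e3 e4
  subst e1 e2 e3
  have hi : i ∈ ({i, j} : Finset ι) := Finset.mem_insert_self _ _
  have hj : j ∈ ({i, j} : Finset ι) := Finset.mem_insert_of_mem (Finset.mem_singleton_self _)
  obtain ⟨x, X⟩ := fr {i, j} s m (fun k hk => by
    rcases Finset.mem_insert.1 hk with rfl | hk
    · exact h
    · rw [Finset.mem_singleton.1 hk, e4]
      exact ⟨hb, by rcases hr with e | ⟨e, -⟩ <;> rw [e] <;> decide, hp'.symm, 1, ⟨1, one_mem _, by simp⟩, one_dvd _⟩)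
    fun k hk k' hk' e e' => by
      rcases Finset.mem_insert.1 hk with rfl | hk
      · exact absurd e h2
      rcases Finset.mem_insert.1 hk' with rfl | hk'
      · exact absurd e' h2
      · exact (Finset.mem_singleton.1 hk).trans (Finset.mem_singleton.1 hk').symm
  have h3 := X.inn {i} (Finset.singleton_subset_iff.2 hi) (Or.inr (by simp)) j hj (Finset.notMem_singleton.2 hij.symm)
  have h4 := X.inn {j} (Finset.singleton_subset_iff.2 hj) (Or.inr (by simp)) i hi (Finset.notMem_singleton.2 hij)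
  have h5 := X.rz {j} (Finset.singleton_subset_iff.2 hj) i hi (Finset.notMem_singleton.2 hij) h2
  have h6 := X.mz {i} (Finset.singleton_subset_iff.2 hi) (Or.inr (by simp)) j (Finset.notMem_singleton.2 hij.symm)
  have h7 := X.inn ∅ (Finset.empty_subset _) (Or.inr (by simp)) i hi (Finset.notMem_empty _)
  have h8 := X.rz ∅ (Finset.empty_subset _) i hi (Finset.notMem_empty _) h2
  rw [Finset.coe_singleton, Set.image_singleton] at h3 h4 h5 h6
  rw [Finset.coe_empty, Set.image_empty] at h7 h8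
  exact ⟨x, ⟨X.po i hi, X.po j hj, h2, hr, h3, h4, h5, X.hm i hi h2⟩, X.sp j, h6, h7.2, h8⟩

theorem ww (h1 : BoxH1) (hD : Typ D) {i j : ι} {a b : T} (ha : (a : G) ∈ S i) (hb : (b : G) ∈ S j) (hc : a * b = b * a)
    {x : YY D p} {r' n k : ℕ} (P : Pair hp p (zz F x a) (zz F x b) (orderOf a) r' n)
    (hk : nR hp p {zz F x a, zz F x b} ≤ k) : WW F S {i, j} k (r' * orderOf a) := by
  obtain ⟨-, k2, -, k4⟩ := h1 D l M hp p hD
  obtain ⟨s1, s2, s3, s4⟩ := P.hs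
  obtain ⟨t1, t2, t3, t4⟩ := P.ht
  have hco : (orderOf a).Coprime r' := (Nat.coprime_primes s2 t2).2 (by
    rcases P.ord with e | ⟨e, e'⟩
    · rw [e]; exact P.odd
    · omega)
  have hb' : orderOf b = r' := (ord_zz x b).symm.trans t4
  refine ⟨a * b, mul_mem ((le_iSup₂_of_le i (Finset.mem_insert_self _ _) le_rfl : S i ≤ _) ha)
    ((le_iSup₂_of_le j (Finset.mem_insert_of_mem (Finset.mem_singleton_self _)) le_rfl : S j ≤ _) hb), ?_, ?_, ?_⟩
  · rw [Commute.orderOf_mul_eq_mul_orderOf_of_coprime hc (hb' ▸ hco), hb', mul_comm]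
  · exact Nat.Coprime.mul_left ((Nat.coprime_primes t2 Fact.out).2 t3) ((Nat.coprime_primes s2 Fact.out).2 s3)
  · have e := zz_mul (F := F) x a b
    rw [k4 x _ (show zz F x (a * b) ∈ _ from e ▸ mul_mem s1 t1)]
    refine Nat.add_le_add_left (le_trans (le_of_eq ?_) hk) l
    show (Ps hp p {zz F x (a * b)}).ncard = (Ps hp p _).ncard
    rw [e, k2 _ _ s1 t1 (orderOf_pos_iff.1 (s4 ▸ s2.pos)) (orderOf_pos_iff.1 (t4 ▸ t2.pos)) (by rw [s4, t4]; exact hco)]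

end Mt

open Mt

/-- **[MT]** -/
theorem boxMT_of (bFr : BoxFr) (bT : BoxT) (bC : BoxC7) (bRK : BoxRK) (bSZ : BoxSZ) (bH : BoxH1) (bCT : BoxCT') (bTor : BoxTor)
    (bRz : BoxRz) : BoxMT := by
  intro D l M hp p _ tw f G _ _ T H F ι _ _ S C hS hM
  have fr : Fra F S := bFr D l M hp p tw f G T H F ι S C hS hM
  have hD := C.typ
  have hf := C.iso.1
  have hT : ∀ i, S i ≤ T := fun i => (hM.le _ ⟨i, rfl⟩).trans inf_le_right
  have hc : ∀ {i j : ι} {a b : T}, i ≠ j → (a : G) ∈ S i → (b : G) ∈ S j → a * b = b * a := fun hij ha hb =>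
    Subtype.ext (hM.comm _ ⟨_, rfl⟩ _ ⟨_, rfl⟩ (hS.ne hij) _ ha _ hb)
  refine ⟨fun i r n h => ?_, fun i j r n hij h h2 hn => ?_, fun i j r n hij h h3 h5 hj hn => ?_,
    fun i j r r' n' hij hl h h3 hj h' hn => ?_⟩
  · obtain ⟨a, rfl, ha⟩ := h.ea S hf (hT i)
    obtain ⟨x, X⟩ := one fr ha
    have := Fact.mk h.1
    have h1 := X.po i (Finset.mem_singleton_self _)
    have h2 := X.hm i (Finset.mem_singleton_self _) h.2.1
    obtain ⟨e, he, h3, -⟩ := Cb.pair (hp := hp) hD h1.2.2.1 h1.2.2.2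
    refine ⟨⟨a, (le_iSup₂_of_le i (Finset.mem_singleton_self _) le_rfl : S i ≤ _) ha.1, rfl,
      (Nat.coprime_primes h.1 Fact.out).2 h1.2.2.1, ?_⟩, e, he, h2.trans h3⟩
    exact (dd_conj x _).symm.trans_le (Cb.dd_le hD h1.2.2.1 h1.2.2.2 h2)
  · obtain ⟨a, rfl, ha⟩ := h.ea S hf (hT i)
    obtain ⟨x₀, X₀⟩ := one fr ha
    obtain ⟨b, hb, ho⟩ := exists_inv (X₀.sp j)
    obtain ⟨x, P, -⟩ := two fr hij ha h.2.1 hb ho (Or.inl rfl) h2
    obtain ⟨k, h3, h4⟩ := bT D l M hp p hD _ _ _ _ _ P hn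
    exact ⟨k, h3, ww bH hD ha.1 hb (hc hij ha.1 hb) P h4⟩
  · obtain ⟨a, rfl, ha⟩ := h.ea S hf (hT i)
    obtain ⟨b, hb, ho⟩ := exists_three (hT j) hj
    obtain ⟨x, P, -⟩ := two fr hij ha h.2.1 hb ho (Or.inr ⟨rfl, h5⟩) h3
    obtain ⟨k, h3, h4⟩ := bT D l M hp p hD _ _ _ _ _ P hn
    exact ⟨k, h3, ww bH hD ha.1 hb (hc hij ha.1 hb) P h4⟩
  obtain ⟨a, rfl, ha⟩ := h.ea S hf (hT i)
  have h5 : 5 ≤ orderOf a := by
    obtain ⟨x, X⟩ := one fr ha
    have := Fact.mk h.1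
    have h1 := Nat.le_of_dvd (by have := h.1.two_le; omega)
      ((X.hm i (Finset.mem_singleton_self _) h.2.1).trans Cb.hm_dvd)
    omega
  obtain ⟨b, hb, ho⟩ := exists_three (hT j) hj
  obtain ⟨x, P, hJ, hz, hN, k, hk, hR⟩ := two fr hij ha h.2.1 hb ho (Or.inr ⟨rfl, h5⟩) h3
  refine ww bH hD ha.1 hb (hc hij ha.1 hb) P ((bC D l M hp p hD _ _ _ P hl).resolve_right fun ⟨h6, h7⟩ => ?_)
  obtain ⟨a', rfl, ha', -, hp', e, ⟨c, hc1, hc2⟩, he⟩ := h'.ea S hf (hT j)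
  have hs := P.hs.1
  have hZ : ({zz F x a} : Set (YY D p)) ⊆ TT D (KK p) := Set.singleton_subset_iff.2 hs
  have hfo : ∀ z ∈ ({zz F x a} : Set (YY D p)), IsOfFinOrder z := fun z hz =>
    orderOf_pos_iff.1 (by rw [Set.mem_singleton_iff.1 hz, P.hs.2.2.2]; omega)
  have hcen : Mz hp p {zz F x a} ≤ centralizer ({zz F x a} : Set (YY D p)) := fun y hy =>
    Subgroup.mem_centralizer_singleton_iff.2 (Mz_comm hZ hy rfl)
  obtain ⟨c1, c2, c3⟩ := bCT D l M hp p hD (by omega) _ hs (hfo _ rfl)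
  have h8 := c3 _ _ hJ (hz.trans hcen) (zz_mem hb) P.ht.1
    (fun e => P.ht.2.1.ne_one (P.ht.2.2.2.symm.trans (orderOf_eq_one_iff.2 e))) h6 (zz_mem ha')
  obtain ⟨d, hd, hy⟩ := bTor D l M hp p hD _ _ (Set.finite_singleton _) hZ hfo (Mz_le_DZ (hz (zz_mem ha')))
    (by rw [ord_zz]; exact (Nat.coprime_primes h'.1 Fact.out).2 hp')
  have e1 : d * zz F x a' * d⁻¹ = zz F (d * x) a' := by rw [zz, zz]; group
  have e2 : zz F (d * x) a = zz F x a := by
    rw [← mul_inv_eq_iff_eq_mul.2 (Mz_comm hZ hd rfl), zz, zz]; group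
  have h9 : Th hp p (zz F x a) ⊆ Ps hp p {d * zz F x a' * d⁻¹} := (c2 _ hy).2 fun y hy => by
    have h10 := h8 _ (c1 _ (inv_mem (hcen hd)) _ hy)
    calc y * (d * zz F x a' * d⁻¹) = d * (d⁻¹ * y * d⁻¹⁻¹ * zz F x a') * d⁻¹ := by group
      _ = _ := by rw [h10]; group
  have hy1 : Po D (d * zz F x a' * d⁻¹) (orderOf a') := ⟨hy, h'.1, hp', by rw [e1, ord_zz]⟩
  have h10 := (bH D l M hp p hD).1 _ (TH.cj d (JJ F S x j)) _ (Set.finite_singleton _) hZ (Sp.cj hJ d)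
    (by rintro _ ⟨y, hy, rfl⟩; exact mul_mem (mul_mem hd (hz hy)) (inv_mem hd)) ⟨_, zz_mem ha', rfl⟩ hy
    fun e => h'.1.ne_one (hy1.2.2.2.symm.trans (orderOf_eq_one_iff.2 e))
  obtain ⟨k', hk', hR'⟩ := bRz D l M hp p hD _ T F.m (d * x) _ _ (zz F (d * x) c) _ e (Set.finite_singleton _) hZ hfo hy1 h'.2.1
    (by
      have key : ∀ u : T, F.m.σ ((d * x)⁻¹ * zz F (d * x) u * (d * x)) = (d * x)⁻¹ * zz F (d * x) u * (d * x) := fun u => by
        rw [show (d * x)⁻¹ * zz F (d * x) u * (d * x) = F.L.ι u by rw [zz]; group, ← F.hσ]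
        exact F.L.fix u
      rintro z (rfl | rfl)
      · rw [e1]; exact key _
      · rw [← e2]; exact key _)
    (Subgroup.mem_centralizer_singleton_iff.2 (by rw [← e2, ← zz_mul, ← zz_mul, hc hij ha.1 hc1]))
    (by
      rw [e1, zz, zz, conj_pow, ← map_pow, ← hc2, map_mul, map_mul, map_inv]
      group)
  obtain ⟨r0, r1, -⟩ := bRK D l M hp p hD
  have h11 := r1 ∅ _ _ 4 k (Set.empty_subset _) P.hs hN hR hk (by
    have h1 : orderOf a ≠ 6 := fun e => absurd (e ▸ h.1) (by decide)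
    omega)
  rw [r0, LawfulSingleton.insert_empty_eq, show Nat.totient 4 = 2 by decide] at h11
  have h12 := r1 _ _ _ n' k' hZ hy1 h10.2 hR' (he.trans hk') (by
    have h1 := h'.1.two_le
    have h2 := h'.2.1
    have h4 : orderOf a' ≠ 4 := fun e => absurd (e ▸ h'.1) (by decide)
    have h6 : orderOf a' ≠ 6 := fun e => absurd (e ▸ h'.1) (by decide)
    have h7 : g3 l = 5 := by rw [hl]; rfl
    omega)
  obtain ⟨z0, z1⟩ := bSZ D l M hp p hD
  have h13 := (z1 _ (Set.insert_subset hy hZ)).1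
  have h14 : (Th hp p (zz F x a)).ncard ≤ nR hp p (insert (d * zz F x a' * d⁻¹) {zz F x a}) :=
    Set.ncard_le_ncard (fun v hv => ⟨hv.1.1, by
      rintro z (rfl | rfl)
      exacts [(h9 hv).2 _ rfl, hv.1.2 _ rfl]⟩)
      ((Set.finite_of_ncard_ne_zero (s := Ps hp p ∅) (by
        rw [show (Ps hp p ∅).ncard = SZ l l from z0, hl]; decide)).subset fun v hv => ⟨hv.1, fun _ h => h.elim⟩)
  have h15 : ∀ ρ ≤ 3, SZ 7 ρ ≤ 12 := by decide
  have h16 := h15 _ (show rk hp p (insert (d * zz F x a' * d⁻¹) {zz F x a}) ≤ 3 by omega)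
  rw [← hl] at h16
  omega

end Cfsg.Agent.N2.Ex.Mu
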