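import Cfsg.Agent.N2.Ex.Mu.Defs2

/-!
# N2, exceptional groups, several components: the box `NT` (helper21)

`boxNT_of : BoxPU → BoxCT' → BoxNT`.
-/

set_option autoImplicit false
set_option linter.unusedSectionVars false

namespace Cfsg.Agent.N2.Ex.Mu

open Subgroup Cfsg.Agent.TH Cfsg.Agent.TH.Own

namespace NT

/-- two `p`-subgroups, one inside and one disjoint from a normal subgroup -/
theorem exists_big {C : Type} [Group C] [Finite C] {p : ℕ} [Fact p.Prime] {L P P' : Subgroup C} (hL : L.Normal)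
    (hP : IsPGroup p P) (hP' : IsPGroup p P') (h1 : P ≤ L) (h2 : ∀ y ∈ P', y ∈ L → y = 1) :
    ∃ Q : Subgroup C, IsPGroup p Q ∧ Nat.card P' * Nat.card P ≤ Nat.card Q := by
  obtain ⟨Q₁, h3⟩ := hP.exists_le_sylow
  obtain ⟨Q, h4⟩ := hP'.exists_le_sylow
  obtain ⟨g, hg⟩ := MulAction.exists_smul_eq C Q₁ Q
  have h5 : ∀ y ∈ P, g * y * g⁻¹ ∈ Q := fun y hy => by
    rw [← hg]
    exact ⟨y, h3 hy, rfl⟩
  refine ⟨Q, Q.isPGroup', ?_⟩
  rw [← Nat.card_prod]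
  refine Nat.card_le_card_of_injective (fun z => ⟨z.1 * (g * z.2 * g⁻¹), Q.mul_mem (h4 z.1.2) (h5 _ z.2.2)⟩) ?_
  rintro ⟨x, y⟩ ⟨x', y'⟩ e
  have e1 : (x : C) * (g * y * g⁻¹) = x' * (g * y' * g⁻¹) := Subtype.mk.inj e
  have e2 : (x' : C)⁻¹ * x = g * (y' * (y : C)⁻¹) * g⁻¹ := by
    calc (x' : C)⁻¹ * x = (x' : C)⁻¹ * (x * (g * y * g⁻¹)) * (g * y * g⁻¹)⁻¹ := by group
      _ = _ := by rw [e1]; group
  have e3 : (x' : C) = x := inv_mul_eq_one.1 (h2 _ (P'.mul_mem (P'.inv_mem x'.2) x.2)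
    (e2 ▸ hL.conj_mem _ (L.mul_mem (h1 y'.2) (L.inv_mem (h1 y.2))) g))
  rw [e3] at e1
  exact Prod.ext (Subtype.ext e3.symm) (Subtype.ext (mul_left_cancel (mul_right_cancel (mul_left_cancel e1))))

variable {G : Type} [Group G] [Finite G] {T H : Subgroup G} {𝓢 : Set (Subgroup G)}

/-- the component is normal in `H` -/
theorem card_le_of_nm (hT : DS.Setup T H) (h : Mul T H 𝓢) {S₀ : Subgroup G} (hn : ∀ g ∈ H, TH.cj g S₀ = S₀)
    {P : Subgroup T} (hP : ∀ y ∈ P, ∀ S ∈ 𝓢, S ≠ S₀ → ∀ z ∈ S, (y : G) * z = z * y) :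
    Nat.card P ≤ Nat.card (MulAut S₀) := by
  let C : Subgroup G := T ⊓ centralizer {x | ∃ S ∈ 𝓢, S ≠ S₀ ∧ x ∈ S}
  have h1 : C ≤ H := le_of_inv hT inf_le_left (fun k => by
      obtain ⟨S, hS, h2⟩ := h.two.exists_ne S₀
      refine h.nonab S hS ⟨⟨fun x y => Subtype.ext ?_⟩⟩
      have h4 : (y : G) ∈ C := k.symm ▸ (h.le S hS y.2).2
      exact h4.2 x ⟨S, hS, h2, x.2⟩) fun g hg c hc => ⟨hT.normal.conj_mem c hc.1 g, by
      rintro x ⟨S, hS, h3, hx⟩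
      have h2 := hc.2 (g⁻¹ * x * g⁻¹⁻¹) ⟨_, h.perm _ (inv_mem hg) S hS,
        fun k => h3 (cj_inj g⁻¹ (k.trans (hn _ (inv_mem hg)).symm)), conj_mem_cj _ hx⟩
      calc x * (g * c * g⁻¹) = g * (g⁻¹ * x * g⁻¹⁻¹ * c) * g⁻¹ := by group
        _ = g * c * g⁻¹ * x := by rw [h2]; group⟩
  have h2 : ∀ y : P, ((y : T) : G) ∈ normalizer (S₀ : Set G) := fun y => nm_iff.2 (hn _ (h1 ⟨y.1.2, by
    rintro x ⟨S, hS, h3, hx⟩
    exact (hP y y.2 S hS h3 x hx).symm⟩))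
  refine Nat.card_le_card_of_injective (S₀.normalizerMonoidHom.comp ((T.subtype.comp P.subtype).codRestrict _ h2))
    ((injective_iff_map_eq_one _).2 fun y hy => Subtype.ext (Subtype.ext (h.cent _ y.1.2 fun S hS x hx => ?_)))
  by_cases h3 : S = S₀
  · subst h3
    exact mul_inv_eq_iff_eq_mul.1 (congrArg Subtype.val (DFunLike.congr_fun hy (⟨x, hx⟩ : S)))
  · exact hP y y.2 S hS h3 x hx

/-- **the group theory** -/
theorem core (hT : DS.Setup T H) (h : Mul T H 𝓢) {p : ℕ} [Fact p.Prime] {S₀ : Subgroup G} (h0 : S₀ ∈ 𝓢) {a : T}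
    (ha : (a : G) ∈ S₀) {L P : Subgroup T} (h1 : L ≤ centralizer {a}) (h2 : ∀ c ∈ centralizer {a}, ∀ y ∈ L, c * y * c⁻¹ ∈ L)
    (h3 : ∀ y ∈ L, ∀ S ∈ 𝓢, S ≠ S₀ → ∀ z ∈ S, (y : G) * z = z * y) (hP : IsPGroup p P) (hPL : P ≤ L)
    (hQ : ∀ Q : Subgroup T, IsPGroup p Q → Q ≤ centralizer {a} → Nat.card Q < Nat.card P ^ 2) :
    Nat.card P ≤ Nat.card (MulAut S₀) := by
  by_cases hn : ∀ g ∈ H, TH.cj g S₀ = S₀
  · exact card_le_of_nm hT h hn fun y hy => h3 y (hPL hy)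
  push Not at hn
  obtain ⟨g, hg, hn⟩ := hn
  have := hT.normal
  let P' : Subgroup T := P.map (MulAut.conjNormal g : MulAut T).toMonoidHom
  have h4 : ∀ y ∈ P', ∀ S ∈ 𝓢, S ≠ TH.cj g S₀ → ∀ z ∈ S, (y : G) * z = z * y := by
    rintro _ ⟨y, hy, rfl⟩ S hS h5 z hz
    have h6 := h3 y (hPL hy) _ (h.perm _ (inv_mem hg) S hS) (fun k => h5 (cj_inj g⁻¹ (k.trans (cj_inv_cj g S₀).symm))) _
      (conj_mem_cj g⁻¹ hz)
    show g * y * g⁻¹ * z = z * (g * y * g⁻¹)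
    calc g * y * g⁻¹ * z = g * (y * (g⁻¹ * z * g⁻¹⁻¹)) * g⁻¹ := by group
      _ = _ := by rw [h6]; group
  have h5 : P' ≤ centralizer {a} := fun y hy =>
    mem_centralizer_singleton_iff.2 (Subtype.ext (h4 y hy S₀ h0 hn.symm a ha))
  obtain ⟨Q, h6, h7⟩ := exists_big (p := p) (L := L.subgroupOf (centralizer {a})) (P := P.subgroupOf _) (P' := P'.subgroupOf _)
    ⟨fun y hy c => h2 c c.2 y hy⟩ (hP.comap_of_injective _ (subtype_injective _))
    ((hP.map _).comap_of_injective _ (subtype_injective _)) (fun y hy => hPL hy) fun y hy hy' =>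
      Subtype.ext (Subtype.ext (h.cent _ y.1.2 fun S hS z hz => by
        by_cases k : S = S₀
        · exact h4 _ hy S hS (k ▸ hn.symm) z hz
        · exact h3 _ hy' S hS k z hz))
  have h8 := hQ _ (h6.map (centralizer {a}).subtype) (map_subtype_le Q)
  rw [Nat.card_congr (subgroupOfEquivOfLe h5).toEquiv, Nat.card_congr (subgroupOfEquivOfLe (hPL.trans h1)).toEquiv,
    show Nat.card P' = Nat.card P from card_map_of_injective (MulAut.conjNormal g : MulAut T).injective, ← sq] at h7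
  rw [card_map_of_injective (subtype_injective _)] at h8
  omega

end NT

open Cfsg.Agent.DS.Ex Cfsg.Agent.DS.Nt Cfsg.Agent.H316.U6 in
/-- **[NT]** -/
theorem boxNT_of (hPU : BoxPU) (hCT : BoxCT') : BoxNT := by
  intro D l M hp p _ tw f G _ _ T H F ι _ _ S C hS h i a x hl ha ho hx hn hJ
  obtain ⟨u1, P, u2, u3, u4⟩ := hPU D l M hp p tw f G T H F C.toX0 a x ho hx
  let φ : T →* YY D p := (MulAut.conj x).toMonoidHom.comp F.L.ι
  have hφ : Function.Injective φ := (MulAut.conj x).injective.comp F.L.inj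
  obtain ⟨c1, c2, -⟩ := hCT D l M hp p C.typ hl (φ a) hx (φ.isOfFinOrder (isOfFinOrder_of_finite a))
  have h1 := (c2 _ hx).1 fun b hb => hb.1
  have h2 : (p ^ f) ^ (Th hp p (zz F x a)).ncard ≤ Nat.card P ^ 2 := u4 hl
  refine h2.trans (Nat.pow_le_pow_left (NT.core (p := p) C.cx.setup h ⟨i, rfl⟩ ha (L := (LL hp p (φ a)).comap φ)
    (fun y hy => mem_centralizer_singleton_iff.2 (hφ (by rw [map_mul, map_mul]; exact h1 _ hy))) (fun c hc y hy => ?_)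
    ?_ u2 u3 fun Q k1 k2 => ?_) 2)
  · rw [mem_comap, map_mul, map_mul, map_inv]
    refine c1 _ (mem_centralizer_singleton_iff.2 ?_) _ hy
    rw [← map_mul, ← map_mul, mem_centralizer_singleton_iff.1 hc]
  · rintro y hy _ ⟨j, rfl⟩ k z hz
    have h3 : z ∈ T := (h.le _ ⟨j, rfl⟩ hz).2
    have h4 := hJ j (fun e => k (congrArg S e)) (conj_mem_cj x (show F.L.ι ⟨z, h3⟩ ∈ im F.L (S j) from ⟨⟨z, h3⟩, hz, rfl⟩)) _ hy
    exact congrArg Subtype.val (hφ (show φ (y * ⟨z, h3⟩) = φ (⟨z, h3⟩ * y) by rw [map_mul, map_mul]; exact h4))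
  · have h3 : Nat.card Q ^ 2 ≤ (p ^ f) ^ nR hp p {zz F x a} := u1 Q k1 k2
    have h4 : 1 < p ^ f := F.m.hq ▸ Nat.one_lt_pow F.m.he.ne' (Fact.out : p.Prime).one_lt
    refine lt_of_pow_lt_pow_left₀ 2 (Nat.zero_le _) (h3.trans_lt ((Nat.pow_lt_pow_right h4 hn).trans_le ?_))
    rw [mul_comm, pow_mul]
    exact Nat.pow_le_pow_left h2 2

end Cfsg.Agent.N2.Ex.Mu
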