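import Cfsg.Agent.N2.Ex.Mu.Defs

/-!
# N2, several components: a simple subgroup of `C(Z)` lies in `M_Z` (helper71)
-/

set_option autoImplicit false
set_option linter.unusedSectionVars false

namespace Cfsg.Agent.N2.Ex.Mu

open CoxeterSystem Cfsg Cfsg.Lie Cfsg.Lie.ChevalleyDatum Subgroup
open Cfsg.Agent.ChevalleyStructure Cfsg.Agent.ChevalleyStructure.CoxeterGeom Cfsg.Agent.Tits.Roots Cfsg.Agent.Nodes.RGDChev
open Cfsg.Agent.KFacts.RgdChevCoord Cfsg.Agent.BpExc.TorChev Cfsg.Agent.H469.Exc Cfsg.Agent.H316.U6 Cfsg.Agent.H129.TorusChar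
open Cfsg.Agent.DS.Ex Cfsg.Agent.DS.Nt Cfsg.Agent.H185.EE Cfsg.Agent.H931.KC

namespace Perf

theorem simple_le {Y : Type} [Group Y] {J K : Subgroup Y} (hJ : IsSimpleGroup J) (hn : ∀ c ∈ J, ∀ y ∈ K, c * y * c⁻¹ ∈ K)
    (h : ¬ ∀ x : J, (x : Y) ∈ K → x = 1) : J ≤ K := by
  rcases hJ.eq_bot_or_eq_top_of_normal (K.subgroupOf J) ⟨fun y hy c => hn c c.2 y hy⟩ with e | e
  · exact absurd (fun x hx => mem_bot.1 (e ▸ mem_subgroupOf.2 hx)) h
  · exact subgroupOf_eq_top.1 e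

variable {D : ChevalleyDatum} {l : ℕ} {M : CoxeterMatrix (Fin l)} {hp : IsType D l M} {p : ℕ} [Fact p.Prime]

variable (hp) in
include hp in
/-- the elements of the torus have order prime to `p` -/
theorem not_dvd {z : YY D p} (hz : z ∈ TT D (KK p)) (hf : IsOfFinOrder z) : ¬ p ∣ orderOf z := fun h => by
  have h1 := orderOf_pow_orderOf_div hf.orderOf_pos.ne' h
  have h2 : z ^ (orderOf z / p) = 1 := cX_inj hp (pow_mem hz _) (one_mem _) fun i => by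
    apply frobenius_inj (KK p) p
    rw [frobenius_def, ← cX_pow hp (pow_mem hz _), cX_one, map_one, ← cX_one hp (sr i)]
    exact congrArg (cX hp · _) (orderOf_dvd_iff_pow_eq_one.1 h1.dvd)
  rw [h2, orderOf_one] at h1
  exact (Fact.out : p.Prime).ne_one h1.symm

theorem odd_pp [Finite M.Group] {Z : Set (YY D p)} (hZ : Z ⊆ TT D (KK p)) (ho : ∀ z ∈ Z, Odd (orderOf z)) {w : M.Group}
    (hw : w ∈ PPZ M.toCoxeterSystem hp.isCartan (ch hp) Z) : ¬ 2 ∣ orderOf w := fun h => by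
  have h1 := orderOf_pow_orderOf_div (orderOf_pos w).ne' h
  obtain ⟨h2, h3⟩ := mem_PPZ.1 (pow_mem hw (orderOf w / 2))
  generalize w ^ (orderOf w / 2) = v at *
  obtain ⟨a, ha, h4⟩ := BpExc.Fix.exists_root_sum_eq_zero (cs := M.toCoxeterSystem) (h := hp.isCartan) (w := v)
    (by rintro rfl; simp at h1) two_pos (h1 ▸ pow_orderOf_eq_one v)
  replace h4 := (Finset.sum_range_succ _ 1).symm.trans h4
  rw [Finset.sum_range_one, pow_zero, map_one, Module.End.one_apply, pow_one, add_eq_zero_iff_neg_eq] at h4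
  have key : ∀ a, IsRoot M.toCoxeterSystem hp.isCartan a → -a = rep M.toCoxeterSystem hp.isCartan v a → 0 ≤ a → False :=
    fun a ha h4 h5 => ha.ne_zero (le_antisymm (neg_nonneg.1 (h4 ▸ h3 a ((mem_Ps hZ).2 ⟨ha, fun t ht => by
      have h6 := h2 a ha t ht
      rw [← h4, ← cX_root hp M.toCoxeterSystem (hZ ht) ha, ← cX_root hp M.toCoxeterSystem (hZ ht) ha.neg,
        (isMC_cX hp (hZ ht)).neg, inv_eq_iff_eq_inv, ← mul_eq_one_iff_eq_inv₀ ((isMC_cX hp (hZ ht)).ne_zero a), ← sq] at h6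
      rw [← pow_one (cX hp t a), ← (Nat.coprime_two_left.2 (ho t ht)).gcd_eq_one, pow_gcd_eq_one]
      exact ⟨h6, by rw [← cX_pow hp (hZ ht), pow_orderOf_eq_one, cX_one]⟩⟩) h5)) h5)
  rcases ha.pos_or_neg with h5 | h5
  exacts [key a ha h4 h5, key _ ha.neg (by rw [map_neg, h4]) (neg_nonneg.2 h5)]

theorem comm_mem {Z : Set (YY D p)} {a b : YY D p} (ha : a ∈ DZ hp p Z) (hb : b ∈ DZ hp p Z) : a * b * a⁻¹ * b⁻¹ ∈ Mz hp p Z := by
  obtain ⟨m, hm, t, ht, rfl⟩ := mem_DZ.1 ha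
  obtain ⟨m', hm', t', ht', rfl⟩ := mem_DZ.1 hb
  have e : m * t * (m' * t') * (m * t)⁻¹ * (m' * t')⁻¹ = m * (t * m' * t⁻¹) * (t * t' * t⁻¹ * m⁻¹ * t'⁻¹) * m'⁻¹ := by group
  rw [e, TT_comm hp t ht t' ht', mul_inv_cancel_right]
  exact mul_mem (mul_mem (mul_mem hm (T_conj_Mz ht hm')) (T_conj_Mz ht' (inv_mem hm))) (inv_mem hm')

end Perf

open Perf in
/-- **[Perf]** -/
theorem boxPerf : BoxPerf := by
  intro D l M hp p _ hD Z J hfin hZ hf ⟨h1, h2, h3, h4⟩ hJ h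
  have := finW hp
  have : Fact (Nat.Prime 2) := ⟨Nat.prime_two⟩
  have hc : ∀ c ∈ J, ∀ t ∈ Z, c * t = t * c := fun c hc t ht => (hJ hc t ht).symm
  obtain ⟨j, hj⟩ := exists_prime_orderOf_dvd_card' 2 h4.two_dvd
  have h5 : J ≤ DZ hp p Z := simple_le h2 (fun c k y hy => conj_mem_DZ hfin hZ (hc c k) hy) fun k => by
    have h6 : ∀ n, (∀ w ∈ PPZ M.toCoxeterSystem hp.isCartan (ch hp) Z, w ^ n = 1) → ∀ x : J, x ^ n = 1 := fun n hn x => k _ (by
      obtain ⟨m, hm, w, hw, k, hk, hkZ, e⟩ := form hp hfin hZ (hc x x.2)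
      rw [coe_pow, e]
      exact pow_mem_DZ hZ hm hk hkZ (hn w hw))
    have h7 := hj ▸ orderOf_dvd_of_pow_eq_one (h6 (Nat.card (PPZ M.toCoxeterSystem hp.isCartan (ch hp) Z))
      (fun w hw => congrArg Subtype.val (pow_card_eq_one' (x := (⟨w, hw⟩ : PPZ _ _ _ _)))) j)
    rcases h with h | ⟨z, rfl⟩
    · obtain ⟨w, hw⟩ := exists_prime_orderOf_dvd_card' 2 h7
      exact odd_pp hZ h w.2 (by rw [orderOf_coe, hw])
    · have h8 := card_PP_le hp (n := orderOf z) (by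
        rw [Ne, CharP.cast_eq_zero_iff (KK p) p]
        exact not_dvd hp (hZ rfl) (hf z rfl)) (hZ rfl) (pow_orderOf_eq_one z)
      rw [card_mk] at h8
      have h9 := ((card_le_of_le fun w hw => mem_PP_of_PPZ hw).trans h8).trans (nmk_le hp hD).1
      have h10 := Nat.card_pos (α := PPZ M.toCoxeterSystem hp.isCartan (ch hp) {z})
      have h11 := h6 2 fun w hw => congrArg Subtype.val
        ((show Nat.card (PPZ M.toCoxeterSystem hp.isCartan (ch hp) {z}) = 2 by omega) ▸ pow_card_eq_one' (x := (⟨w, hw⟩ : PPZ _ _ _ _)))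
      exact h3 ⟨⟨fun a b => (Commute.of_orderOf_dvd_two (fun g => orderOf_dvd_of_pow_eq_one (h11 g)) a b).eq⟩⟩
  exact simple_le h2 (fun c k y hy => conj_mem_Mz hfin hZ (hc c k) hy) fun k => h3 ⟨⟨fun a b => by
    have := k (a * b * a⁻¹ * b⁻¹) (comm_mem (h5 a.2) (h5 b.2))
    rwa [mul_inv_eq_one, mul_inv_eq_iff_eq_mul] at this⟩⟩

end Cfsg.Agent.N2.Ex.Mu
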