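import Cfsg.Agent.N2.Ex.Mu.Defs
import Cfsg.Agent.N2.Ex.Mu.LatY
import Cfsg.Agent.N2.Ex.Sim.Val

/-!
# N2, multiplicities: sizes by rank, elements of order three (helper67)
-/

set_option autoImplicit false
set_option linter.unusedSectionVars false
set_option maxRecDepth 100000

namespace Cfsg.Agent.N2.Ex.Mu

open CoxeterSystem Cfsg Cfsg.Lie Cfsg.Lie.ChevalleyDatum
open Cfsg.Agent.ChevalleyStructure Cfsg.Agent.ChevalleyStructure.CoxeterGeom Cfsg.Agent.ChevalleyStructure.CoxeterGeomTypes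
  Cfsg.Agent.Tits.Roots Cfsg.Agent.Nodes Cfsg.Agent.Nodes.RGDChev Cfsg.Agent.Nodes.Coroot
open Cfsg.Agent.KFacts.RgdChevCoord Cfsg.Agent.H469.Exc Cfsg.Agent.H316.U6 Cfsg.Agent.H129.TorusChar
open Cfsg.Agent.DS.Ex Cfsg.Agent.DS.Nt Cfsg.Agent.H931.KC
open Cfsg.Agent.DS.Ex.Tor (RT)
open Cfsg.Agent.N2.Ex.Al Cfsg.Agent.N2.Ex.Al.Ck

namespace Sz

open Lt

/-- the classes with a size in the list have a short base -/
noncomputable def sk (T : Tb) (l : ℕ) (S : List ℕ) (R : Rw) : Bool :=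
  Nat.blt R.Δ.length l || lA (fun k => !Nat.beq (cL R.m.testBit T.n) k) S

theorem skF4 : aL (fun j => sk tbF4 4 [18] (rw0 rwF4 j)) 37 = true := by decide +kernel
theorem skE6 : aL (fun j => sk tbE6 6 [22, 24, 30, 40] (rw0 rwE6 j)) 21 = true := by decide +kernel
theorem skE7 : aL (fun j => sk tbE7 7 [42, 60, 72] (rw0 rwE7 j)) 47 = true := by decide +kernel
theorem skE8 : aL (fun j => sk tbE8 8 [84, 126] (rw0 rwE8 j)) 77 = true := by decide +kernel

variable {D : ChevalleyDatum} {l : ℕ} {M : CoxeterMatrix (Fin l)} {hp : IsType D l M} {T : Tb}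

theorem rk_le (A : Set (Fin l → ℤ)) : rk' A ≤ l := by
  simpa using Submodule.finrank_le (Submodule.span ℤ A)

theorem rk_base (G : Gt hp T) {m : ℕ} {Δ : List ℕ} (h : T.rch m Δ = true) : rk' (St T l m) ≤ Δ.length := by
  classical
  let U : Submodule ℤ (Fin l → ℤ) := Submodule.span ℤ (Set.range fun i : Fin Δ.length => T.vec l Δ[i])
  have k : St T l m ⊆ U := fun a ha =>
    (G.rch h (S := {a | RT hp a ∧ a ∈ U}) ⟨fun _ h => h.1, fun _ h => ⟨h.1.neg, neg_mem h.2⟩⟩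
      (fun a ha b hb => ⟨ac_rw hp ha.1 b ▸ rt_ac hp _ hb.1, sub_mem hb.2 (U.smul_mem _ ha.2)⟩) 1 (fun d hd => by
        rw [ac_one]
        obtain ⟨i, hi, rfl⟩ := List.getElem_of_mem hd
        exact ⟨G.root _ (G.rch_lt h _ hd).1, Submodule.subset_span ⟨⟨i, hi⟩, rfl⟩⟩) ⟨a, ha, ac_one hp a⟩).2
  refine (Submodule.finrank_mono (Submodule.span_le.2 k)).trans ?_
  exact (finrank_range_le_card (R := ℤ) fun i : Fin Δ.length => T.vec l Δ[i]).trans_eq (Fintype.card_fin _)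

theorem rk_sk (G : Gt hp T) {L : List Rw} (hL : ∀ j < L.length, T.row L j = true) (hL0 : 0 < L.length)
    (hL1 : (rw0 L 0).m = 0) {S : List ℕ} (h : ∀ j < L.length, sk T l S (rw0 L j) = true)
    {A : Set (Fin l → ℤ)} (h1 : Sy hp A) (h2 : Al.Rc hp A) (k : A.ncard ∈ S) : rk' A < l := by
  obtain ⟨j, hj, v, e⟩ := G.cls_of hL hL0 hL1 h1 h2
  have h3 := hL j hj
  have h4 := h j hj
  rw [Tb.row, Bool.and_eq_true] at h3
  simp only [sk, Bool.or_eq_true, lA_iff, Nat.blt_eq, Bool.not_eq_true', ← Bool.not_eq_true, Nat.beq_eq] at h4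
  rw [← ncard_ac (hp := hp) v, e, G.ncard_St] at k
  rw [← rk_image (ac hp v), e]
  exact (rk_base G h3.1).trans_lt (h4.resolve_right fun h5 => h5 _ k rfl)

theorem all_eq (G : Gt hp T) : {a | RT hp a}.ncard = T.n ∧ {a | RT hp a}.Finite := by
  have e : {a | RT hp a} = T.vec l '' (Finset.range T.n : Finset ℕ) := Set.ext fun a =>
    ⟨fun h => by
      obtain ⟨s, hs, rfl⟩ := G.surj a h
      exact ⟨s, by simpa using hs, rfl⟩, by
      rintro ⟨s, hs, rfl⟩
      exact G.root s (by simpa using hs)⟩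
  rw [e, Set.InjOn.ncard_image fun a ha b hb => G.inj a (by simpa using ha) b (by simpa using hb), Set.ncard_coe_finset,
    Finset.card_range]
  exact ⟨rfl, (Finset.finite_toSet _).image _⟩

variable (hp) in
theorem all_typ (hD : Typ D) : {a | RT hp a}.ncard = SZ l l ∧ {a | RT hp a}.Finite := by
  rcases hD with rfl | rfl | rfl | rfl
  · obtain rfl := (typ_l hp).1 rfl
    exact all_eq (gsF4 hp).toGt
  · obtain rfl := (typ_l hp).2.1 rfl
    exact all_eq (gsE6 hp).toGt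
  · obtain rfl := (typ_l hp).2.2.1 rfl
    exact all_eq (gsE7 hp).toGt
  · obtain rfl := (typ_l hp).2.2.2 rfl
    exact all_eq (gsE8 hp).toGt

theorem even_sy {A : Set (Fin l → ℤ)} (hA : A.Finite) (h : Sy hp A) : Even A.ncard := by
  classical
  rw [Set.ncard_eq_toFinset_card A hA, ← ZMod.natCast_eq_zero_iff_even, Finset.card_eq_sum_ones, Nat.cast_sum]
  refine Finset.sum_involution (fun a _ => -a) (fun _ _ => by decide) (fun a ha _ e => ?_)
    (fun a ha => hA.mem_toFinset.2 (h.neg a (hA.mem_toFinset.1 ha))) fun a _ => neg_neg a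
  refine rt_ne (h.root a (hA.mem_toFinset.1 ha)) (funext fun i => ?_)
  have := congrFun e i
  rw [Pi.neg_apply] at this
  show a i = 0
  omega

theorem sz_eq (hl : l = 4 ∨ l = 6 ∨ l = 7 ∨ l = 8) : ∀ ρ ≤ l,
    (if l = 4 then [0, 2, 8, 18, 48] else [0, 2, 6, 12, 24, 40, 72, 126]).getD ρ 240 = SZ l ρ := by
  rcases hl with rfl | rfl | rfl | rfl <;> decide

variable (hp) in
include hp in
theorem l_typ (hD : Typ D) : l = 4 ∨ l = 6 ∨ l = 7 ∨ l = 8 :=
  hD.imp (typ_l hp).1 (Or.imp (typ_l hp).2.1 (Or.imp (typ_l hp).2.2.1 (typ_l hp).2.2.2))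

variable {p : ℕ} [Fact p.Prime]

/-- an element of order three is not trivial on all roots -/
theorem ne_all (hD : Typ D) {x : YY D p} {r : ℕ} (hx : Po D x r) : nR hp p {x} ≠ SZ l l := fun h => by
  have h1 := all_typ hp hD
  have h2 := Set.eq_of_subset_of_ncard_le (s := Ps hp p {x}) (t := {a | RT hp a})
    (fun a ha => ((mem_ps hp hx.1).1 ha).1) (h1.1.trans h.symm).le h1.2
  have h3 : x = 1 := cX_inj hp hx.1 (one_mem _) fun i => by
    rw [cX_one]
    exact ((mem_ps hp hx.1).1 (h2.ge (isRoot_sr _ _ i))).2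
  exact hx.2.1.one_lt.ne' (by rw [← hx.2.2.2, h3, orderOf_one])

end Sz

open Lt Sz

/-- **[SZ]** -/
theorem boxSZ : BoxSZ := fun D l M hp p _ hD => by
  have h1 := all_typ hp hD
  have hl := l_typ hp hD
  refine ⟨?_, fun Z hZ => ⟨?_, even_sy (h1.2.subset (ps_sy hp hZ).root) (ps_sy hp hZ), rk_le _⟩⟩
  · rw [← h1.1]
    exact congrArg Set.ncard (Set.ext fun a => (mem_Ps (Set.empty_subset _)).trans (and_iff_left fun _ h => h.elim))
  · have h2 : rk hp p Z ≤ l := rk_le _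
    rw [← sz_eq hl _ h2]
    exact rkY hp hD (ps_sy hp hZ) (ps_rc hp hZ) (by omega) le_rfl

/-- **[X3]** -/
theorem boxX3 : BoxX3 := fun D l M hp p _ hD x b hx hb => by
  have hZ : ({x} : Set (YY D p)) ⊆ TT D (KK p) := Set.singleton_subset_iff.2 hx.1
  have h1 := ne_all (hp := hp) hD hx
  have h2 := (Sm.boxVal D l M hp hD p x 3 ((Nat.coprime_primes hx.2.1 Fact.out).2 hx.2.2.1)
    (hx.2.2.2 ▸ pow_orderOf_eq_one x)).2.1 (by norm_num) (by norm_num)
  have h3 : rk hp p {x} ≤ l := rk_le _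
  have s1 := ps_sy hp hZ
  have s2 := ps_rc hp hZ
  rw [dd_eq hp hx.1] at h2
  change l + nR hp p {x} ∈ _ at h2
  rcases hD with rfl | rfl | rfl | rfl
  · obtain rfl := (typ_l hp).1 rfl
    have k : nR hp p {x} ∈ [18] → rk hp p {x} < 4 :=
      rk_sk (gsF4 hp).toGt rowF4 (by decide) rfl (aL_iff.1 skF4) s1 s2
    change _ ∈ [16, 22, 52] at h2
    change _ ≠ 48 at h1
    change ∃ f ∈ [(18, 3), (12, 4)], _
    simp only [List.mem_cons, List.not_mem_nil, or_false, exists_eq_or_imp, exists_eq_left] at h2 k ⊢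
    omega
  · obtain rfl := (typ_l hp).2.1 rfl
    have k : nR hp p {x} ∈ [22, 24, 30, 40] → rk hp p {x} < 6 :=
      rk_sk (gsE6 hp).toGt rowE6 (by decide) rfl (aL_iff.1 skE6) s1 s2
    change _ ∈ [24, 28, 30, 36, 46, 78] at h2
    change _ ≠ 72 at h1
    change ∃ f ∈ [(if b then 40 else 30, 5), (18, 6)], _
    simp only [List.mem_cons, List.not_mem_nil, or_false, exists_eq_or_imp, exists_eq_left] at h2 k ⊢
    cases b
    · have h4 : nR hp p {x} ≠ 40 := fun h => hb rfl (Or.inl ⟨rfl, h⟩)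
      rw [if_neg Bool.false_ne_true]
      omega
    · rw [if_pos rfl]
      omega
  · obtain rfl := (typ_l hp).2.2.1 rfl
    have k : nR hp p {x} ∈ [42, 60, 72] → rk hp p {x} < 7 :=
      rk_sk (gsE7 hp).toGt rowE7 (by decide) rfl (aL_iff.1 skE7) s1 s2
    change _ ∈ [43, 49, 67, 79, 133] at h2
    change _ ≠ 126 at h1
    change ∃ f ∈ [(72, 6), (36, 7)], _
    simp only [List.mem_cons, List.not_mem_nil, or_false, exists_eq_or_imp, exists_eq_left] at h2 k ⊢
    omega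
  · obtain rfl := (typ_l hp).2.2.2 rfl
    have k : nR hp p {x} ∈ [84, 126] → rk hp p {x} < 8 :=
      rk_sk (gsE8 hp).toGt rowE8 (by decide) rfl (aL_iff.1 skE8) s1 s2
    change _ ∈ [80, 86, 92, 134, 248] at h2
    change _ ≠ 240 at h1
    change ∃ f ∈ [(126, 7), (78, 8)], _
    simp only [List.mem_cons, List.not_mem_nil, or_false, exists_eq_or_imp, exists_eq_left] at h2 k ⊢
    omega

end Cfsg.Agent.N2.Ex.Mu
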