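import Cfsg.Agent.N2.Ex.Mu.CN
import Cfsg.Agent.N2.Ex.Mu.CT
import Cfsg.Agent.N2.Ex.Mu.Fr
import Cfsg.Agent.N2.Ex.Mu.H1
import Cfsg.Agent.N2.Ex.Mu.MA
import Cfsg.Agent.N2.Ex.Mu.MB
import Cfsg.Agent.N2.Ex.Mu.MC
import Cfsg.Agent.N2.Ex.Mu.MN
import Cfsg.Agent.N2.Ex.Mu.MS
import Cfsg.Agent.N2.Ex.Mu.MT
import Cfsg.Agent.N2.Ex.Mu.NT
import Cfsg.Agent.N2.Ex.Mu.Perf
import Cfsg.Agent.N2.Ex.Mu.SZ

/-!
# N2 (S3519), several components: the landed boxes plugged in (helper9)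
-/

set_option autoImplicit false

namespace Cfsg.Agent.N2.Ex.Mu

theorem boxMul_of (rz : BoxRz) (pu : BoxPU) (rk : BoxRK) (ee : BoxEE) (en : BoxEN) (t33 : BoxT33) (f9 : BoxF9) (t : BoxT)
    (t2 : BoxT2) (c7 : BoxC7) (num : ∀ l, l = 4 ∨ l = 6 ∨ l = 7 ∨ l = 8 → BoxNum l) : BoxMul :=
  have fr := boxFr_of boxH1 boxPerf boxTor rz
  mul_of (boxMA_of boxCN pu boxH1) (boxMB_of fr) (boxMT_of fr t c7 rk boxSZ boxH1 boxCT' boxTor rz)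
    (boxMN_of fr t2 ee en boxCT' (boxNT_of pu boxCT') boxH1 boxPerf boxTor) (boxMC_of fr rk boxSZ boxX3 boxAvg boxH1)
    (boxMS_of fr t33 f9 boxH1 boxPerf boxTor) num

end Cfsg.Agent.N2.Ex.Mu
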