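import Cfsg.Agent.BZ.L.TA.H0
import Cfsg.Agent.BZ.L.TA.Lat
import Cfsg.Agent.BZ.L.TA.GrpA

/-!
# N2 / Mu : centralisers in the derived group, for an abstract datum (helper37)

`CNa.card_le` : `|K ⊓ C(u)| ≤ |C°(u) ^ F|` for `K ≤ [G ^ F, G ^ F]`, connected centre, fundamental group of prime power exponent.
-/

set_option autoImplicit false
set_option linter.unusedSectionVars false

namespace Cfsg.Agent.N2.Ex.Mu.CNa

open Cfsg Subgroup Cfsg.Agent.DL Cfsg.Agent.DL.PP Cfsg.Agent.HZ.L.Reg Cfsg.Agent.Nodes.Reps Matrix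
  Cfsg.Agent.Tits.Roots Cfsg.Agent.BZ.TA Cfsg.Agent.BZ.TA.H0

variable {p : ℕ} [Fact p.Prime] {k : Type} [Field k] [CharP k p] {Y : Type} [Group Y] {N : Type} [Fintype N]
  [DecidableEq N] {ρ : Y →* GL N k} {F : MulAut Y} {G : Subgroup Y} [IsAlgClosed k] {X : Datum p ρ F G}

theorem exists_xp {t : Y} (h1 : t ∈ X.T) (h2 : F t = t) {m : ℕ} (hm : ¬ p ∣ m) (h3 : t ^ m = 1) :
    ∃ (ζ : kˣ) (v ν : X.I → ℤ), IsPrimitiveRoot ζ m ∧ Xp X t ζ v ∧ Qm X *ᵥ v - v = (m : ℤ) • ν := by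
  obtain ⟨ζ, hζ'⟩ := KM.Tor.exists_prim p k hm
  have hζ : IsPrimitiveRoot ζ m := hζ' ▸ IsPrimitiveRoot.orderOf ζ
  have : NeZero m := ⟨fun h => hm (h ▸ dvd_zero p)⟩
  have h4 : X.crd t ^ m = 1 := X.τ_inj (by rw [map_pow, X.τ_crd h1, h3, map_one])
  have h5 : ∀ i, ∃ n : ℕ, ζ ^ n = al X (X.crd t) i := fun i => by
    obtain ⟨n, -, hn⟩ := hζ.eq_pow_of_mem_rootsOfUnity (ξ := al X (X.crd t) i) (by
      rw [mem_rootsOfUnity, ← Pi.pow_apply, ← map_pow, h4, map_one, Pi.one_apply])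
    exact ⟨n, hn⟩
  choose v hv using h5
  have h6 : Xp X t ζ fun i => v i := fun b => by
    rw [Datum.χ, ← chr_al, ← show coch (fun i => (v i : ℤ)) ζ = al X (X.crd t) from funext fun i => (zpow_natCast _ _).trans (hv i),
      chr_coch]
    rfl
  obtain ⟨ν, hν⟩ := dz_ex (M := (m : ℤ)) (v := Qm X *ᵥ (fun i => (v i : ℤ)) - fun i => (v i : ℤ)) fun i => by
    have h7 := X.χ_ψ (Pi.single i 1) h1
    rw [h2, h6, h6, Units.val_inj, ← dot_Qm, single_dotProduct, single_dotProduct, one_mul, one_mul] at h7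
    rw [← hζ.zpow_eq_one_iff_dvd, Pi.sub_apply, _root_.zpow_sub, ← h7, mul_inv_cancel]
  exact ⟨ζ, _, ν, hζ, h6, hν.symm⟩

theorem delta {n : ℤ} (hE : ∀ μ, ∃ β, β ᵥ* Cm X = n • μ) {u : Y} (hu : u ∈ X.T) (hF : F u = u) {m : ℕ} (hm : ¬ p ∣ m) (hum : u ^ m = 1)
    {D : Subgroup Y} (hD : D ≤ GF F G) (h : D ≤ centralizer {u}) :
    ∃ δ : D → X.I → ℤ, (∀ g, Qm X *ᵥ δ g - δ g ∈ S0 n (Cm X)) ∧
      ∀ g g', δ g' - δ g ∈ S0 n (Cm X) → (g : Y)⁻¹ * g' ∈ X.cen {u} := by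
  obtain ⟨ζ, v, ν, hζ, hx, hv⟩ := exists_xp hu hF hm hum
  have h0 : 0 < m := Nat.pos_of_ne_zero fun e => hm (e ▸ dvd_zero p)
  have hn : (m : ℤ) ≠ 0 := Nat.cast_ne_zero.2 h0.ne'
  choose c hc x w δ h1 h2 h3 β h4 using fun g : D => exists_Dl hu hζ hx (hD (inv_mem g.2)).1 (by
    rw [mem_centralizer_singleton_iff.1 (h (inv_mem g.2)), mul_inv_cancel_right, mul_inv_cancel]
    exact one_mem _)
  refine ⟨δ, fun g => ?_, fun g g' ⟨γ, la, h5⟩ => ?_⟩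
  · obtain ⟨γ, h5⟩ := (h3 g).mapF hv
    have h6 := (mem_GF.1 (hD (inv_mem g.2))).2
    rw [h2, map_mul] at h6
    obtain ⟨β', h7⟩ := ((h3 g).iff hn h5).1 ((af_iff hu hF h0 hζ hx ((h1 g).mul (Datum.Rp.mapF (h1 g)).inv)).2 (by
      rw [mul_inv_eq_iff_eq_mul.2 ((eq_inv_mul_of_mul_eq h6.symm).trans (mul_assoc _ _ _).symm)]
      exact mul_mem (inv_mem (hc g)) (F_cen hu hF (hc g))))
    exact ⟨γ - β', 0, by rw [sub_vecMul, ← h7, smul_zero]; abel⟩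
  · obtain ⟨β', h6⟩ := hE la
    have h7 := (af_iff hu hF h0 hζ hx ((h1 g').mul (h1 g).inv)).1 (((h3 g').iff hn (h3 g)).2
      ⟨γ + β', by rw [add_vecMul, h6, h5]⟩)
    rw [h2, ← inv_inv (g' : Y), h2]
    convert mul_mem (mul_mem (hc g) (inv_mem h7)) (inv_mem (hc g')) using 1
    group

theorem xp_div {t t' : Y} (ht : t ∈ X.T) (ht' : t' ∈ X.T) {ζ : kˣ} {v v' : X.I → ℤ} (h : Xp X t ζ v) (h' : Xp X t' ζ v') :
    Xp X (t⁻¹ * t') ζ (v' - v) := fun a => by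
  rw [X.χ_mul a (inv_mem ht) ht', X.χ_inv a ht, h, h', dotProduct_sub, _root_.zpow_sub, Units.val_mul, Units.val_inv_eq_inv_val,
    mul_comm]

theorem tl_div {l : ℕ} {t t' : Y} (ht : Tl X l t) (ht' : Tl X l t') : Tl X l (t⁻¹ * t') := by
  obtain ⟨h1, h2, i, h3⟩ := ht
  obtain ⟨k1, k2, j, k3⟩ := ht'
  refine ⟨mul_mem (inv_mem h1) k1, by rw [map_mul, map_inv, h2, k2], i + j, ?_⟩
  rw [(show Commute t⁻¹ t' from X.T_comm (inv_mem h1) k1).mul_pow, inv_pow, pow_add, pow_mul, h3, one_pow, mul_comm (l ^ i), pow_mul, k3,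
    one_pow, inv_one, one_mul]

theorem card_le_of {D C H L : Subgroup Y} [Finite L] [Finite D] (h1 : C.relIndex D ≤ H.relIndex L) (h2 : C ⊓ D ≤ H ⊓ L) :
    Nat.card D ≤ Nat.card L := by
  rw [← (C.subgroupOf D).index_mul_card, ← (H.subgroupOf L).index_mul_card]
  refine Nat.mul_le_mul h1 (Nat.card_le_card_of_injective (fun x => ⟨⟨x.1.1, (h2 ⟨x.2, x.1.2⟩).2⟩, (h2 ⟨x.2, x.1.2⟩).1⟩) fun x y h => ?_)
  exact Subtype.ext (Subtype.ext (congrArg (fun z : H.subgroupOf L => (z.1 : Y)) h))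

variable (X) in
/-- **the centraliser in the derived group** -/
theorem card_le (cz : CZ X) {l E : ℕ} (hl : l.Prime) (hp : l ≠ p) (hE : ∀ μ, ∃ β, β ᵥ* Cm X = (l : ℤ) ^ E • μ) {K : Subgroup Y}
    (hK : K ≤ ⁅GF F G, GF F G⁆) {y : Y} (hy : y ∈ G) (hN : y⁻¹ * F y ∈ X.NN) {u : Y} (hu : u ∈ (X.conj hy hN).T) (hF : F u = u)
    {m : ℕ} (hm : ¬ p ∣ m) (hum : u ^ m = 1) :
    Nat.card ↥(K ⊓ centralizer {u}) ≤ Nat.card ↥(GF F ((X.conj hy hN).cen {u})) := by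
  obtain ⟨H, h0, hc, -, hH⟩ := boxH0_of boxLat X cz l hl hp
  obtain ⟨c1, c2, -⟩ := hH y hy hN
  have hl' := Nat.prime_iff_prime_int.1 hl
  have := X.amb.finite_GF G
  have hD : K ⊓ centralizer {u} ≤ GF F G := inf_le_left.trans (hK.trans (hc.trans h0))
  have hL : GF F ((X.conj hy hN).cen {u}) ≤ GF F G := inf_le_inf_right _ (Datum.cen_le_G _ _)
  have : Finite ↥(K ⊓ centralizer {u}) := Finite.of_injective _ (inclusion_injective hD)
  have : Finite ↥(GF F ((X.conj hy hN).cen {u})) := Finite.of_injective _ (inclusion_injective hL)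
  obtain ⟨δ, d1, d2⟩ := delta (X := X.conj hy hN) hE hu hF hm hum hD inf_le_right
  obtain ⟨a, s', hs', h3, -⟩ := exists_adj hl (det_Qm (X.conj hy hN))
  obtain ⟨ζ, hζ⟩ := exists_prim (k := k) hl hp a
  choose v hv using h3
  simp only [sub_mulVec, one_mulVec] at hv
  choose t ht hx using fun μ => boxLat (X.conj hy hN) cz l a ζ (v μ) hl hp hζ.eq_orderOf.symm fun i => ⟨_, congrFun (hv μ) i⟩
  have k1 : ((X.conj hy hN).cen {u}).relIndex (K ⊓ centralizer {u}) ≤ H.relIndex (GF F G) := by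
    refine count (pow_ne_zero E hl'.ne_zero) (Qm_R (X.conj hy hN)) δ d1 d2
      (fun μ => ⟨t μ, Datum.T_le_G _ (ht μ).1, (ht μ).2.1⟩) fun μ μ' h => ?_
    obtain ⟨s, β, ν, hs, e⟩ := (c2 _ a ζ _ (s' • (μ' - μ)) (tl_div (ht μ) (ht μ')) hζ.eq_orderOf.symm
      (xp_div (ht μ).1 (ht μ').1 (hx μ) (hx μ')) (by
        rw [mulVec_sub, sub_sub_sub_comm, hv, hv, smul_sub, smul_sub])).1 h
    obtain ⟨b, c, hbc⟩ : IsCoprime (s * s') ((l : ℤ) ^ E) :=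
      (hl'.coprime_iff_not_dvd.2 fun h => (hl'.dvd_or_dvd h).elim hs hs').symm.pow_right
    refine mem_S1.2 ⟨b • β, c • (μ' - μ), b • ν, ?_⟩
    rw [add_right_comm, smul_vecMul, mulVec_smul, ← smul_sub, ← smul_add, show Cm (X.conj hy hN) = Cm X from rfl, ← e,
      smul_smul, smul_smul, smul_smul, ← add_smul,
      mul_assoc, mul_comm _ c, hbc, one_smul]
  have k2 : H.relIndex (GF F G) ≤ H.relIndex (GF F ((X.conj hy hN).cen {u})) := Gp.relIndex_le_of_cover hL fun g hg => by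
    obtain ⟨t, ht, h⟩ := c1 g⁻¹ (inv_mem hg)
    refine ⟨t⁻¹, inv_mem ⟨Datum.T_le_cen _ _ ht.1, ht.2.1⟩, ?_⟩
    simpa using inv_mem h
  exact card_le_of (k1.trans k2) fun g hg => ⟨hc (hK hg.2.1), hg.1, (hD hg.2).2⟩

end Cfsg.Agent.N2.Ex.Mu.CNa
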