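import Cfsg.Agent.N2.Ex.Mu.Defs
import Cfsg.Agent.N2.Ex.Mu.CNa
import Cfsg.Agent.N2.Ex.Cb.Ref
import Cfsg.Agent.BZ.L.TA.Dat

/-!
# N2 / Mu : the centraliser in the simple group (helper37)

`CN.cn_le` for an `MData` with a perfect group, `boxCN : BoxCN`.
-/

set_option autoImplicit false
set_option linter.unusedSectionVars false

namespace Cfsg.Agent.N2.Ex.Mu

open CoxeterSystem Cfsg Cfsg.Lie Cfsg.Lie.ChevalleyDatum Matrix
open Cfsg.Agent.ChevalleyStructure Cfsg.Agent.ChevalleyStructure.CoxeterGeom Cfsg.Agent.Tits.Roots Cfsg.Agent.Nodes Cfsg.Agent.Nodes.BNOf Cfsg.Agent.Nodes.RGDChev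
open Cfsg.Agent.KFacts.RgdChevCoord Cfsg.Agent.BpExc.Fr Cfsg.Agent.BpExc.LangFr
open Cfsg.Agent.H469.Exc Cfsg.Agent.H316.U6 Cfsg.Agent.H129.TorusChar Cfsg.Agent.DS.Ex Cfsg.Agent.DS.Nt
open Cfsg.Agent.SB.Exc (XF dM)
open Cfsg.Agent.ChevalleyStructure.CoxeterGeomTypes
open scoped commutatorElement

namespace CN

theorem inv_of {l : ℕ} {A : Fin l → Fin l → ℤ} {n : ℤ} (B : Fin l → Fin l → ℤ)
    (h : ∀ i j, ∑ k, B i k * A k j = if i = j then n else 0) (μ : Fin l → ℤ) : ∃ β, β ᵥ* Matrix.of A = n • μ := by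
  have e : Matrix.of B * Matrix.of A = n • 1 := Matrix.ext fun i j => (h i j).trans (by
    rw [Matrix.smul_apply, Matrix.one_apply, smul_eq_mul, mul_ite, mul_one, mul_zero])
  exact ⟨μ ᵥ* Matrix.of B, by rw [vecMul_vecMul, e, vecMul_smul, vecMul_one]⟩

theorem inv6 (μ : Fin 6 → ℤ) : ∃ β, β ᵥ* Matrix.of (cartanOf chevE6 6) = (3 : ℤ) • μ :=
  inv_of ![![4, 3, 5, 6, 4, 2], ![3, 6, 6, 9, 6, 3], ![5, 6, 10, 12, 8, 4], ![6, 9, 12, 18, 12, 6], ![4, 6, 8, 12, 10, 5], ![2, 3, 4, 6, 5, 4]] (by decide +kernel) μ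

theorem inv7 (μ : Fin 7 → ℤ) : ∃ β, β ᵥ* Matrix.of (cartanOf chevE7 7) = (2 : ℤ) • μ :=
  inv_of ![![4, 4, 6, 8, 6, 4, 2], ![4, 7, 8, 12, 9, 6, 3], ![6, 8, 12, 16, 12, 8, 4], ![8, 12, 16, 24, 18, 12, 6], ![6, 9, 12, 18, 15, 10, 5], ![4, 6, 8, 12, 10, 8, 4], ![2, 3, 4, 6, 5, 4, 3]] (by decide +kernel) μ

variable {D : ChevalleyDatum} {l : ℕ} {M : CoxeterMatrix (Fin l)} {hp : IsType D l M} {p : ℕ} [Fact p.Prime]

theorem inv_typ (hp : IsType D l M) (hD : Typ D) (h : dM l ≠ 1) :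
    (dM l).Prime ∧ ∀ μ, ∃ β, β ᵥ* Matrix.of (cartanOf D l) = ((dM l : ℕ) : ℤ) ^ 1 • μ := by
  have hl := typ_l hp
  rcases hD with rfl | rfl | rfl | rfl
  · obtain rfl := hl.1 rfl
    exact absurd rfl h
  · obtain rfl := hl.2.1 rfl
    exact ⟨Nat.prime_three, inv6⟩
  · obtain rfl := hl.2.2.1 rfl
    exact ⟨Nat.prime_two, inv7⟩
  · obtain rfl := hl.2.2.2 rfl
    exact absurd rfl h

/-- **the centraliser in a perfect group** -/
theorem cn_le (hD : Typ D) {q : ℕ} {K : Type} [Group K] (m : MData hp p q K) (hK : commutator K = ⊤) {a : K}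
    (ha : (orderOf a).Coprime p) {k : ℕ} (hk : dd p (m.ι a) ≤ l + k) : cn a ≤ q ^ k * (q + 1) ^ l := by
  by_cases h0 : (dM l).Coprime (orderOf a)
  · exact Cb.cn_le_conn (Cb.cz_typ hp hD) m ha h0 hk
  obtain ⟨h1, h2⟩ := inv_typ hp hD fun e => h0 (e ▸ Nat.coprime_one_left _)
  have h3 : ¬ p ∣ orderOf a := (Nat.Prime.coprime_iff_not_dvd Fact.out).1 ha.symm
  have h4 : dM l ≠ p := fun e => h0 (e ▸ ha.symm)
  let X := DL.Ex.chevFr hp (locFin p) m.he m.frob m.fr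
  have hG : ∀ b, m.ι b ∈ DL.GF m.σ ⊤ := fun b => ⟨Subgroup.mem_top _, m.fix b⟩
  obtain ⟨y, hy, hN, hu⟩ := TO.E6.exists_frame X (hG a) (by rwa [orderOf_injective m.ι m.inj])
  have hC : BZ.TA.Cm X = Matrix.of (cartanOf D l) := Matrix.ext fun i j => BZ.TA.DatA.Cm_apply X i j
  have h5 := CNa.card_le X ⟨0, fun i => Pi.single i 1, fun b i => by
    rw [pow_zero, one_mul]
    exact (dotProduct_single b 1 i).trans (mul_one _)⟩ h1 h4 (hC ▸ h2) (K := m.ι.range) (by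
      rw [MonoidHom.range_eq_map, ← hK, commutator_def, Subgroup.map_commutator]
      exact Subgroup.commutator_mono (Subgroup.map_le_iff_le_comap.2 fun b _ => hG b) (Subgroup.map_le_iff_le_comap.2 fun b _ => hG b))
    hy hN hu (m.fix a) h3 (by rw [← map_pow, pow_orderOf_eq_one, map_one])
  have hZ := Set.singleton_subset_iff.2 hu
  have h6 := SB.Exc.CI.card_cen_dat (SB.Exc.CI.fq m.he m.frob) (X.conj hy hN) hZ
    fun b => (X.conj hy hN).g_mem_Sz hZ fun z hz => by rw [hz, m.fix]; rfl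
  have h7 : y⁻¹ * m.ι a * y ∈ TT D (KK p) := Nodes.Reps.mem_cj.1 hu
  have h8 : (X.conj hy hN).Sz {m.ι a} = Ps hp p {y⁻¹ * m.ι a * y} := by
    rw [← Cb.Sz_eq m.he m.frob m.fr (Set.singleton_subset_iff.2 h7)]
    ext b
    refine and_congr_right fun _ => ?_
    simp only [Set.mem_singleton_iff, forall_eq]
    rw [← X.conj_χ hy hN b h7, show y * (y⁻¹ * m.ι a * y) * y⁻¹ = m.ι a by group]
  have h9 := SB.Exc.CI.ncard_Ps (hp := hp) h7
  have h10 := dd_conj (p := p) y⁻¹ (m.ι a)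
  rw [inv_inv] at h10
  rw [h8, show Fintype.card (X.conj hy hN).R = l from Fintype.card_fin l, m.hq] at h6
  have : Finite ↥(m.ι.range ⊓ Subgroup.centralizer {m.ι a}) := by
    have := X.amb.finite_GF ⊤
    exact Finite.of_injective _ (Subgroup.inclusion_injective (show m.ι.range ⊓ Subgroup.centralizer {m.ι a} ≤ DL.GF m.σ ⊤ from
      fun _ ⟨⟨b, e⟩, _⟩ => e ▸ hG b))
  have h11 : cn a ≤ Nat.card ↥(m.ι.range ⊓ Subgroup.centralizer {m.ι a}) := by
    refine Nat.card_le_card_of_injective (fun z => ⟨m.ι z.1, ⟨_, rfl⟩, Subgroup.mem_centralizer_singleton_iff.2 ?_⟩) ?_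
    · rw [← map_mul, ← map_mul, Subgroup.mem_centralizer_singleton_iff.1 z.2]
    · exact fun z z' h => Subtype.ext (m.inj (congrArg Subtype.val h))
  have hq : 0 < q := m.hq ▸ pow_pos (Fact.out : p.Prime).pos _
  exact h11.trans (h5.trans (h6.trans (Nat.mul_le_mul_right _ (Nat.pow_le_pow_right hq
    (Nat.le_of_add_le_add_left (h9.trans_le (h10.trans_le hk)))))))

end CN

/-- **[CN]** -/
theorem boxCN : BoxCN := fun _ _ _ _ _ _ _ _ _ _ _ T _ F h a k ha hk => by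
  have := h.cx.setup.simple
  refine CN.cn_le h.typ F.m ?_ ha (F.hι ▸ hk)
  refine (IsSimpleGroup.eq_bot_or_eq_top_of_normal (commutator T) inferInstance).resolve_left fun e => h.cx.setup.noncomm ⟨⟨fun x y => ?_⟩⟩
  have h1 : ⁅x, y⁆ ∈ commutator T := Subgroup.commutator_mem_commutator (Subgroup.mem_top x) (Subgroup.mem_top y)
  rwa [e, Subgroup.mem_bot, commutatorElement_eq_one_iff_mul_comm] at h1

end Cfsg.Agent.N2.Ex.Mu
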