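import Cfsg.Agent.N2.Ex.Mu.Defs

/-!
# N2 (S3519), several components: the box `CT` for the simply laced types (helper55)
-/

set_option autoImplicit false

namespace Cfsg.Agent.N2.Ex.Mu

open Cfsg Cfsg.Lie Cfsg.Agent.KFacts.RgdChevCoord Cfsg.Agent.H469.Exc Cfsg.Agent.DS.Ex Cfsg.Agent.DS.Nt
open Subgroup (centralizer)

/-- **[CT]** for `E₆`, `E₇`, `E₈` -/
def BoxCT' : Prop := OnY fun D l _ hp p _ => l ≠ 4 → ∀ s : YY D p, s ∈ TT D (KK p) → IsOfFinOrder s →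
  (∀ c ∈ centralizer ({s} : Set (YY D p)), ∀ y ∈ LL hp p s, c * y * c⁻¹ ∈ LL hp p s) ∧
  (∀ t ∈ TT D (KK p), Th hp p s ⊆ Ps hp p {t} ↔ t ∈ centralizer (LL hp p s : Set (YY D p))) ∧
  ∀ (J : Subgroup (YY D p)) (t : YY D p), Sp J → J ≤ centralizer ({s} : Set (YY D p)) → t ∈ J → t ∈ TT D (KK p) → t ≠ 1 →
    Th hp p s ⊆ Ps hp p {t} → J ≤ centralizer (LL hp p s : Set (YY D p))

end Cfsg.Agent.N2.Ex.Mu
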