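import Cfsg.Agent.N2.Ex.Al.Cls
import Cfsg.Agent.N2.Ex.Cb.Shp

/-!
# N2, multiplicities: lattice tools (helper40)

* `pk`, `dg`, `eng` : enumeration of all functionals modulo `N` which kill a list of vectors;
* `cp_aut` : automorphisms of the root system preserve the Cartan integers;
* `pow_ncard`, `ord_le` : the order of the multiplier of a functional;
* `dvd_of_smul` : the roots killed by a functional modulo a large prime are closed in their rational span.
-/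

set_option autoImplicit false
set_option linter.unusedSectionVars false

namespace Cfsg.Agent.N2.Ex.Mu.Lt

open CoxeterSystem Cfsg Cfsg.Lie Cfsg.Lie.ChevalleyDatum
open Cfsg.Agent.ChevalleyStructure Cfsg.Agent.ChevalleyStructure.CoxeterGeom Cfsg.Agent.ChevalleyStructure.CoxeterGeomTypes
  Cfsg.Agent.Tits.Roots Cfsg.Agent.Nodes Cfsg.Agent.Nodes.RGDChev Cfsg.Agent.Nodes.Coroot
open Cfsg.Agent.DS.Ex Cfsg.Agent.DS.Nt Cfsg.Agent.H931.KC
open Cfsg.Agent.DS.Ex.Tor (RT)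
open Cfsg.Agent.N2.Ex.Al Cfsg.Agent.N2.Ex.Al.Ck

/-- packing -/
noncomputable def pk (g : ℕ → ℕ) (n : ℕ) : ℕ :=
  Nat.rec (motive := fun _ => ℕ) 0 (fun k ih => Nat.add ih (Nat.shiftLeft (g k) (Nat.mul 16 k))) n

/-- the digits -/
def dg (V a : ℕ) : ℕ := Nat.mod (Nat.shiftRight V (Nat.mul 16 a)) 65536

theorem pk_succ (g : ℕ → ℕ) (n : ℕ) : pk g (n + 1) = pk g n + g n * 2 ^ (16 * n) := by
  show pk g n + g n <<< (16 * n) = _
  rw [Nat.shiftLeft_eq]

theorem dg_eq (V a : ℕ) : dg V a = V / 2 ^ (16 * a) % 65536 := by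
  show V >>> (16 * a) % 65536 = _
  rw [Nat.shiftRight_eq_div_pow]

theorem pk_lt {g : ℕ → ℕ} {n : ℕ} (h : ∀ k < n, g k < 65536) : pk g n < 2 ^ (16 * n) := by
  induction n with
  | zero => exact Nat.one_pos
  | succ n ih =>
    have h1 := ih fun k hk => h k (Nat.lt_succ_of_lt hk)
    have h2 := Nat.mul_le_mul_right (2 ^ (16 * n)) (Nat.le_of_lt_succ (h n (Nat.lt_succ_self n)))
    rw [pk_succ, Nat.mul_succ, pow_add]
    omega

theorem dg_pk {g : ℕ → ℕ} {n : ℕ} (h : ∀ k < n, g k < 65536) {a : ℕ} (ha : a < n) : dg (pk g n) a = g a := by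
  induction n with
  | zero => omega
  | succ n ih =>
    have h1 : ∀ k < n, g k < 65536 := fun k hk => h k (Nat.lt_succ_of_lt hk)
    rcases (Nat.lt_succ_iff.1 ha).lt_or_eq with h2 | rfl
    · obtain ⟨k, rfl⟩ := Nat.exists_eq_add_of_lt h2
      rw [dg_eq, pk_succ, show g (a + k + 1) * 2 ^ (16 * (a + k + 1)) =
        2 ^ (16 * a) * (65536 * (g (a + k + 1) * 2 ^ (16 * k))) by ring, Nat.add_mul_div_left _ _ (by positivity),
        Nat.add_mul_mod_self_left, ← dg_eq, ih h1 h2]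
    · rw [dg_eq, pk_succ, Nat.add_mul_div_right _ _ (by positivity), Nat.div_eq_of_lt (pk_lt h1), zero_add,
        Nat.mod_eq_of_lt (h a ha)]

theorem pk_sum (f : ℕ → ℕ) (g : ℕ → ℕ → ℕ) (k n : ℕ) :
    ∑ i ∈ Finset.range k, f i * pk (g i) n = pk (fun a => ∑ i ∈ Finset.range k, f i * g i a) n := by
  induction n with
  | zero => exact Finset.sum_eq_zero fun i _ => mul_zero _
  | succ n ih => simp only [pk_succ, mul_add, Finset.sum_add_distrib, ih, Finset.sum_mul, mul_assoc]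

/-- all digit strings of length `k` -/
noncomputable def en (N : ℕ) (G H : ℕ → ℕ) (leaf : ℕ → ℕ → Bool) (k : ℕ) : ℕ → ℕ → Bool :=
  Nat.rec (motive := fun _ => ℕ → ℕ → Bool) leaf
    (fun i ih V W => aL (fun c => ih (Nat.add V (Nat.mul c (G i))) (Nat.add W (Nat.mul c (H i)))) N) k

theorem en_spec {N : ℕ} {G H : ℕ → ℕ} {leaf : ℕ → ℕ → Bool} {f : ℕ → ℕ} (hf : ∀ i, f i < N) (k V W : ℕ)
    (h : en N G H leaf k V W = true) :
    leaf (V + ∑ i ∈ Finset.range k, f i * G i) (W + ∑ i ∈ Finset.range k, f i * H i) = true := by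
  induction k generalizing V W with
  | zero => exact h
  | succ k ih =>
    have h1 := ih _ _ (aL_iff.1 h (f k) (hf k))
    rw [Finset.sum_range_succ, Finset.sum_range_succ, add_comm _ (f k * G k), add_comm _ (f k * H k), ← add_assoc, ← add_assoc]
    exact h1

/-- the digit vanishes modulo `N` -/
def zr (N V a : ℕ) : Bool := Nat.beq (Nat.mod (dg V a) N) 0

/-- a vector -/
def vz (l : ℕ) (z : List ℤ) : LL l := fun i => z.getD i 0

/-- the enumeration of the functionals modulo `N` which kill `Z` -/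
noncomputable def eng (T : Tb) (l N : ℕ) (Z : List (List ℤ)) (ck : ℕ → Bool) : Bool :=
  en N (fun i => pk (fun a => Nat.add (T.u a i) (Nat.mul 8 (Nat.pred N))) T.n)
    (fun i => pk (fun k => (((Z.getD k []).getD i 0) % (N : ℤ)).toNat) Z.length)
    (fun V W => or (not (aL (zr N W) Z.length)) (ck V)) l 0 0

theorem zr_pk {l N : ℕ} (hl : l ≤ 8) (h0 : 0 < N) (hN : N ≤ 3) (χ : LL l →+ ℤ) {f : ℕ → ℕ} (hf : ∀ i, f i < N)
    (hf' : ∀ i : Fin l, (f i : ℤ) ≡ χ (sr i) [ZMOD N]) {g : ℕ → ℕ → ℕ} (hg : ∀ i a, g i a < 32) {n a : ℕ} (ha : a < n)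
    {x : LL l} (hx : ∀ i : Fin l, (g i a : ℤ) ≡ x i [ZMOD N]) :
    zr N (0 + ∑ i ∈ Finset.range l, f i * pk (g i) n) a = true ↔ (N : ℤ) ∣ χ x := by
  have h1 : ∀ k < n, ∑ i ∈ Finset.range l, f i * g i k < 65536 := fun k _ => by
    have := Finset.sum_le_card_nsmul (Finset.range l) (fun i => f i * g i k) (3 * 32) fun i _ =>
      Nat.mul_le_mul ((hf i).le.trans hN) (hg i k).le
    rw [Finset.card_range, smul_eq_mul] at this
    omega
  rw [zero_add, pk_sum, zr, dg_pk h1 ha, Nat.beq_eq]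
  show _ % N = 0 ↔ _
  rw [← Nat.dvd_iff_mod_eq_zero, ← Int.natCast_dvd_natCast, eq_psi, Finset.sum_range]
  refine Int.ModEq.dvd_iff (Int.modEq_iff_dvd.2 ?_)
  push_cast
  rw [← Finset.sum_sub_distrib]
  exact Finset.dvd_sum fun i _ => by rw [mul_comm (x i)]; exact ((hf' i).mul (hx i)).dvd

theorem eng_spec {T : Tb} {l N : ℕ} (hl : l ≤ 8) (h0 : 0 < N) (hN : N ≤ 3) {Z : List (List ℤ)} {ck : ℕ → Bool}
    (h : eng T l N Z ck = true) (χ : LL l →+ ℤ) (hZ : ∀ z ∈ Z, (N : ℤ) ∣ χ (vz l z)) :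
    ∃ V, ck V = true ∧ ∀ a < T.n, zr N V a = true ↔ (N : ℤ) ∣ χ (T.vec l a) := by
  have k0 : (0 : ℤ) < N := by exact_mod_cast h0
  have k1 : ∀ y : ℤ, (y % N).toNat < N ∧ (((y % N).toNat : ℕ) : ℤ) ≡ y [ZMOD N] := fun y => by
    have a1 := Int.emod_nonneg y k0.ne'
    have a2 := Int.emod_lt_of_pos y k0
    exact ⟨by omega, by rw [Int.toNat_of_nonneg a1]; exact Int.mod_modEq _ _⟩
  let f : ℕ → ℕ := fun i => if h : i < l then (χ (sr ⟨i, h⟩) % N).toNat else 0
  have hf : ∀ i, f i < N := fun i => by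
    simp only [f]
    split_ifs
    exacts [(k1 _).1, h0]
  have hf' : ∀ i : Fin l, (f i : ℤ) ≡ χ (sr i) [ZMOD N] := fun i => by
    simp only [f, dif_pos i.2]
    exact (k1 _).2
  have h1 := en_spec hf l 0 0 h
  rw [Bool.or_eq_true, Bool.not_eq_true', ← Bool.not_eq_true, aL_iff] at h1
  refine ⟨_, h1.resolve_left (not_not.2 fun k hk => ?_), fun a ha => ?_⟩
  · refine (zr_pk hl h0 hN χ hf hf' (fun i a => (k1 _).1.trans_le (by omega)) hk (x := vz l (Z.getD k []))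
      fun i => (k1 _).2).2 (hZ _ ?_)
    rw [List.getD_eq_getElem _ _ hk]
    exact List.getElem_mem hk
  · refine zr_pk hl h0 hN χ hf hf' (fun i a => ?_) ha fun i => ?_
    · have : T.u a i < 16 := Nat.mod_lt _ (by norm_num)
      show T.u a i + 8 * (N - 1) < 32
      omega
    · obtain ⟨N, rfl⟩ := Nat.exists_eq_succ_of_ne_zero h0.ne'
      show ((T.u a i + 8 * N : ℕ) : ℤ) ≡ (T.u a i : ℤ) - 8 [ZMOD (N + 1 : ℕ)]
      exact Int.modEq_iff_dvd.2 ⟨-8, by push_cast; ring⟩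

/-- the list of the numbers below `n` with `p` -/
noncomputable def fl (p : ℕ → Bool) (n : ℕ) : List ℕ :=
  Nat.rec (motive := fun _ => List ℕ) [] (fun k ih => cond (p k) (k :: ih) ih) n

/-- counting in a list -/
noncomputable def lC (f : ℕ → Bool) (L : List ℕ) : ℕ :=
  List.rec (motive := fun _ => ℕ) 0 (fun a _ ih => cond (f a) (Nat.succ ih) ih) L

theorem lC_fl (f p : ℕ → Bool) (n : ℕ) : lC f (fl p n) = cL (fun a => p a && f a) n := by
  induction n with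
  | zero => rfl
  | succ n ih =>
    show lC f (cond (p n) (n :: fl p n) (fl p n)) = cond (p n && f n) (Nat.succ (cL _ n)) (cL _ n)
    rw [← ih]
    cases p n
    · rfl
    · rfl

theorem mem_fl {p : ℕ → Bool} {n a : ℕ} : a ∈ fl p n ↔ a < n ∧ p a = true := by
  induction n with
  | zero => exact ⟨fun h => absurd h List.not_mem_nil, fun h => absurd h.1 (Nat.not_lt_zero _)⟩
  | succ n ih =>
    show a ∈ cond (p n) (n :: fl p n) (fl p n) ↔ _
    rw [Nat.lt_succ_iff_lt_or_eq]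
    cases h : p n
    · rw [cond_false, ih]
      exact ⟨fun k => ⟨Or.inl k.1, k.2⟩, fun k => ⟨k.1.resolve_right fun e => by simp [e, h] at k, k.2⟩⟩
    · rw [cond_true, List.mem_cons, ih]
      exact ⟨fun k => k.elim (fun e => ⟨Or.inr e, e ▸ h⟩) fun k => ⟨Or.inl k.1, k.2⟩,
        fun k => k.1.elim (fun e => Or.inr ⟨e, k.2⟩) Or.inl⟩

variable {D : ChevalleyDatum} {l : ℕ} {M : CoxeterMatrix (Fin l)} {hp : IsType D l M} {T : Tb}

theorem cp_sub (x y : LL l) {a : LL l} (ha : RT hp a) : cp hp (x - y) a = cp hp x a - cp hp y a := by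
  rw [sub_eq_add_neg, cp_add hp _ _ ha, cp_neg hp _ ha, sub_eq_add_neg]

/-- **automorphisms of the root system preserve the Cartan integers** -/
theorem cp_aut (G : Gs hp T) {u : LL l ≃+ LL l} (hu : ∀ b, RT hp (u b) ↔ RT hp b) {a b : LL l} (ha : RT hp a)
    (hb : RT hp b) : cp hp (u a) (u b) = cp hp a b := by
  have hc := (hu b).2 hb
  have k : ∀ n : ℕ, RT hp (u a + (n * (cp hp a b - cp hp (u a) (u b))) • u b) := fun n => by
    induction n with
    | zero => simpa using (hu a).2 ha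
    | succ n ih =>
      rw [← map_zsmul, ← map_add, hu] at ih
      have h1 := rt_ac hp (rw' hp (u b)) ((hu _).2 (rt_ac hp (rw' hp b) ih))
      rw [ac_rw hp hc, ac_rw hp hb, map_sub, map_add, map_zsmul, map_zsmul, cp_sub _ _ hc, cp_add hp _ _ hc,
        cp_add hp _ _ hb, cp_smul hp _ _ hc, cp_smul hp _ _ hc, cp_smul hp _ _ hb, cp_self hp hc, cp_self hp hb] at h1
      convert h1 using 1
      push_cast
      module
  have h1 := G.cp_le (k 3) hc
  have h2 := G.cp_le (k 3).neg hc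
  have h3 := G.cp_le ((hu a).2 ha) hc
  have h4 := G.cp_le ((hu a).2 ha).neg hc
  rw [cp_neg hp _ hc] at h2 h4
  rw [cp_add hp _ _ hc, cp_smul hp _ _ hc, cp_self hp hc] at h1 h2
  push_cast at h1 h2
  omega

theorem ok_aut (G : Gs hp T) {u : LL l ≃+ LL l} (hu : ∀ b, RT hp (u b) ↔ RT hp b) : Ok hp True u :=
  ⟨⟨fun a ha => (hu a).2 ha, u.injective.injOn, fun a ha => ⟨u.symm a, (hu _).1 (by rwa [u.apply_symm_apply]),
    u.apply_symm_apply a⟩⟩, fun a _ => map_neg u a, fun a b ha hb => by rw [cp_aut G hu ha hb], Or.inl trivial⟩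

section Ord

variable {K : Type} [Field K] {β : LL l → K} {k : K} {u : LL l ≃+ LL l} {X : Set (LL l)}

/-- **the product trick** -/
theorem pow_ncard (hX : X.Finite) (hu : Set.MapsTo u X X) (h0 : ∀ x ∈ X, β x ≠ 0) (hk : ∀ x, β (u x) = k * β x) :
    orderOf k ∣ X.ncard := by
  have hb := (hX.injOn_iff_bijOn_of_mapsTo hu).1 u.injective.injOn
  have h1 : ∏ x ∈ hX.toFinset, β (u x) = ∏ x ∈ hX.toFinset, β x :=
    Finset.prod_nbij u (fun a ha => hX.mem_toFinset.2 (hu (hX.mem_toFinset.1 ha))) u.injective.injOn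
      (by rw [hX.coe_toFinset]; exact hb.surjOn) fun _ _ => rfl
  simp only [hk, Finset.prod_mul_distrib, Finset.prod_const] at h1
  rw [Set.ncard_eq_toFinset_card X hX]
  exact orderOf_dvd_of_pow_eq_one
    ((mul_eq_right₀ (Finset.prod_ne_zero_iff.2 fun x hx => h0 x (hX.mem_toFinset.1 hx))).1 h1)

/-- the order is at most the number of values -/
theorem ord_le (hu : Set.MapsTo u X X) {x : LL l} (hx : x ∈ X) (h0 : β x ≠ 0) (hk : ∀ x, β (u x) = k * β x)
    {L : List K} (hL : ∀ y ∈ X, β y ∈ L) : orderOf k ≤ L.length := by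
  classical
  have h1 : ∀ i : ℕ, ∃ y ∈ X, β y = k ^ i * β x := fun i => by
    induction i with
    | zero => exact ⟨x, hx, by rw [pow_zero, one_mul]⟩
    | succ i ih =>
      obtain ⟨y, hy, e⟩ := ih
      exact ⟨u y, hu hy, by rw [hk, e, pow_succ', mul_assoc]⟩
  rw [← Finset.card_range (orderOf k)]
  refine (Finset.card_le_card_of_injOn (t := L.toFinset) (fun i => k ^ i * β x) (fun i _ => ?_)
    fun i hi j hj e => ?_).trans (List.toFinset_card_le L)
  · obtain ⟨y, hy, e⟩ := h1 i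
    exact List.mem_toFinset.2 (show k ^ i * β x ∈ L from e ▸ hL y hy)
  · exact pow_injOn_Iio_orderOf (Finset.mem_range.1 hi) (Finset.mem_range.1 hj) (mul_right_cancel₀ h0 e)

end Ord

theorem kl_sy (r : ℕ) (F : LL l →+ ℤ) : Sy hp (Kl hp r F) :=
  ⟨fun _ h => h.1, fun a h => ⟨h.1.neg, by rw [map_neg]; exact h.2.neg_right⟩⟩

theorem kl_rc (r : ℕ) (F : LL l →+ ℤ) : Rc hp (Kl hp r F) := fun a ha b hb =>
  ⟨ac_rw hp ha.1 b ▸ rt_ac hp _ hb.1, by rw [map_sub, map_zsmul]; exact hb.2.sub (ha.2.mul_left _)⟩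

theorem kl_image (r : ℕ) (F : LL l →+ ℤ) (v : M.Group) :
    ac hp v '' Kl hp r F = Kl hp r (F.comp (ac hp v⁻¹).toAddMonoidHom) := by
  ext a
  constructor
  · rintro ⟨b, hb, rfl⟩
    exact ⟨rt_ac hp v hb.1, by show _ ∣ F (ac hp v⁻¹ _); rw [ac_inv]; exact hb.2⟩
  · exact fun h => ⟨_, ⟨rt_ac hp v⁻¹ h.1, h.2⟩, ac_inv' hp v a⟩

/-- **rational closure** -/
theorem dvd_of_smul {r : ℕ} (hr' : r.Prime) (h : ∀ i, hr D l i < r) (F : LL l →+ ℤ) {x : LL l} {m : ℤ} (hm : m ≠ 0)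
    (hx : m • x ∈ AddSubgroup.closure (Kl hp r F)) : (r : ℤ) ∣ F x := by
  obtain ⟨w, c, c0, K, hw⟩ := exists_alcove hp hr'.pos F
  have k1 : ∀ y, (r : ℤ) ∣ bb c (ac hp w⁻¹ y) ↔ (r : ℤ) ∣ F y := fun y => by
    have h1 : (r : ℤ) ∣ bb c (ac hp w⁻¹ y) - F (ac hp w (ac hp w⁻¹ y)) := hw _
    rw [ac_inv'] at h1
    exact dvd_iff_dvd_of_dvd_sub h1
  obtain ⟨j, hj⟩ := (AddSubgroup.closure_le ((Cb.EE c (Cb.hz D l (decide (c0 = 0)))).comap (ac hp w⁻¹).toAddMonoidHom)).2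
    (fun a ha => Cb.mem_of_dvd hp K (rt_ac hp w⁻¹ ha.1) ((k1 a).2 ha.2)) hx
  rw [AddEquiv.coe_toAddMonoidHom, map_zsmul] at hj
  have k2 := Cb.bb_congr (y := j • Cb.hz D l (decide (c0 = 0))) hj
  rw [map_zsmul, map_zsmul, smul_eq_mul, smul_eq_mul] at k2
  rw [← k1]
  by_cases h0 : c0 = 0
  · obtain ⟨i, hi⟩ := K.ne h0
    have k3 := hj i hi
    rw [decide_eq_true h0, Cb.hz, cond_true] at k2 k3
    rw [bb_hr K, h0, Nat.cast_zero, sub_zero] at k2
    rw [Pi.smul_apply, smul_eq_mul] at k3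
    have k4 : hr D l i * bb c (ac hp w⁻¹ x) = r * ac hp w⁻¹ x i :=
      mul_left_cancel₀ hm (by linear_combination hr D l i * k2 - r * k3)
    exact ((Nat.prime_iff_prime_int.1 hr').dvd_or_dvd (Dvd.intro _ k4.symm)).resolve_left fun k5 =>
      absurd (Int.le_of_dvd (hr_pos hp i) k5) (not_le.2 (h i))
  · rw [decide_eq_false h0, Cb.hz, cond_false, map_zero, mul_zero] at k2
    rw [(mul_eq_zero.1 k2).resolve_left hm]
    exact dvd_zero _

end Cfsg.Agent.N2.Ex.Mu.Lt
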