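import Cfsg.Agent.N2.Ex.Mu.LatA

/-!
# N2, multiplicities: the check of a row (helper40)

`Si` : the situation on the lattice; `Cn` : the conclusion; `rowT` : the check; `cn_of` : the theorem.
-/

set_option autoImplicit false
set_option linter.unusedSectionVars false

namespace Cfsg.Agent.N2.Ex.Mu.Lt

open CoxeterSystem Cfsg Cfsg.Lie Cfsg.Lie.ChevalleyDatum
open Cfsg.Agent.ChevalleyStructure Cfsg.Agent.ChevalleyStructure.CoxeterGeom Cfsg.Agent.ChevalleyStructure.CoxeterGeomTypes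
  Cfsg.Agent.Tits.Roots Cfsg.Agent.Nodes Cfsg.Agent.Nodes.RGDChev Cfsg.Agent.Nodes.Coroot
open Cfsg.Agent.DS.Ex Cfsg.Agent.DS.Nt Cfsg.Agent.H931.KC
open Cfsg.Agent.DS.Ex.Tor (RT)
open Cfsg.Agent.N2.Ex.Al Cfsg.Agent.N2.Ex.Al.Ck

/-- the certificate of a row -/
structure Rt where
  kN : ℕ
  kβ : ℕ
  kc : List ℤ
  xc : List ℕ
  xb : List (ℕ × List ℕ)
  Z : List (List ℤ)
  mx : ℕ
  ex : Bool

section Chk

variable (T : Tb) (l : ℕ)

/-- a multiple of a root outside lies in the span -/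
noncomputable def kl (R : Rw) (x : Rt) : Bool :=
  Nat.beq x.kN 0 || (Nat.blt x.kβ T.n && !R.m.testBit x.kβ &&
    decide ((x.kN : ℤ) • T.vec l x.kβ = ((x.kc.zip R.Δ).map fun z => z.1 • T.vec l z.2).sum))

/-- an invariant set of roots outside -/
noncomputable def xm (m c b : ℕ) : Bool := !m.testBit b && Nat.beq (T.cnt m b) c

/-- representatives of the orbits on an invariant set -/
noncomputable def xr (m : ℕ) (e : ℕ × List ℕ) : Bool :=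
  eL (xm T m e.1) T.n && aL (fun b => !xm T m e.1 b || lE (fun a => Nat.beq a b) e.2 ||
    lE (fun d => Nat.blt (T.f d b) b && xm T m e.1 (T.f d b)) (fl m.testBit T.n)) T.n

/-- the admissible orders -/
noncomputable def adm (tp : List (ℕ × ℕ)) (m : ℕ) (x : Rt) (h : ℕ) : Bool :=
  Nat.beq (h % 2) 0 && lE (fun f => Nat.beq (f.1 % h) 0 && Nat.beq f.2 (cL m.testBit T.n)) tp &&
    lA (fun c => Nat.beq (cL (xm T m c) T.n % h) 0) x.xc && lA (fun e => Nat.ble h e.2.length) x.xb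

/-- the enumeration -/
noncomputable def eno (N : ℕ) (nr : ℕ → ℕ → Bool) (R : Rw) (x : Rt) : Bool :=
  Nat.ble (cL R.m.testBit T.n) x.mx ||
    (lA (fun z => lA (fun d => decide (∑ i : Fin l, vz l z i * ((T.c i d : ℤ) - 2) = 0)) R.Δ) x.Z &&
      eng T l N x.Z fun V => or (Nat.blt (lC (zr N V) (fl R.m.testBit T.n)) x.mx)
        (or (Nat.beq (lC (zr N V) (fl R.m.testBit T.n)) (cL R.m.testBit T.n)) (and x.ex (nr R.m V))))

/-- the bounds -/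
noncomputable def gd (B : ℕ × ℕ × ℕ × ℕ) (et m : ℕ) (x : Rt) (h : ℕ) : Bool :=
  (!Nat.beq (h % 4) 0 || (!x.ex && Nat.ble x.mx B.1)) && (!Nat.beq (h % 6) 0 || (!x.ex && Nat.ble x.mx B.2.1)) &&
    (Nat.beq (4 % h) 0 || Nat.beq (6 % h) 0 || (!x.ex && Nat.ble x.mx B.2.2.1)) &&
    (Nat.ble x.mx B.2.2.2 || Nat.beq (cL m.testBit T.n) et)

/-- the check if the order divides `g` -/
noncomputable def rk (N : ℕ) (tp : List (ℕ × ℕ)) (B : ℕ × ℕ × ℕ × ℕ) (et : ℕ) (nr : ℕ → ℕ → Bool) (R : Rw) (x : Rt) (g : ℕ) :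
    Bool :=
  eno T l N nr R x && aL (fun h => !Nat.beq (g % h) 0 || !adm T tp R.m x h || gd T B et R.m x h) 31

/-- **the check of a row** -/
noncomputable def rowT (N : ℕ) (tp : List (ℕ × ℕ)) (B : ℕ × ℕ × ℕ × ℕ) (et : ℕ) (nr : ℕ → ℕ → Bool) (R : Rw) (x : Rt) : Bool :=
  kl T l R x && lA (xr T R.m) x.xb && cond (Nat.beq x.kN 0) (rk T l N tp B et nr R x 0)
    (aL (fun r => !Nat.beq (x.kN % r) 0 || Nat.beq (r % 2) 0 || Nat.beq r 1 || Nat.beq r N ||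
      rk T l N tp B et nr R x (r - 1)) (x.kN + 1))

end Chk

variable {D : ChevalleyDatum} {l : ℕ} {M : CoxeterMatrix (Fin l)} {hp : IsType D l M} {T : Tb}

variable (hp) in
/-- **the situation** -/
structure Si (r N h : ℕ) (tp : List (ℕ × ℕ)) (F G : LL l →+ ℤ) : Prop where
  odd : r ≠ 2
  ne : r ≠ N
  h1 : ∀ x, (∀ a ∈ Kl hp r F, cp hp x a = 0) → (N : ℤ) ∣ G x
  nz : ∃ a ∈ Kl hp r F, ¬ (N : ℤ) ∣ G a
  ev : 2 ∣ h
  dv : h ∣ r - 1
  au : ∃ (u : LL l ≃+ LL l) (k : ZMod r), (∀ b, RT hp (u b) ↔ RT hp b) ∧ k ≠ 0 ∧ orderOf k = h ∧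
    ∀ x, ((F (u x) : ℤ) : ZMod r) = k * (F x : ℤ)
  tp : ∃ f ∈ tp, h ∣ f.1 ∧ (Kl hp r F).ncard = f.2

/-- **the conclusion** -/
def Cn (h : ℕ) (B : ℕ × ℕ × ℕ × ℕ) (et : ℕ) (Ne : Set (LL l) → Set (LL l) → Prop) (A A' : Set (LL l)) : Prop :=
  (4 ∣ h → (A ∩ A').ncard < B.1) ∧ (6 ∣ h → (A ∩ A').ncard < B.2.1) ∧ (¬ h ∣ 4 → ¬ h ∣ 6 → (A ∩ A').ncard < B.2.2.1) ∧
    ((A ∩ A').ncard < B.2.2.2 ∨ A.ncard = et ∨ Ne A A')

theorem ncard_ac (v : M.Group) (A : Set (LL l)) : (ac hp v '' A).ncard = A.ncard :=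
  Set.ncard_image_of_injective _ (ac hp v).injective

theorem rt_ac_iff (v : M.Group) (a : LL l) : RT hp (ac hp v a) ↔ RT hp a :=
  ⟨fun h => ac_inv hp v a ▸ rt_ac hp v⁻¹ h, rt_ac hp v⟩

theorem Si.move {r N h : ℕ} {tp : List (ℕ × ℕ)} {F G : LL l →+ ℤ} (S : Si hp r N h tp F G) (v : M.Group) :
    Si hp r N h tp (F.comp (ac hp v⁻¹).toAddMonoidHom) (G.comp (ac hp v⁻¹).toAddMonoidHom) := by
  obtain ⟨a, a1, a2⟩ := S.nz
  obtain ⟨u, k, b1, b2, b3, b4⟩ := S.au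
  refine ⟨S.odd, S.ne, fun x hx => S.h1 (ac hp v⁻¹ x) fun a ha => ?_, ⟨ac hp v a, kl_image r F v ▸ ⟨a, a1, rfl⟩, ?_⟩, S.ev, S.dv,
    ⟨Ck.cj hp v u, k, fun b => by rw [cj_apply, rt_ac_iff, b1, rt_ac_iff], b2, b3, fun x => ?_⟩, ?_⟩
  · rw [← cp_ac hp v _ ha.1, ac_inv']
    exact hx _ (kl_image r F v ▸ ⟨a, ha, rfl⟩)
  · show ¬ _ ∣ G (ac hp v⁻¹ _)
    rwa [ac_inv]
  · show ((F (ac hp v⁻¹ (Ck.cj hp v u x)) : ℤ) : ZMod r) = _
    rw [cj_apply, ac_inv]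
    exact b4 _
  · rw [← kl_image, ncard_ac]
    exact S.tp

theorem cp_eq (x : LL l) {a : LL l} (ha : RT hp a) : cp hp x a = ∑ i, x i * cp hp (sr i) a :=
  eq_psi (AddMonoidHom.mk' (fun x => cp hp x a) fun x y => cp_add hp x y ha) x

theorem perp_sy (z : LL l) : Sy hp {a | RT hp a ∧ cp hp z a = 0} :=
  ⟨fun _ h => h.1, fun _ h => ⟨h.1.neg, by rw [cp_neg' hp _ h.1, h.2, neg_zero]⟩⟩

theorem perp_rc (z : LL l) : Rc hp {a | RT hp a ∧ cp hp z a = 0} := fun a ha b hb => by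
  rw [← ac_rw hp ha.1]
  refine ⟨rt_ac hp _ hb.1, ?_⟩
  rw [← hb.2, ← cp_ac hp (rw' hp a) z hb.1, ac_rw hp ha.1 z, ha.2, zero_smul, sub_zero]

theorem perp_of (G : Gt hp T) {m : ℕ} {Δ : List ℕ} (hR : T.rch m Δ = true) {z : LL l}
    (h : ∀ d ∈ Δ, ∑ i : Fin l, z i * ((T.c i d : ℤ) - 2) = 0) : ∀ a ∈ St T l m, cp hp z a = 0 := fun a ha =>
  (G.rch hR (perp_sy z) (perp_rc z) 1 (fun d hd => by
    have h1 := (G.rch_lt hR d hd).1
    rw [ac_one]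
    refine ⟨G.root d h1, ?_⟩
    rw [cp_eq _ (G.root d h1), ← h d hd]
    exact Finset.sum_congr rfl fun i _ => by rw [← G.sim, G.cpe _ (G.lt_n i) _ h1]) ⟨a, ha, ac_one hp a⟩).2

theorem ncard_inter (G : Gt hp T) (m : ℕ) {A : Set (LL l)} {p : ℕ → Bool} (h : ∀ a < T.n, p a = true ↔ T.vec l a ∈ A) :
    (St T l m ∩ A).ncard = lC p (fl m.testBit T.n) := by
  rw [lC_fl, ← G.ncard_eq (P := fun a => a ∈ St T l m ∩ A) fun r hr => by
    rw [Set.mem_inter_iff, G.mem_St hr, Bool.and_eq_true, h r hr]]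
  exact congrArg Set.ncard (Set.ext fun a => ⟨fun h => ⟨G.St_root a h.1, h⟩, fun h => h.2⟩)

variable {r N h : ℕ} [Fact r.Prime] {tp : List (ℕ × ℕ)} {F G' : LL l →+ ℤ}

theorem zm_iff (y : ℤ) : (y : ZMod r) = 0 ↔ (r : ℤ) ∣ y := ZMod.intCast_zmod_eq_zero_iff_dvd y r

theorem kl_spec (G : Gt hp T) {R : Rw} (hR : T.rch R.m R.Δ = true) {x : Rt} (hx : kl T l R x = true)
    (e : Kl hp r F = St T l R.m) : r ∣ x.kN := by
  simp only [kl, Bool.or_eq_true, Bool.and_eq_true, Nat.beq_eq, Nat.blt_eq, Bool.not_eq_true', ← Bool.not_eq_true,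
    decide_eq_true_eq] at hx
  rcases hx with hx | ⟨⟨a1, a2⟩, a3⟩
  · exact hx ▸ dvd_zero r
  have k : (r : ℤ) ∣ x.kN * F (T.vec l x.kβ) := by
    rw [← smul_eq_mul, ← map_zsmul, a3, map_list_sum, List.map_map]
    refine List.dvd_sum fun y hy => ?_
    obtain ⟨z, hz, rfl⟩ := List.mem_map.1 hy
    have h1 := G.rch_lt hR _ (List.of_mem_zip hz).2
    have h2 : T.vec l z.2 ∈ Kl hp r F := e ▸ (G.mem_St h1.1).2 h1.2
    simp only [Function.comp, map_zsmul, smul_eq_mul]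
    exact h2.2.mul_left _
  exact Int.natCast_dvd_natCast.1 (((Nat.prime_iff_prime_int.1 Fact.out).dvd_or_dvd k).resolve_right fun h =>
    a2 ((G.mem_St a1).1 (e ▸ ⟨G.root _ a1, h⟩)))

theorem adm_spec (G : Gs hp T) (S : Si hp r N h tp F G') {m : ℕ} (e : Kl hp r F = St T l m) {x : Rt}
    (hx : lA (xr T m) x.xb = true) : adm T tp m x h = true := by
  obtain ⟨u, k, b1, b2, rfl, b4⟩ := S.au
  obtain ⟨f, c1, c2, c3⟩ := S.tp
  have k0 : ∀ y, RT hp y → (y ∈ St T l m ↔ ((F y : ℤ) : ZMod r) = 0) := fun y hy => by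
    rw [← e, zm_iff]
    exact and_iff_right hy
  have k1 : ∀ y, RT hp y → (u y ∈ St T l m ↔ y ∈ St T l m) := fun y hy => by
    rw [k0 _ hy, k0 _ ((b1 y).2 hy), b4, mul_eq_zero, or_iff_right b2]
  have k2 : ∀ c, Set.MapsTo u {b | RT hp b ∧ b ∉ St T l m ∧ ct hp (St T l m) b = c}
      {b | RT hp b ∧ b ∉ St T l m ∧ ct hp (St T l m) b = c} := fun c b hb =>
    ⟨(b1 b).2 hb.1, fun h => hb.2.1 ((k1 b hb.1).1 h), (ct_map (ok_aut G b1) G.St_root (G.fin_St m)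
      (fun y hy => (k1 y (G.St_root y hy)).2 hy) hb.1).trans hb.2.2⟩
  have k3 : ∀ c, ∀ b < T.n, (T.vec l b ∉ St T l m ∧ ct hp (St T l m) (T.vec l b) = c) ↔ xm T m c b = true := fun c b hb => by
    rw [xm, G.mem_St hb, G.cnt m hb, Bool.and_eq_true, Nat.beq_eq, Bool.not_eq_true', Bool.not_eq_true]
  simp only [adm, Bool.and_eq_true, lE_iff, lA_iff, Nat.beq_eq, Nat.ble_eq, ← Nat.dvd_iff_mod_eq_zero]
  refine ⟨⟨⟨S.ev, f, c1, c2, by rw [← c3, e, G.ncard_St]⟩, fun c _ => ?_⟩, fun y hy => ?_⟩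
  · rw [← G.ncard_eq (P := fun b => b ∉ St T l m ∧ ct hp (St T l m) b = c) (k3 c)]
    exact pow_ncard (β := fun y => ((F y : ℤ) : ZMod r)) (G.fin_rt.subset fun _ h => h.1) (k2 c)
      (fun y hy h => hy.2.1 ((k0 y hy.1).2 h)) b4
  · have h1 := lA_iff.1 hx y hy
    simp only [xr, Bool.and_eq_true, Bool.or_eq_true, eL_iff, aL_iff, lE_iff, Nat.beq_eq, Nat.blt_eq, Bool.not_eq_true',
      ← Bool.not_eq_true] at h1
    obtain ⟨⟨b, hb, d1⟩, d2⟩ := h1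
    have d3 := (k3 _ b hb).2 d1
    rw [← List.length_map fun a => ((F (T.vec l a) : ℤ) : ZMod r)]
    refine ord_le (β := fun y => ((F y : ℤ) : ZMod r)) (k2 y.1) ⟨G.root b hb, d3⟩
      (fun h => d3.1 ((k0 _ (G.root b hb)).2 h)) b4 fun z hz => ?_
    obtain ⟨a, ha, rfl⟩ := G.surj z hz.1
    have d4 := (k3 _ a ha).1 hz.2
    clear hz
    induction a using Nat.strong_induction_on with
    | _ a ih =>
      rcases d2 a ha with (d5 | ⟨_, d5, rfl⟩) | ⟨d, d5, d6, d7⟩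
      · exact absurd d4 d5
      · exact List.mem_map_of_mem d5
      · obtain ⟨d8, d9⟩ := mem_fl.1 d5
        have d10 := ih _ d6 (d6.trans ha) d7
        rwa [G.fe d d8 a ha, ac_rw hp (G.root d d8), map_sub, map_zsmul, smul_eq_mul, Int.cast_sub, Int.cast_mul,
          (k0 _ (G.root d d8)).1 ((G.mem_St d8).2 d9), mul_zero, sub_zero] at d10

theorem eno_spec (G : Gt hp T) (hl : l ≤ 8) (h0 : 0 < N) (hN : N ≤ 3) (S : Si hp r N h tp F G') {R : Rw}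
    (hR : T.rch R.m R.Δ = true) (e : Kl hp r F = St T l R.m) {nr : ℕ → ℕ → Bool} {P : Prop}
    (hP : ∀ V, (∀ a < T.n, zr N V a = true ↔ T.vec l a ∈ Kl hp N G') → nr R.m V = true → P) {x : Rt}
    (hx : eno T l N nr R x = true) : (St T l R.m ∩ Kl hp N G').ncard < x.mx ∨ (x.ex = true ∧ P) := by
  have k0 : (St T l R.m ∩ Kl hp N G').ncard < cL R.m.testBit T.n := by
    obtain ⟨a, a1, a2⟩ := S.nz
    rw [← G.ncard_St]
    exact Set.ncard_lt_ncard ⟨Set.inter_subset_left, fun k => a2 (k (e ▸ a1)).2.2⟩ (G.fin_St _)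
  simp only [eno, Bool.and_eq_true, Bool.or_eq_true, lA_iff, Nat.ble_eq, decide_eq_true_eq] at hx
  rcases hx with hx | ⟨a1, a2⟩
  · exact Or.inl (k0.trans_le hx)
  obtain ⟨V, b1, b2⟩ := eng_spec hl h0 hN a2 G' fun z hz => S.h1 _ (e ▸ perp_of G hR (a1 z hz))
  have b3 : ∀ a < T.n, zr N V a = true ↔ T.vec l a ∈ Kl hp N G' := fun a ha =>
    (b2 a ha).trans (and_iff_right (G.root a ha)).symm
  simp only [Bool.and_eq_true, Bool.or_eq_true, Nat.blt_eq, Nat.beq_eq, ← ncard_inter G R.m b3] at b1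
  exact b1.imp_right fun b1 => (b1.resolve_left k0.ne).imp_right (hP V b3)

theorem row_spec (G : Gs hp T) (hl : l ≤ 8) (h0 : 0 < N) (hN : N ≤ 3) (htp : ∀ f ∈ tp, f.1 ≠ 0 ∧ f.1 ≤ 30)
    (S : Si hp r N h tp F G') {R : Rw} (hR : T.rch R.m R.Δ = true) (e : Kl hp r F = St T l R.m) {nr : ℕ → ℕ → Bool}
    {Ne : Set (LL l) → Set (LL l) → Prop}
    (hP : ∀ V, (∀ a < T.n, zr N V a = true ↔ T.vec l a ∈ Kl hp N G') → nr R.m V = true → Ne (St T l R.m) (Kl hp N G'))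
    {B : ℕ × ℕ × ℕ × ℕ} {et : ℕ} {x : Rt} (hx : rowT T l N tp B et nr R x = true) :
    Cn h B et Ne (St T l R.m) (Kl hp N G') := by
  have hr : r.Prime := Fact.out
  simp only [rowT, Bool.and_eq_true] at hx
  obtain ⟨⟨a1, a2⟩, a3⟩ := hx
  have k1 := kl_spec G.toGt hR a1 e
  obtain ⟨g, b1, b2⟩ : ∃ g, h ∣ g ∧ rk T l N tp B et nr R x g = true := by
    cases hk : Nat.beq x.kN 0 <;> rw [hk] at a3
    · rw [cond_false] at a3
      have h1 := aL_iff.1 a3 r (Nat.lt_succ_of_le (Nat.le_of_dvd (Nat.pos_of_ne_zero (Nat.ne_of_beq_eq_false hk)) k1))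
      simp only [Bool.or_eq_true, Nat.beq_eq, Bool.not_eq_true', ← Bool.not_eq_true, ← Nat.dvd_iff_mod_eq_zero] at h1
      refine ⟨_, S.dv, h1.resolve_left ?_⟩
      rintro (((h1 | h1) | h1) | h1)
      exacts [h1 k1, S.odd ((Nat.prime_dvd_prime_iff_eq Nat.prime_two hr).1 h1).symm, hr.ne_one h1, S.ne h1]
    · exact ⟨0, dvd_zero _, a3⟩
  simp only [rk, Bool.and_eq_true, Bool.or_eq_true, aL_iff, Nat.beq_eq, Bool.not_eq_true', ← Bool.not_eq_true,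
    ← Nat.dvd_iff_mod_eq_zero] at b2
  have k2 : h < 31 := by
    obtain ⟨f, c1, c2, -⟩ := S.tp
    exact Nat.lt_succ_of_le ((Nat.le_of_dvd (Nat.pos_of_ne_zero (htp f c1).1) c2).trans (htp f c1).2)
  have k3 := (b2.2 h k2).resolve_left fun k => k.elim (fun k => k b1) fun k => k (adm_spec G S e a2)
  have k4 := eno_spec G.toGt hl h0 hN S hR e hP b2.1
  simp only [gd, Bool.and_eq_true, Bool.or_eq_true, Nat.beq_eq, Nat.ble_eq, Bool.not_eq_true', ← Bool.not_eq_true,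
    ← Nat.dvd_iff_mod_eq_zero, ← G.ncard_St] at k3
  obtain ⟨⟨⟨c1, c2⟩, c3⟩, c4⟩ := k3
  have k5 : ∀ b, ¬ x.ex = true ∧ x.mx ≤ b → (St T l R.m ∩ Kl hp N G').ncard < b := fun b hb =>
    (k4.resolve_right fun k => hb.1 k.1).trans_le hb.2
  refine ⟨fun k => k5 _ (c1.resolve_left (not_not.2 k)), fun k => k5 _ (c2.resolve_left (not_not.2 k)),
    fun k k' => k5 _ (c3.resolve_left (not_or.2 ⟨k, k'⟩)), ?_⟩
  rcases k4 with k4 | k4
  · exact c4.imp k4.trans_le Or.inl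
  · exact Or.inr (Or.inr k4.2)

/-- **the theorem** -/
theorem cn_of (G : Gs hp T) (hl : l ≤ 8) (h0 : 0 < N) (hN : N ≤ 3) (htp : ∀ f ∈ tp, f.1 ≠ 0 ∧ f.1 ≤ 30) {L : List Rw}
    (hL : ∀ j < L.length, T.row L j = true) (hL0 : 0 < L.length) (hL1 : (rw0 L 0).m = 0) {nr : ℕ → ℕ → Bool}
    {Ne : Set (LL l) → Set (LL l) → Prop} (hNe : ∀ v A A', Ne (ac hp v '' A) (ac hp v '' A') → Ne A A')
    (hP : ∀ (F G' : LL l →+ ℤ) (m V : ℕ), Kl hp r F = St T l m → (∀ a < T.n, zr N V a = true ↔ T.vec l a ∈ Kl hp N G') →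
      nr m V = true → Ne (Kl hp r F) (Kl hp N G'))
    {B : ℕ × ℕ × ℕ × ℕ} {et : ℕ} {X : ℕ → Rt} (hX : ∀ j < L.length, rowT T l N tp B et nr (rw0 L j) (X j) = true)
    (S : Si hp r N h tp F G') : Cn h B et Ne (Kl hp r F) (Kl hp N G') := by
  obtain ⟨j, hj, v, e⟩ := G.cls_of hL hL0 hL1 (kl_sy r F) (kl_rc r F)
  have h1 := hL j hj
  rw [Tb.row, Bool.and_eq_true] at h1
  have e' := (kl_image r F v).symm.trans e
  have h2 := row_spec G hl h0 hN htp (S.move v) h1.1 e' (fun V a1 a2 => e' ▸ hP _ _ _ V e' a1 a2) (hX j hj)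
  rw [← e, ← kl_image, Cn, ← Set.image_inter (ac hp v).injective, ncard_ac, ncard_ac] at h2
  exact ⟨h2.1, h2.2.1, h2.2.2.1, h2.2.2.2.imp_right (Or.imp_right (hNe v _ _))⟩

end Cfsg.Agent.N2.Ex.Mu.Lt
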