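import Cfsg.Agent.N2.Ex.Mu.LatB

/-!
# N2, multiplicities: the exceptional pairs (helper40)

`th A` : the roots of `A` in the big components; `Ne0` : the exceptional pairs, `nr` : their check.
-/

set_option autoImplicit false
set_option linter.unusedSectionVars false

namespace Cfsg.Agent.N2.Ex.Mu.Lt

open CoxeterSystem Cfsg Cfsg.Lie Cfsg.Lie.ChevalleyDatum
open Cfsg.Agent.ChevalleyStructure Cfsg.Agent.ChevalleyStructure.CoxeterGeom Cfsg.Agent.ChevalleyStructure.CoxeterGeomTypes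
  Cfsg.Agent.Tits.Roots Cfsg.Agent.Nodes Cfsg.Agent.Nodes.RGDChev Cfsg.Agent.Nodes.Coroot
open Cfsg.Agent.DS.Ex Cfsg.Agent.DS.Nt Cfsg.Agent.H931.KC
open Cfsg.Agent.DS.Ex.Tor (RT)
open Cfsg.Agent.N2.Ex.Al Cfsg.Agent.N2.Ex.Al.Ck

/-- the members of the big components -/
def th {l : ℕ} (A : Set (LL l)) : Set (LL l) := {a | a ∈ A ∧ 6 ≤ {b | b ∈ A ∧ a - b ∈ A}.ncard}

/-- the sizes -/
noncomputable def sz {l : ℕ} (A A' : Set (LL l)) : ℕ × ℕ × ℕ × ℕ := (A.ncard, (th A).ncard, A'.ncard, (th A').ncard)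

/-- **the exceptional pairs** -/
def Ne0 {l : ℕ} (L L' : List (ℕ × ℕ × ℕ × ℕ)) (A A' : Set (LL l)) : Prop :=
  (th A ⊆ A' ∧ sz A A' ∈ L) ∨ (th A' ⊆ A ∧ sz A A' ∈ L')

section Chk

variable (T : Tb)

/-- simply laced -/
noncomputable def sl : Bool := aL (fun r => aL (fun s => or (not (Nat.beq (T.c r s) 4)) (Nat.beq r s)) T.n) T.n

/-- membership in `th` -/
noncomputable def tb (p : ℕ → Bool) (a : ℕ) : Bool := Nat.ble 6 (lC (fun b => Nat.beq (T.c a b) 3) (fl p T.n))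

/-- the sizes are listed -/
noncomputable def sb (L : List (ℕ × ℕ × ℕ × ℕ)) (p q : ℕ → Bool) : Bool :=
  lE (fun e => Nat.beq (cL p T.n) e.1 && Nat.beq (cL q T.n) e.2.2.1 && Nat.beq (lC (tb T p) (fl p T.n)) e.2.1 &&
    Nat.beq (lC (tb T q) (fl q T.n)) e.2.2.2) L

/-- the check of `Ne0` -/
noncomputable def nr (N : ℕ) (L L' : List (ℕ × ℕ × ℕ × ℕ)) (m V : ℕ) : Bool :=
  (sb T L m.testBit (zr N V) && lA (fun a => zr N V a || !tb T m.testBit a) (fl m.testBit T.n)) ||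
    (sb T L' m.testBit (zr N V) && lA (fun a => m.testBit a || !tb T (zr N V) a) (fl (zr N V) T.n))

end Chk

variable {D : ChevalleyDatum} {l : ℕ} {M : CoxeterMatrix (Fin l)} {hp : IsType D l M} {T : Tb}

theorem th_image (u : LL l ≃+ LL l) (A : Set (LL l)) : th (u '' A) = u '' th A := by
  have k : ∀ a, {b | b ∈ u '' A ∧ u a - b ∈ u '' A}.ncard = {b | b ∈ A ∧ a - b ∈ A}.ncard := fun a => by
    rw [← Set.ncard_image_of_injective {b | b ∈ A ∧ a - b ∈ A} u.injective]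
    refine congrArg Set.ncard (Set.ext fun x => ?_)
    obtain ⟨y, rfl⟩ := u.surjective x
    rw [u.injective.mem_set_image, Set.mem_setOf_eq, ← map_sub, u.injective.mem_set_image, u.injective.mem_set_image]
    rfl
  ext x
  obtain ⟨y, rfl⟩ := u.surjective x
  rw [u.injective.mem_set_image, th, th, Set.mem_setOf_eq, Set.mem_setOf_eq, k, u.injective.mem_set_image]

theorem ne0_of_image {L L' : List (ℕ × ℕ × ℕ × ℕ)} (v : M.Group) (A A' : Set (LL l))
    (h : Ne0 L L' (ac hp v '' A) (ac hp v '' A')) : Ne0 L L' A A' := by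
  simpa only [Ne0, sz, th_image, ncard_ac, Set.image_subset_image_iff (ac hp v).injective] using h

theorem rt_ne {a : LL l} (ha : RT hp a) : a ≠ 0 := fun h => by
  have h1 := cp_smul hp 0 a ha
  rw [zero_smul, ← h, cp_self hp ha] at h1
  omega

theorem sub_iff (G : Gs hp T) (h : sl T = true) {a b : ℕ} (ha : a < T.n) (hb : b < T.n) :
    RT hp (T.vec l a - T.vec l b) ↔ T.c a b = 3 := by
  simp only [sl, aL_iff, Bool.or_eq_true, Nat.beq_eq, Bool.not_eq_true', ← Bool.not_eq_true] at h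
  have k : ∀ x, RT hp x → x ≠ T.vec l b → cp hp x (T.vec l b) ≤ 1 := fun x hx hne => by
    have h1 := G.cp_le hx (G.root b hb)
    obtain ⟨s, hs, rfl⟩ := G.surj x hx
    have h2 := (h s hs b hb).resolve_right fun e => hne (e ▸ rfl)
    rw [G.cpe s hs b hb] at h1 ⊢
    omega
  have h1 := G.cpe a ha b hb
  constructor
  · intro h2
    have h3 := k _ (G.root a ha) fun e => rt_ne h2 (sub_eq_zero.2 e)
    have h4 := k _ h2.neg fun e => rt_ne (G.root a ha) (by rw [neg_sub, sub_eq_self] at e; exact e)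
    rw [cp_neg hp _ (G.root b hb), cp_sub _ _ (G.root b hb), cp_self hp (G.root b hb)] at h4
    omega
  · intro h2
    have h3 := rt_ac hp (rw' hp (T.vec l b)) (G.root a ha)
    rwa [ac_rw hp (G.root b hb), h1, h2, show ((3 : ℕ) : ℤ) - 2 = 1 from rfl, one_smul] at h3

section Th

variable (G : Gs hp T) (h : sl T = true) {r : ℕ} {F : LL l →+ ℤ} {p : ℕ → Bool}
  (hA : ∀ a < T.n, p a = true ↔ T.vec l a ∈ Kl hp r F)
include G hA

theorem ncard_kl : (Kl hp r F).ncard = cL p T.n :=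
  G.ncard_eq fun a ha => (and_iff_right (G.root a ha)).symm.trans (hA a ha).symm

include h

theorem th_iff {a : ℕ} (ha : a < T.n) : T.vec l a ∈ th (Kl hp r F) ↔ (p a && tb T p a) = true := by
  rw [th, Set.mem_setOf_eq, Bool.and_eq_true, hA a ha]
  refine and_congr_right fun h1 => ?_
  rw [tb, Nat.ble_eq, lC_fl, ← G.ncard_eq (P := fun b => b ∈ Kl hp r F ∧ T.vec l a - b ∈ Kl hp r F) fun b hb => by
    rw [Bool.and_eq_true, hA b hb, Nat.beq_eq, ← sub_iff G h ha hb]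
    exact and_congr_right fun h2 => and_iff_left (by rw [map_sub]; exact h1.2.sub h2.2)]
  exact iff_of_eq (congrArg (6 ≤ Set.ncard ·) (Set.ext fun b => ⟨fun k => ⟨k.1.1, k⟩, fun k => k.2⟩))

theorem ncard_th : (th (Kl hp r F)).ncard = lC (tb T p) (fl p T.n) := by
  rw [lC_fl, ← G.ncard_eq (P := fun a => a ∈ th (Kl hp r F)) fun a ha => th_iff G h hA ha]
  exact congrArg Set.ncard (Set.ext fun b => ⟨fun k => ⟨k.1.1, k⟩, fun k => k.2⟩)

theorem th_sub {A : Set (LL l)} {q : ℕ → Bool} (hq : ∀ a < T.n, q a = true ↔ T.vec l a ∈ A)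
    (k : lA (fun a => q a || !tb T p a) (fl p T.n) = true) : th (Kl hp r F) ⊆ A := fun x hx => by
  obtain ⟨a, ha, rfl⟩ := G.surj x hx.1.1
  rw [th_iff G h hA ha, Bool.and_eq_true] at hx
  have h1 := lA_iff.1 k a (mem_fl.2 ⟨ha, hx.1⟩)
  rw [hx.2, Bool.not_true, Bool.or_false] at h1
  exact (hq a ha).1 h1

theorem sb_spec {r' : ℕ} {F' : LL l →+ ℤ} {q : ℕ → Bool} (hq : ∀ a < T.n, q a = true ↔ T.vec l a ∈ Kl hp r' F')
    {L : List (ℕ × ℕ × ℕ × ℕ)} (k : sb T L p q = true) : sz (Kl hp r F) (Kl hp r' F') ∈ L := by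
  simp only [sb, lE_iff, Bool.and_eq_true, Nat.beq_eq] at k
  obtain ⟨e, he, ⟨⟨a1, a2⟩, a3⟩, a4⟩ := k
  rw [sz, ncard_kl G hA, ncard_kl G hq, ncard_th G h hA, ncard_th G h hq, a1, a2, a3, a4]
  exact he

end Th

theorem nr_spec (G : Gs hp T) (h : sl T = true) {r N : ℕ} {L L' : List (ℕ × ℕ × ℕ × ℕ)} (F G' : LL l →+ ℤ) (m V : ℕ)
    (e : Kl hp r F = St T l m) (hq : ∀ a < T.n, zr N V a = true ↔ T.vec l a ∈ Kl hp N G') (k : nr T N L L' m V = true) :
    Ne0 L L' (Kl hp r F) (Kl hp N G') := by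
  have hA : ∀ a < T.n, m.testBit a = true ↔ T.vec l a ∈ Kl hp r F := fun a ha => e ▸ (G.mem_St ha).symm
  rw [nr, Bool.or_eq_true, Bool.and_eq_true, Bool.and_eq_true] at k
  exact k.imp (fun k => ⟨th_sub G h hA hq k.2, sb_spec G h hA hq k.1⟩) fun k => ⟨th_sub G h hq hA k.2, sb_spec G h hA hq k.1⟩

end Cfsg.Agent.N2.Ex.Mu.Lt
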