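import Cfsg.Agent.N2.Ex.Mu.LatC

/-!
# N2, multiplicities: two subsystems of type `E₆` in `E₇`, `D₅` in `E₆`; ranks (helper40)
-/

set_option autoImplicit false
set_option linter.unusedSectionVars false

namespace Cfsg.Agent.N2.Ex.Mu.Lt

open CoxeterSystem Cfsg Cfsg.Lie Cfsg.Lie.ChevalleyDatum
open Cfsg.Agent.ChevalleyStructure Cfsg.Agent.ChevalleyStructure.CoxeterGeom Cfsg.Agent.ChevalleyStructure.CoxeterGeomTypes
  Cfsg.Agent.Tits.Roots Cfsg.Agent.Nodes Cfsg.Agent.Nodes.RGDChev Cfsg.Agent.Nodes.Coroot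
open Cfsg.Agent.DS.Ex Cfsg.Agent.DS.Nt Cfsg.Agent.H931.KC
open Cfsg.Agent.DS.Ex.Tor (RT)
open Cfsg.Agent.N2.Ex.Al Cfsg.Agent.N2.Ex.Al.Ck

section Chk

variable (T : Tb) (l : ℕ)

/-- the Cartan integer of a vector -/
def cz (z : List ℤ) (d : ℕ) : ℤ := ∑ i : Fin l, vz l z i * ((T.c i d : ℤ) - 2)

/-- the list is closed under the simple reflections -/
noncomputable def orb (O : List (List ℤ)) : Bool :=
  lA (fun y => aL (fun i => lE (fun y' => decide (vz l y' = vz l y - cz T l y i • T.vec l i)) O) l) O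

/-- the check for the pairs -/
noncomputable def eek (L : List Rw) (et m i : ℕ) (x : List ℤ) (O : List (List ℤ)) : Bool :=
  aL (fun j => !Nat.beq (cL (rw0 L j).m.testBit T.n) et || Nat.beq (rw0 L j).m m) L.length &&
    aL (fun k => m.testBit k == !Nat.beq k i) l && aL (fun a => m.testBit a == decide (cz T l x a = 0)) T.n &&
    lA (fun y => decide (y.getD i 0 ∣ 4 ∨ vz l y = vz l x ∨ vz l y = -vz l x)) (x :: O) && orb T l (x :: O)

/-- the base is linearly independent, the size is bounded -/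
noncomputable def rkk (bd : List ℕ) (R : Rw) (Y : List (List ℤ)) : Bool :=
  aL (fun i => aL (fun j => Nat.beq i j == !decide (∑ k : Fin l, T.vec l (R.Δ.getD j 0) k * vz l (Y.getD i []) k = 0))
    R.Δ.length) R.Δ.length && aL (fun ρ => Nat.blt ρ R.Δ.length || Nat.ble (cL R.m.testBit T.n) (bd.getD ρ 240)) 9

end Chk

variable {D : ChevalleyDatum} {l : ℕ} {M : CoxeterMatrix (Fin l)} {hp : IsType D l M} {T : Tb}

theorem cz_eq (G : Gt hp T) (z : List ℤ) {d : ℕ} (hd : d < T.n) : cp hp (vz l z) (T.vec l d) = cz T l z d := by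
  rw [cp_eq _ (G.root d hd)]
  exact Finset.sum_congr rfl fun i _ => by rw [← G.sim, G.cpe _ (G.lt_n i) _ hd]

theorem orb_spec (G : Gt hp T) {O : List (List ℤ)} (h : orb T l O = true) {x : List ℤ} (hx : x ∈ O) (w : M.Group) :
    ∃ y ∈ O, vz l y = ac hp w (vz l x) := by
  have := finW hp
  simp only [orb, lA_iff, aL_iff, lE_iff, decide_eq_true_eq] at h
  obtain ⟨ω, rfl⟩ := M.toCoxeterSystem.wordProd_surjective w
  induction ω with
  | nil => exact ⟨x, hx, by rw [wordProd_nil, ac_one]⟩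
  | cons j ω ih =>
    obtain ⟨y, hy, e⟩ := ih
    obtain ⟨y', hy', e'⟩ := h y hy j j.2
    refine ⟨y', hy', ?_⟩
    rw [wordProd_cons, ac_mul, ← e, e', ← cz_eq G y (G.lt_n j), G.sim]
    exact ((rep_simple_eq M.toCoxeterSystem hp.isCartan j _).trans (congrArg (vz l y - · • sr j) (cpr_sr M.toCoxeterSystem hp.isCartan _ j).symm)).symm

/-- **two subsystems of the distinguished size** -/
theorem ee_of (G : Gt hp T) {L : List Rw} (hL : ∀ j < L.length, T.row L j = true) (hL0 : 0 < L.length)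
    (hL1 : (rw0 L 0).m = 0) {et m : ℕ} {i : Fin l} {x : List ℤ} {O : List (List ℤ)} (h : eek T l L et m i x O = true)
    {r r' : ℕ} (hr : r'.Prime) (h2 : r' ≠ 2) {F G' : LL l →+ ℤ}
    (h1 : ∀ x, (∀ a ∈ Kl hp r F, cp hp x a = 0) → (r' : ℤ) ∣ G' x) (nz : ∃ a ∈ Kl hp r F, ¬ (r' : ℤ) ∣ G' a)
    (e : (Kl hp r F).ncard = et) : (Kl hp r' G').ncard ≠ et := fun e' => by
  simp only [eek, Bool.and_eq_true, Bool.or_eq_true, aL_iff, lA_iff, Nat.beq_eq, Bool.not_eq_true', ← Bool.not_eq_true,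
    beq_iff_eq, decide_eq_true_eq] at h
  obtain ⟨⟨⟨⟨a1, a2⟩, a3⟩, a4⟩, a5⟩ := h
  have k : ∀ (r : ℕ) (F : LL l →+ ℤ), (Kl hp r F).ncard = et → ∃ v, ac hp v '' Kl hp r F = St T l m := fun r F e => by
    obtain ⟨j, hj, v, hv⟩ := G.cls_of hL hL0 hL1 (kl_sy r F) (kl_rc r F)
    exact ⟨v, by rw [hv, (a1 j hj).resolve_left (not_not.2 (by rw [← G.ncard_St, ← hv, ncard_ac, e]))]⟩
  have k0 : ∀ a, RT hp a → (a ∈ St T l m ↔ cp hp (vz l x) a = 0) := fun a ha => by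
    obtain ⟨s, hs, rfl⟩ := G.surj a ha
    rw [G.mem_St hs, a3 s hs, cz_eq G x hs, decide_eq_true_eq]
  obtain ⟨v, hv⟩ := k r F e
  obtain ⟨w, hw⟩ := k r' G' e'
  obtain ⟨y, hy, ey⟩ := orb_spec G a5 List.mem_cons_self (w * v⁻¹)
  have k1 : ∀ a ∈ Kl hp r F, cp hp (ac hp v⁻¹ (vz l x)) a = 0 := fun a ha => by
    rw [← cp_ac hp v _ ha.1, ac_inv']
    exact (k0 _ (rt_ac hp v ha.1)).1 (hv ▸ ⟨a, ha, rfl⟩)
  have k2 : ∀ j : Fin l, (r' : ℤ) ∣ G' (ac hp w⁻¹ (sr j)) ↔ j ≠ i := fun j => by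
    have h3 : sr j ∈ Kl hp r' (G'.comp (ac hp w⁻¹).toAddMonoidHom) ↔ j ≠ i := by
      rw [← kl_image, hw, ← G.sim, G.mem_St (G.lt_n j), a2 j j.2, Bool.not_eq_true', ← Bool.not_eq_true, Nat.beq_eq, Ne,
        Fin.ext_iff]
    exact (and_iff_right (isRoot_sr _ _ j)).symm.trans h3
  have k3 : (r' : ℤ) ∣ vz l y i := by
    have h3 := h1 _ k1
    rw [← ac_inv hp w (ac hp v⁻¹ _), ← ac_mul hp w, ← ey] at h3
    have h4 := eq_psi (G'.comp (ac hp w⁻¹).toAddMonoidHom) (vz l y)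
    rw [← Finset.add_sum_erase _ _ (Finset.mem_univ i)] at h4
    have h5 := (dvd_add_left (Finset.dvd_sum fun j hj => ((k2 j).2 (Finset.ne_of_mem_erase hj)).mul_left _)).1 (h4 ▸ h3 :)
    exact ((Nat.prime_iff_prime_int.1 hr).dvd_or_dvd h5).resolve_right fun h6 => (k2 i).1 h6 rfl
  obtain ⟨a, b1, b2⟩ := nz
  have k4 : cp hp (vz l y) (ac hp w a) = 0 := by rw [ey, ac_mul, cp_ac hp w _ b1.1, k1 a b1]
  have k5 : cp hp (vz l x) (ac hp w a) ≠ 0 := fun h3 => by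
    obtain ⟨b, c1, c2⟩ : ac hp w a ∈ ac hp w '' Kl hp r' G' := hw ▸ (k0 _ (rt_ac hp w b1.1)).2 h3
    exact b2 ((ac hp w).injective c2 ▸ c1.2)
  rcases a4 y hy with h3 | h3 | h3
  · have h4 : r' ∣ 2 ^ 2 := Int.natCast_dvd_natCast.1 (k3.trans h3)
    exact h2 ((Nat.prime_dvd_prime_iff_eq hr Nat.prime_two).1 (hr.dvd_of_dvd_pow h4))
  · exact k5 (h3 ▸ k4)
  · rw [h3, cp_neg hp _ (rt_ac hp w b1.1), neg_eq_zero] at k4
    exact k5 k4

/-- the rank -/
noncomputable abbrev rk' (A : Set (LL l)) : ℕ := Module.finrank ℤ (Submodule.span ℤ A)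

theorem rk_image (u : LL l ≃+ LL l) (A : Set (LL l)) : rk' (u '' A) = rk' A := by
  rw [rk', rk', ← u.toIntLinearEquiv.finrank_map_eq (Submodule.span ℤ A), Submodule.map_span]
  rfl

/-- **the rank bounds the size** -/
theorem rk_of (G : Gt hp T) {L : List Rw} (hL : ∀ j < L.length, T.row L j = true) (hL0 : 0 < L.length)
    (hL1 : (rw0 L 0).m = 0) {bd : List ℕ} {Y : ℕ → List (List ℤ)} (h : ∀ j < L.length, rkk T l bd (rw0 L j) (Y j) = true)
    {A : Set (LL l)} (h1 : Sy hp A) (h2 : Rc hp A) {ρ : ℕ} (h9 : ρ < 9) (hρ : rk' A ≤ ρ) : A.ncard ≤ bd.getD ρ 240 := by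
  obtain ⟨j, hj, v, e⟩ := G.cls_of hL hL0 hL1 h1 h2
  have h3 := hL j hj
  have h4 := h j hj
  rw [Tb.row, Bool.and_eq_true] at h3
  simp only [rkk, Bool.and_eq_true, Bool.or_eq_true, aL_iff, Nat.blt_eq, Nat.ble_eq, beq_iff_eq] at h4
  rw [← rk_image (ac hp v), e] at hρ
  rw [← ncard_ac (hp := hp) v, e, G.ncard_St]
  refine (h4.2 ρ h9).resolve_left (not_lt.2 (le_trans ?_ hρ))
  set Δ := (rw0 L j).Δ
  have k1 : ∀ i : Fin Δ.length, T.vec l (Δ.getD i 0) ∈ Submodule.span ℤ (St T l (rw0 L j).m) := fun i => by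
    have h5 := G.rch_lt h3.1 (Δ.getD i 0) (by rw [List.getD_eq_getElem _ _ i.2]; exact List.getElem_mem i.2)
    exact Submodule.subset_span ((G.mem_St h5.1).2 h5.2)
  have k2 : LinearIndependent ℤ fun i : Fin Δ.length => (⟨_, k1 i⟩ : Submodule.span ℤ (St T l (rw0 L j).m)) := by
    refine LinearIndependent.of_comp (Submodule.subtype _) (Fintype.linearIndependent_iff.2 fun g hg i => ?_)
    have h5 := congrArg (psi (vz l ((Y j).getD i []))) hg
    rw [map_sum, map_zero, Finset.sum_eq_single i (fun k _ hk => ?_) (fun h => absurd (Finset.mem_univ i) h), map_zsmul] at h5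
    · refine (mul_eq_zero.1 h5).resolve_right fun h6 => ?_
      have h7 := h4.1 i i.2 i i.2
      rw [Nat.beq_refl, eq_comm, Bool.not_eq_true', decide_eq_false_iff_not] at h7
      exact h7 h6
    · have h7 := h4.1 i i.2 k k.2
      rw [show Nat.beq i k = false from Bool.eq_false_iff.2 fun h => hk (Fin.ext (Nat.eq_of_beq_eq_true h)).symm, eq_comm,
        Bool.not_eq_false', decide_eq_true_eq] at h7
      rw [map_zsmul]
      exact mul_eq_zero_of_right _ h7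
  simpa using k2.fintype_card_le_finrank

theorem rk_lt {A B : Set (LL l)} (h : A ⊆ B) {x : LL l} (hx : x ∈ B) (k : ∀ m : ℤ, m • x ∈ AddSubgroup.closure A → m = 0) :
    rk' A < rk' B := by
  have h1 := Submodule.finrank_quotient_add_finrank ((Submodule.span ℤ A).comap (Submodule.span ℤ B).subtype)
  rw [(Submodule.comapSubtypeEquivOfLe (Submodule.span_mono h)).finrank_eq] at h1
  refine lt_of_lt_of_eq (lt_add_of_pos_left _ (Nat.pos_of_ne_zero fun h0 => ?_)) h1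
  obtain ⟨m, h2, h3⟩ := Module.finrank_eq_zero_iff.1 h0 (Submodule.Quotient.mk ⟨x, Submodule.subset_span hx⟩)
  rw [← Submodule.Quotient.mk_smul, Submodule.Quotient.mk_eq_zero, Submodule.mem_comap, ← Submodule.mem_toAddSubgroup,
    Submodule.span_int_eq_addSubgroupClosure] at h3
  exact h2 (k m h3)

/-- **the rank drops** -/
theorem rk_drop {r : ℕ} (hr' : r.Prime) (h : ∀ i, hr D l i < r) (F : LL l →+ ℤ) {B : Set (LL l)} (hB : ∀ a ∈ B, RT hp a)
    (k : ¬ B ⊆ Kl hp r F) : rk' (B ∩ Kl hp r F) < rk' B := by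
  obtain ⟨x, h1, h2⟩ := Set.not_subset.1 k
  refine rk_lt Set.inter_subset_left h1 fun m hm => by_contra fun h0 => h2 ⟨hB x h1, ?_⟩
  exact dvd_of_smul hr' h F h0 (AddSubgroup.closure_mono Set.inter_subset_right hm)

end Cfsg.Agent.N2.Ex.Mu.Lt
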