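import Cfsg.Agent.N2.Ex.Mu.LatC
import Cfsg.Agent.N2.Ex.Al.RwF4
import Cfsg.Agent.N2.Ex.Cb.Main

/-!
# N2, multiplicities: the rows of `F4` (helper40, generated data)
-/

set_option autoImplicit false
set_option maxRecDepth 100000

namespace Cfsg.Agent.N2.Ex.Mu.Lt

open Cfsg Cfsg.Lie Cfsg.Agent.Nodes.RGDChev Cfsg.Agent.N2.Ex.Al Cfsg.Agent.N2.Ex.Al.Ck Cfsg.Agent.N2.Ex.Cb

/-- the certificates -/
def xF4_2 : List Rt := [⟨0, 0, [], [], [], [], 0, false⟩,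
  ⟨0, 0, [], [], [], [], 2, false⟩,
  ⟨0, 0, [], [], [], [], 2, false⟩,
  ⟨0, 0, [], [], [], [], 4, false⟩,
  ⟨1, 8, [-1, 1], [], [], [], 4, false⟩,
  ⟨2, 1, [1, -1], [], [], [], 4, false⟩,
  ⟨0, 0, [], [], [], [[-2, -4, -3, 0], [0, 0, 0, 1]], 3, false⟩,
  ⟨0, 0, [], [], [], [[1, 0, 0, 0], [0, 3, 2, 1]], 3, false⟩,
  ⟨1, 8, [-1, 0, 1], [], [], [], 6, false⟩,
  ⟨2, 12, [-2, -1, 1], [], [], [], 6, false⟩,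
  ⟨1, 3, [0, -1, 1], [], [], [], 6, false⟩,
  ⟨2, 0, [0, -1, 1], [], [], [], 6, false⟩,
  ⟨0, 0, [], [], [], [[0, 0, 1, 0], [1, 2, 0, 1]], 5, false⟩,
  ⟨0, 0, [], [], [], [[4, 8, 6, 3]], 5, false⟩,
  ⟨0, 0, [], [], [], [[3, 6, 4, 2]], 5, false⟩,
  ⟨1, 8, [-1, 0, 1, 0], [], [], [], 8, false⟩,
  ⟨1, 2, [0, 0, -1, 1], [], [], [], 8, false⟩,
  ⟨2, 0, [0, -1, 1, 0], [], [], [], 8, false⟩,
  ⟨2, 1, [0, -1, 1], [], [], [], 10, false⟩,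
  ⟨1, 12, [-1, 0, 1], [], [], [], 10, false⟩,
  ⟨1, 2, [0, -1, 1], [], [], [], 12, false⟩,
  ⟨2, 1, [-1, 0, 1], [], [], [], 12, false⟩,
  ⟨3, 2, [-2, -4, -1, 1], [], [], [], 9, false⟩,
  ⟨2, 1, [0, -1, 1, 0], [], [], [], 12, false⟩,
  ⟨1, 3, [0, 0, -1, 1], [], [], [], 12, false⟩,
  ⟨1, 15, [-1, 0, 0, 1], [], [], [], 14, false⟩,
  ⟨2, 8, [-2, 0, -1, 1], [], [], [], 14, false⟩,
  ⟨1, 3, [-1, 0, -1, 1], [], [], [], 16, false⟩,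
  ⟨0, 0, [], [], [], [[-2, -4, -3, -2]], 11, false⟩,
  ⟨0, 0, [], [], [], [[1, 2, 1, 0]], 7, false⟩,
  ⟨2, 3, [-2, -4, -3, 1], [], [], [], 20, false⟩,
  ⟨1, 8, [-1, 0, 0, 1], [], [], [], 20, false⟩,
  ⟨1, 2, [0, -1, 1, 0], [], [], [], 24, false⟩,
  ⟨2, 0, [0, 0, -1, 1], [], [], [], 24, false⟩,
  ⟨1, 3, [0, -1, -1, 1], [], [], [], 32, false⟩,
  ⟨2, 1, [0, -1, 0, 1], [], [], [], 32, false⟩,
  ⟨0, 0, [], [], [], [], 48, false⟩]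

/-- the check -/
noncomputable def cF4_2 (j : ℕ) : Bool :=
  rowT tbF4 4 2 tpF4 (5, 3, 0, 11) 1 (fun _ _ => false) (rw0 rwF4 j) (xF4_2.getD j ⟨0, 0, [], [], [], [], 0, false⟩)

theorem cF4_2_0 : aL (fun j => cF4_2 (j + 0)) 37 = true := by decide +kernel

theorem allF4_2 : ∀ j < rwF4.length, cF4_2 j = true := fun j (hj : j < 37) => by
  simpa only [Nat.sub_add_cancel (show 0 ≤ j by omega)] using aL_iff.1 cF4_2_0 (j - 0) (by omega)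

/-- the certificates -/
def xF4_3 : List Rt := [⟨0, 0, [], [], [], [], 0, false⟩,
  ⟨0, 0, [], [], [], [], 2, false⟩,
  ⟨0, 0, [], [], [], [], 2, false⟩,
  ⟨0, 0, [], [], [], [], 4, false⟩,
  ⟨1, 8, [-1, 1], [], [], [], 4, false⟩,
  ⟨2, 1, [1, -1], [], [], [], 4, false⟩,
  ⟨0, 0, [], [], [], [[-2, -4, -3, 0], [0, 0, 0, 1]], 1, false⟩,
  ⟨0, 0, [], [], [], [[1, 0, 0, 0], [0, 3, 2, 1]], 1, false⟩,
  ⟨1, 8, [-1, 0, 1], [], [], [], 6, false⟩,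
  ⟨2, 12, [-2, -1, 1], [], [], [], 6, false⟩,
  ⟨1, 3, [0, -1, 1], [], [], [], 6, false⟩,
  ⟨2, 0, [0, -1, 1], [], [], [], 6, false⟩,
  ⟨0, 0, [], [], [], [[0, 0, 1, 0], [1, 2, 0, 1]], 3, false⟩,
  ⟨0, 0, [], [], [(6, [22, 46])], [], 8, false⟩,
  ⟨0, 0, [], [], [(6, [19, 43])], [], 8, false⟩,
  ⟨1, 8, [-1, 0, 1, 0], [], [], [], 8, false⟩,
  ⟨1, 2, [0, 0, -1, 1], [], [], [], 8, false⟩,
  ⟨2, 0, [0, -1, 1, 0], [], [], [], 8, false⟩,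
  ⟨2, 1, [0, -1, 1], [], [], [], 10, false⟩,
  ⟨1, 12, [-1, 0, 1], [], [], [], 10, false⟩,
  ⟨1, 2, [0, -1, 1], [], [], [], 12, false⟩,
  ⟨2, 1, [-1, 0, 1], [], [], [], 12, false⟩,
  ⟨3, 2, [-2, -4, -1, 1], [], [], [], 12, false⟩,
  ⟨2, 1, [0, -1, 1, 0], [], [], [], 12, false⟩,
  ⟨1, 3, [0, 0, -1, 1], [], [], [], 12, false⟩,
  ⟨1, 15, [-1, 0, 0, 1], [], [], [], 14, false⟩,
  ⟨2, 8, [-2, 0, -1, 1], [], [], [], 14, false⟩,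
  ⟨1, 3, [-1, 0, -1, 1], [], [], [], 16, false⟩,
  ⟨0, 0, [], [], [], [[-2, -4, -3, -2]], 9, false⟩,
  ⟨0, 0, [], [], [], [[1, 2, 1, 0]], 9, false⟩,
  ⟨2, 3, [-2, -4, -3, 1], [], [], [], 20, false⟩,
  ⟨1, 8, [-1, 0, 0, 1], [], [], [], 20, false⟩,
  ⟨1, 2, [0, -1, 1, 0], [], [], [], 24, false⟩,
  ⟨2, 0, [0, 0, -1, 1], [], [], [], 24, false⟩,
  ⟨1, 3, [0, -1, -1, 1], [], [], [], 32, false⟩,
  ⟨2, 1, [0, -1, 0, 1], [], [], [], 32, false⟩,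
  ⟨0, 0, [], [], [], [], 48, false⟩]

/-- the check -/
noncomputable def cF4_3 (j : ℕ) : Bool :=
  rowT tbF4 4 3 tpF4 (3, 1, 0, 9) 1 (fun _ _ => false) (rw0 rwF4 j) (xF4_3.getD j ⟨0, 0, [], [], [], [], 0, false⟩)

theorem cF4_3_0 : aL (fun j => cF4_3 (j + 0)) 37 = true := by decide +kernel

theorem allF4_3 : ∀ j < rwF4.length, cF4_3 j = true := fun j (hj : j < 37) => by
  simpa only [Nat.sub_add_cancel (show 0 ≤ j by omega)] using aL_iff.1 cF4_3_0 (j - 0) (by omega)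

theorem tpkF4 : ∀ f ∈ tpF4, f.1 ≠ 0 ∧ f.1 ≤ 30 := by decide

variable {r h : ℕ} [Fact r.Prime]

theorem cnF4_2 {M : CoxeterMatrix (Fin 4)} {hp : IsType chevF4 4 M} {F G : LL 4 →+ ℤ} (S : Si hp r 2 h tpF4 F G) :
    Cn h (5, 3, 0, 11) 1 (Ne0 [] []) (Kl hp r F) (Kl hp 2 G) :=
  cn_of (gsF4 hp) (by decide) (by decide) (by decide) tpkF4 rowF4 (by decide) rfl ne0_of_image
    (fun _ _ _ _ _ _ h => absurd h Bool.false_ne_true) allF4_2 S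

theorem cnF4_3 {M : CoxeterMatrix (Fin 4)} {hp : IsType chevF4 4 M} {F G : LL 4 →+ ℤ} (S : Si hp r 3 h tpF4 F G) :
    Cn h (3, 1, 0, 9) 1 (Ne0 [] []) (Kl hp r F) (Kl hp 3 G) :=
  cn_of (gsF4 hp) (by decide) (by decide) (by decide) tpkF4 rowF4 (by decide) rfl ne0_of_image
    (fun _ _ _ _ _ _ h => absurd h Bool.false_ne_true) allF4_3 S

end Cfsg.Agent.N2.Ex.Mu.Lt
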