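import Cfsg.Agent.N2.Ex.Mu.LatC

/-!
# N2, multiplicities: the check of a row, second form (helper40)

`rowU`, `cu_of` : one bound with exceptions; `pp`, `pc` : the roots outside `A` orthogonal to `I`.
-/

set_option autoImplicit false
set_option linter.unusedSectionVars false

namespace Cfsg.Agent.N2.Ex.Mu.Lt

open CoxeterSystem Cfsg Cfsg.Lie Cfsg.Lie.ChevalleyDatum
open Cfsg.Agent.ChevalleyStructure Cfsg.Agent.ChevalleyStructure.CoxeterGeom Cfsg.Agent.ChevalleyStructure.CoxeterGeomTypes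
  Cfsg.Agent.Tits.Roots Cfsg.Agent.Nodes Cfsg.Agent.Nodes.RGDChev Cfsg.Agent.Nodes.Coroot
open Cfsg.Agent.DS.Ex Cfsg.Agent.DS.Nt Cfsg.Agent.H931.KC
open Cfsg.Agent.DS.Ex.Tor (RT)
open Cfsg.Agent.N2.Ex.Al Cfsg.Agent.N2.Ex.Al.Ck

/-- **the check of a row** -/
noncomputable def rowU (T : Tb) (l N : ℕ) (tp : List (ℕ × ℕ)) (c B et : ℕ) (nr : ℕ → ℕ → Bool) (R : Rw) (x : Rt) : Bool :=
  kl T l R x && lA (xr T R.m) x.xb && cond (Nat.beq x.kN 0)
    (eno T l N nr R x && aL (fun h => !Nat.beq (h % c) 0 || !adm T tp R.m x h || Nat.ble x.mx B ||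
      Nat.beq (cL R.m.testBit T.n) et) 31)
    (aL (fun r => !Nat.beq (x.kN % r) 0 || Nat.beq (r % 2) 0 || Nat.beq r 1 || Nat.beq r N) (x.kN + 1))

/-- the number of the roots outside `p` orthogonal to `q` -/
noncomputable def pc (T : Tb) (p q : ℕ → Bool) : ℕ := cL (fun b => !p b && lA (fun a => Nat.beq (T.c b a) 2) (fl q T.n)) T.n

variable {D : ChevalleyDatum} {l : ℕ} {M : CoxeterMatrix (Fin l)} {hp : IsType D l M} {T : Tb}
  {r N h : ℕ} [Fact r.Prime] {tp : List (ℕ × ℕ)} {F G' : LL l →+ ℤ}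

theorem rowU_spec (G : Gs hp T) (hl : l ≤ 8) (h0 : 0 < N) (hN : N ≤ 3) (htp : ∀ f ∈ tp, f.1 ≠ 0 ∧ f.1 ≤ 30)
    (S : Si hp r N h tp F G') {R : Rw} (hR : T.rch R.m R.Δ = true) (e : Kl hp r F = St T l R.m) {nr : ℕ → ℕ → Bool} {P : Prop}
    (hP : ∀ V, (∀ a < T.n, zr N V a = true ↔ T.vec l a ∈ Kl hp N G') → nr R.m V = true → P)
    {c B et : ℕ} {x : Rt} (hx : rowU T l N tp c B et nr R x = true) (hc : c ∣ h) :
    (St T l R.m ∩ Kl hp N G').ncard < B ∨ (St T l R.m).ncard = et ∨ P := by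
  have hr : r.Prime := Fact.out
  simp only [rowU, Bool.and_eq_true] at hx
  obtain ⟨⟨a1, a2⟩, a3⟩ := hx
  have k1 := kl_spec G.toGt hR a1 e
  cases hk : Nat.beq x.kN 0 <;> rw [hk] at a3
  · rw [cond_false] at a3
    have h1 := aL_iff.1 a3 r (Nat.lt_succ_of_le (Nat.le_of_dvd (Nat.pos_of_ne_zero (Nat.ne_of_beq_eq_false hk)) k1))
    simp only [Bool.or_eq_true, Nat.beq_eq, Bool.not_eq_true', ← Bool.not_eq_true, ← Nat.dvd_iff_mod_eq_zero] at h1
    rcases h1 with ((h1 | h1) | h1) | h1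
    exacts [absurd k1 h1, absurd ((Nat.prime_dvd_prime_iff_eq Nat.prime_two hr).1 h1).symm S.odd, absurd h1 hr.ne_one,
      absurd h1 S.ne]
  rw [cond_true] at a3
  simp only [Bool.and_eq_true, Bool.or_eq_true, aL_iff, Nat.beq_eq, Nat.ble_eq, Bool.not_eq_true', ← Bool.not_eq_true,
    ← Nat.dvd_iff_mod_eq_zero, ← G.ncard_St] at a3
  have k2 : h < 31 := by
    obtain ⟨f, c1, c2, -⟩ := S.tp
    exact Nat.lt_succ_of_le ((Nat.le_of_dvd (Nat.pos_of_ne_zero (htp f c1).1) c2).trans (htp f c1).2)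
  rcases a3.2 h k2 with ((k3 | k3) | k3) | k3
  · exact absurd hc k3
  · exact absurd (adm_spec G S e a2) k3
  · exact (eno_spec G.toGt hl h0 hN S hR e hP a3.1).imp (·.trans_le k3) fun k => Or.inr k.2
  · exact Or.inr (Or.inl k3)

/-- **the theorem** -/
theorem cu_of (G : Gs hp T) (hl : l ≤ 8) (h0 : 0 < N) (hN : N ≤ 3) (htp : ∀ f ∈ tp, f.1 ≠ 0 ∧ f.1 ≤ 30) {L : List Rw}
    (hL : ∀ j < L.length, T.row L j = true) (hL0 : 0 < L.length) (hL1 : (rw0 L 0).m = 0) {nr : ℕ → ℕ → Bool}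
    {Ne : Set (LL l) → Set (LL l) → Prop} (hNe : ∀ v A A', Ne (ac hp v '' A) (ac hp v '' A') → Ne A A')
    (hP : ∀ (F G' : LL l →+ ℤ) (m V : ℕ), Kl hp r F = St T l m → (∀ a < T.n, zr N V a = true ↔ T.vec l a ∈ Kl hp N G') →
      nr m V = true → Ne (Kl hp r F) (Kl hp N G'))
    {c B et : ℕ} {X : ℕ → Rt} (hX : ∀ j < L.length, rowU T l N tp c B et nr (rw0 L j) (X j) = true)
    (S : Si hp r N h tp F G') (hc : c ∣ h) :
    (Kl hp r F ∩ Kl hp N G').ncard < B ∨ (Kl hp r F).ncard = et ∨ Ne (Kl hp r F) (Kl hp N G') := by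
  obtain ⟨j, hj, v, e⟩ := G.cls_of hL hL0 hL1 (kl_sy r F) (kl_rc r F)
  have h1 := hL j hj
  rw [Tb.row, Bool.and_eq_true] at h1
  have e' := (kl_image r F v).symm.trans e
  have h2 := rowU_spec G hl h0 hN htp (S.move v) h1.1 e' (fun V a1 a2 => hP _ _ _ V e' a1 a2) (hX j hj) hc
  rw [← e, ← kl_image, ← kl_image, ← Set.image_inter (ac hp v).injective, ncard_ac, ncard_ac] at h2
  exact h2.imp_right (Or.imp_right (hNe v _ _))

variable (hp) in
/-- the roots outside `A` orthogonal to `I` -/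
def pp (A I : Set (LL l)) : Set (LL l) := {b | RT hp b ∧ b ∉ A ∧ ∀ a ∈ I, RT hp a → cp hp b a = 0}

theorem pp_im {u : LL l ≃+ LL l} (hu : ∀ b, RT hp (u b) ↔ RT hp b)
    (hc : ∀ a b, RT hp a → RT hp b → cp hp (u a) (u b) = cp hp a b) (A I : Set (LL l)) :
    pp hp (u '' A) (u '' I) = u '' pp hp A I := by
  ext x
  obtain ⟨y, rfl⟩ := u.surjective x
  simp only [pp, u.injective.mem_set_image, Set.mem_setOf_eq, Set.forall_mem_image, hu]
  exact and_congr_right fun hy => and_congr_right' (forall₂_congr fun a _ => forall_congr' fun ha => by rw [hc _ _ hy ha])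

theorem pp_ac (v : M.Group) (A I : Set (LL l)) : (pp hp (ac hp v '' A) (ac hp v '' I)).ncard = (pp hp A I).ncard := by
  rw [pp_im (rt_ac_iff v) fun a b _ hb => cp_ac hp v a hb, ncard_ac]

theorem pc_spec (G : Gt hp T) {A I : Set (LL l)} {p q : ℕ → Bool} (hA : ∀ a < T.n, p a = true ↔ T.vec l a ∈ A)
    (hI : ∀ a < T.n, q a = true ↔ T.vec l a ∈ I) : (pp hp A I).ncard = pc T p q := by
  refine G.ncard_eq fun b hb => ?_
  rw [Bool.and_eq_true, Bool.not_eq_true', ← Bool.not_eq_true, hA b hb, lA_iff]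
  refine and_congr_right' ⟨fun k a ha => ?_, fun k a ha hr => ?_⟩
  · obtain ⟨h1, h2⟩ := mem_fl.1 ha
    have := k _ ((hI a h1).1 h2) (G.root a h1)
    rw [G.cpe b hb a h1] at this
    exact Nat.beq_eq.mpr (by omega)
  · obtain ⟨s, hs, rfl⟩ := G.surj a hr
    rw [G.cpe b hb s hs, Nat.beq_eq.mp (k s (mem_fl.2 ⟨hs, (hI s hs).2 ha⟩))]
    rfl

end Cfsg.Agent.N2.Ex.Mu.Lt
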