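import Cfsg.Agent.N2.Ex.Mu.LatD

/-!
# N2, multiplicities: masks and the enumeration of triples of functionals (helper72)

* `mk` : a set of numbers as a number with one byte for each member;
* `M3`, `ad`, `ng` : functions modulo three; `all3`, `all2` : all functionals;
* `chk` : the check; `chk_spec` : its meaning.
-/

set_option autoImplicit false
set_option linter.unusedSectionVars false

namespace Cfsg.Agent.N2.Ex.Mu.T3

open Cfsg.Agent.N2.Ex.Al Cfsg.Agent.N2.Ex.Al.Ck Cfsg.Agent.N2.Ex.Mu.Lt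

theorem mem_of_eq_of_mem {α : Type} {a b : α} {L : List α} (h : a = b) (k : b ∈ L) : a ∈ L := h ▸ k

/-- evaluation -/
noncomputable def fN (x : ℕ) (f : ℕ → Bool) : Bool := Nat.rec (f 0) (fun n _ => f (Nat.succ n)) x

theorem fN_eq (x : ℕ) (f : ℕ → Bool) : fN x f = f x := by cases x <;> rfl

/-- the mask -/
noncomputable def mk (p : ℕ → Bool) (n : ℕ) : ℕ :=
  Nat.rec (motive := fun _ => ℕ) 0 (fun k ih => cond (p k) (Nat.lor (Nat.pow 2 (Nat.mul 8 k)) ih) ih) n

theorem mk_succ (p : ℕ → Bool) (n : ℕ) : mk p (n + 1) = cond (p n) (2 ^ (8 * n) ||| mk p n) (mk p n) := rfl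

theorem bit_mk (p : ℕ → Bool) (n i : ℕ) : (mk p n).testBit i = (decide (i % 8 = 0 ∧ i / 8 < n) && p (i / 8)) := by
  induction n with
  | zero => simp [mk]
  | succ n ih =>
    rw [mk_succ]
    by_cases h : 8 * n = i
    · subst h
      have h1 : 8 * n / 8 = n := by omega
      cases hp : p n <;> simp [ih, h1, hp]
    · have h1 : (i % 8 = 0 ∧ i / 8 < n + 1) ↔ (i % 8 = 0 ∧ i / 8 < n) := by omega
      rw [decide_eq_decide.2 h1, ← ih]
      cases p n <;> simp [Nat.testBit_two_pow_of_ne h]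

theorem mk_congr {p q : ℕ → Bool} {n : ℕ} (h : ∀ a < n, p a = q a) : mk p n = mk q n :=
  Nat.eq_of_testBit_eq fun i => by
    rw [bit_mk, bit_mk]
    by_cases h1 : i % 8 = 0 ∧ i / 8 < n
    · rw [h _ h1.2]
    · simp [h1]

theorem mk_inj {p q : ℕ → Bool} {n : ℕ} (h : mk p n = mk q n) {a : ℕ} (ha : a < n) : p a = q a := by
  have h1 := congrArg (·.testBit (8 * a)) h
  have h2 : 8 * a / 8 = a := by omega
  simpa [bit_mk, h2, ha] using h1

theorem mk_and {p q : ℕ → Bool} {n N : ℕ} (h : n ≤ N) : mk p n &&& mk q N = mk (fun a => p a && q a) n :=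
  Nat.eq_of_testBit_eq fun i => by
    rw [Nat.testBit_and, bit_mk, bit_mk, bit_mk]
    by_cases h1 : i % 8 = 0 ∧ i / 8 < n
    · simp [h1, h1.2.trans_le h]
    · simp [h1]

theorem mk_or (p q : ℕ → Bool) (n : ℕ) : mk p n ||| mk q n = mk (fun a => p a || q a) n :=
  Nat.eq_of_testBit_eq fun i => by rw [Nat.testBit_or, bit_mk, bit_mk, bit_mk, Bool.and_or_distrib_left]

theorem mk_xor (p q : ℕ → Bool) (n : ℕ) : mk p n ^^^ mk q n = mk (fun a => p a ^^ q a) n :=
  Nat.eq_of_testBit_eq fun i => by rw [Nat.testBit_xor, bit_mk, bit_mk, bit_mk, Bool.and_xor_distrib_left]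

theorem mk_mod (p : ℕ → Bool) (n : ℕ) : mk p n % 255 = cL p n % 255 := by
  induction n with
  | zero => rfl
  | succ n ih =>
    show _ = cond (p n) (cL p n + 1) (cL p n) % 255
    rw [mk_succ]
    cases p n
    · exact ih
    · have h1 : mk p n < 2 ^ (8 * n) := Nat.lt_pow_two_of_testBit _ fun i hi => by
        have : ¬ (i % 8 = 0 ∧ i / 8 < n) := by omega
        simp [bit_mk, this]
      have h2 := Nat.two_pow_add_eq_or_of_lt h1 1
      have h3 : 2 ^ (8 * n) % 255 = 1 := by rw [pow_mul, Nat.pow_mod]; norm_num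
      rw [mul_one] at h2
      rw [cond_true, cond_true, ← h2]
      omega

theorem cL_le (p : ℕ → Bool) (n : ℕ) : cL p n ≤ n := by
  rw [cL_eq]
  exact (Finset.card_filter_le _ _).trans (Finset.card_range n).le

theorem pow_and {p : ℕ → Bool} {n a : ℕ} (ha : a < n) (h : p a = true) : 2 ^ (8 * a) &&& mk p n = 2 ^ (8 * a) :=
  Nat.eq_of_testBit_eq fun i => by
    rw [Nat.testBit_and, Nat.testBit_two_pow]
    by_cases h1 : 8 * a = i
    · subst h1
      have h2 : 8 * a / 8 = a := by omega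
      simp [bit_mk, h2, ha, h]
    · simp [h1]

/-- three masks -/
structure Tr where
  a : ℕ
  b : ℕ
  c : ℕ

/-- a function modulo `3` -/
noncomputable def M3 (v : ℕ → ℤ) (N : ℕ) : Tr :=
  ⟨mk (fun a => decide (v a % 3 = 0)) N, mk (fun a => decide (v a % 3 = 1)) N, mk (fun a => decide (v a % 3 = 2)) N⟩

/-- the sum -/
def ad (A B : Tr) : Tr :=
  ⟨Nat.lor (Nat.lor (Nat.land A.a B.a) (Nat.land A.b B.c)) (Nat.land A.c B.b),
    Nat.lor (Nat.lor (Nat.land A.a B.b) (Nat.land A.b B.a)) (Nat.land A.c B.c),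
    Nat.lor (Nat.lor (Nat.land A.a B.c) (Nat.land A.b B.b)) (Nat.land A.c B.a)⟩

/-- the negative -/
def ng (B : Tr) : Tr := ⟨B.a, B.c, B.b⟩

theorem M3_congr {u v : ℕ → ℤ} (h : ∀ a, u a % 3 = v a % 3) (N : ℕ) : M3 u N = M3 v N := by simp only [M3, h]

theorem M3_add (u v : ℕ → ℤ) (N : ℕ) : ad (M3 u N) (M3 v N) = M3 (fun a => u a + v a) N := by
  simp only [ad, M3, Nat.land_eq, Nat.lor_eq, mk_and le_rfl, mk_or, Tr.mk.injEq]
  refine ⟨mk_congr fun a _ => ?_, mk_congr fun a _ => ?_, mk_congr fun a _ => ?_⟩ <;>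
  · rw [Bool.eq_iff_iff]
    simp only [Bool.or_eq_true, Bool.and_eq_true, decide_eq_true_eq]
    omega

theorem M3_neg (u : ℕ → ℤ) (N : ℕ) : ng (M3 u N) = M3 (fun a => -u a) N := by
  simp only [ng, M3, Tr.mk.injEq]
  refine ⟨mk_congr fun a _ => ?_, mk_congr fun a _ => ?_, mk_congr fun a _ => ?_⟩ <;>
  · rw [decide_eq_decide]
    omega

/-- evaluation -/
noncomputable def fT (A : Tr) (k : Tr → Bool) : Bool := fN A.a fun a => fN A.b fun b => fN A.c fun c => k ⟨a, b, c⟩

theorem fT_eq (A : Tr) (k : Tr → Bool) : fT A k = k A := by simp only [fT, fN_eq]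

/-- evaluation -/
noncomputable def fL (L : List Tr) : List Tr → (List Tr → Bool) → Bool :=
  List.rec (fun acc k => k acc) (fun A _ ih acc k => fT A fun A' => ih (A' :: acc) k) L

theorem fL_eq (L acc : List Tr) (k : List Tr → Bool) : fL L acc k = k (L.reverseAux acc) := by
  induction L generalizing acc with
  | nil => rfl
  | cons A L ih => exact (fT_eq A fun A' => fL L (A' :: acc) k).trans (ih _)

/-- one more coordinate -/
noncomputable def st3 (G : Tr) (L : List Tr) : List Tr → (List Tr → Bool) → Bool :=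
  List.rec (fun acc k => k acc)
    (fun A _ ih acc k => fT (ad A G) fun A1 => fT (ad A (ng G)) fun A2 => ih (A :: A1 :: A2 :: acc) k) L

theorem st3_spec {G : Tr} {L acc : List Tr} {k : List Tr → Bool} (h : st3 G L acc k = true) :
    ∃ L', k L' = true ∧ (∀ A ∈ acc, A ∈ L') ∧ ∀ A ∈ L, A ∈ L' ∧ ad A G ∈ L' ∧ ad A (ng G) ∈ L' := by
  induction L generalizing acc with
  | nil => exact ⟨acc, h, fun _ h => h, fun _ h => absurd h List.not_mem_nil⟩
  | cons A L ih =>
    obtain ⟨L', h1, h2, h3⟩ := ih (acc := A :: ad A G :: ad A (ng G) :: acc) (by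
      rw [← h]
      exact ((fT_eq _ fun A1 => fT (ad A (ng G)) fun A2 => st3 G L (A :: A1 :: A2 :: acc) k).trans
        (fT_eq _ fun A2 => st3 G L (A :: ad A G :: A2 :: acc) k)).symm)
    exact ⟨L', h1, fun B hB => h2 B (by simp [hB]), List.forall_mem_cons.2
      ⟨⟨h2 _ (by simp), h2 _ (by simp), h2 _ (by simp)⟩, h3⟩⟩

/-- all combinations modulo `3` -/
noncomputable def all3 (g : ℕ → ℕ → ℤ) (N l : ℕ) : (List Tr → Bool) → Bool :=
  Nat.rec (motive := fun _ => (List Tr → Bool) → Bool) (fun k => fT (M3 (fun _ => 0) N) fun A => k [A])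
    (fun i ih k => ih fun L => fT (M3 (fun a => g a i) N) fun G => st3 G L [] k) l

theorem all3_spec {g : ℕ → ℕ → ℤ} {N l : ℕ} {k : List Tr → Bool} (h : all3 g N l k = true) :
    ∃ L, k L = true ∧ ∀ f : ℕ → ℤ, M3 (fun a => ∑ i ∈ Finset.range l, g a i * f i) N ∈ L := by
  induction l generalizing k with
  | zero => exact ⟨_, (fT_eq _ fun A => k [A]).symm.trans h, fun f => List.mem_singleton.2 rfl⟩
  | succ l ih =>
    obtain ⟨L, h1, h2⟩ := ih (k := fun L => fT (M3 (fun a => g a l) N) fun G => st3 G L [] k) h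
    obtain ⟨L', h3, -, h4⟩ := st3_spec ((fT_eq _ fun G => st3 G L [] k).symm.trans h1)
    refine ⟨L', h3, fun f => ?_⟩
    obtain ⟨a1, a2, a3⟩ := h4 _ (h2 f)
    rw [M3_add] at a2
    rw [M3_neg, M3_add] at a3
    simp only [Finset.sum_range_succ]
    obtain ⟨m, e | e | e⟩ : ∃ m, f l = 3 * m ∨ f l = 3 * m + 1 ∨ f l = 3 * m - 1 := ⟨(f l + 1) / 3, by omega⟩
    · refine mem_of_eq_of_mem (M3_congr (fun a => ?_) N) a1
      rw [e, mul_left_comm]
      omega
    · refine mem_of_eq_of_mem (M3_congr (fun a => ?_) N) a2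
      rw [e, mul_add, mul_one, mul_left_comm]
      omega
    · refine mem_of_eq_of_mem (M3_congr (fun a => ?_) N) a3
      rw [e, mul_sub, mul_one, mul_left_comm]
      omega

/-- one more coordinate -/
noncomputable def st2 (G : ℕ) (L : List ℕ) : List ℕ → (List ℕ → Bool) → Bool :=
  List.rec (fun acc k => k acc) (fun A _ ih acc k => fN (Nat.xor A G) fun A1 => ih (A :: A1 :: acc) k) L

theorem st2_spec {G : ℕ} {L acc : List ℕ} {k : List ℕ → Bool} (h : st2 G L acc k = true) :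
    ∃ L', k L' = true ∧ (∀ A ∈ acc, A ∈ L') ∧ ∀ A ∈ L, A ∈ L' ∧ A ^^^ G ∈ L' := by
  induction L generalizing acc with
  | nil => exact ⟨acc, h, fun _ h => h, fun _ h => absurd h List.not_mem_nil⟩
  | cons A L ih =>
    obtain ⟨L', h1, h2, h3⟩ := ih (acc := A :: (A ^^^ G) :: acc)
      ((fN_eq _ fun A1 => st2 G L (A :: A1 :: acc) k).symm.trans h)
    exact ⟨L', h1, fun B hB => h2 B (by simp [hB]), List.forall_mem_cons.2 ⟨⟨h2 _ (by simp), h2 _ (by simp)⟩, h3⟩⟩

/-- all combinations modulo `2` -/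
noncomputable def all2 (g : ℕ → ℕ → ℤ) (N l : ℕ) : (List ℕ → Bool) → Bool :=
  Nat.rec (motive := fun _ => (List ℕ → Bool) → Bool) (fun k => fN (mk (fun _ => true) N) fun A => k [A])
    (fun i ih k => ih fun L => fN (mk (fun a => decide (g a i % 2 = 1)) N) fun G => st2 G L [] k) l

theorem all2_spec {g : ℕ → ℕ → ℤ} {N l : ℕ} {k : List ℕ → Bool} (h : all2 g N l k = true) :
    ∃ L, k L = true ∧ ∀ f : ℕ → ℤ, mk (fun a => decide ((∑ i ∈ Finset.range l, g a i * f i) % 2 = 0)) N ∈ L := by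
  induction l generalizing k with
  | zero => exact ⟨_, (fN_eq _ fun A => k [A]).symm.trans h, fun f => List.mem_singleton.2 rfl⟩
  | succ l ih =>
    obtain ⟨L, h1, h2⟩ := ih (k := fun L => fN (mk (fun a => decide (g a l % 2 = 1)) N) fun G => st2 G L [] k) h
    obtain ⟨L', h3, -, h4⟩ := st2_spec ((fN_eq _ fun G => st2 G L [] k).symm.trans h1)
    refine ⟨L', h3, fun f => ?_⟩
    obtain ⟨a1, a2⟩ := h4 _ (h2 f)
    rw [mk_xor] at a2
    simp only [Finset.sum_range_succ]
    obtain ⟨m, e | e⟩ := Int.even_or_odd' (f l)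
    · refine mem_of_eq_of_mem (mk_congr fun a _ => ?_) a1
      rw [decide_eq_decide, e, mul_left_comm]
      omega
    · refine mem_of_eq_of_mem (mk_congr fun a _ => ?_) a2
      rw [Bool.eq_iff_iff, e, mul_add, mul_one, mul_left_comm]
      simp only [Bool.xor, bne_iff_ne, ne_eq, decide_eq_decide, decide_eq_true_eq]
      omega

/-- selection -/
noncomputable def flt (p : Tr → Bool) (L : List Tr) : List Tr → (List Tr → Bool) → Bool :=
  List.rec (fun acc k => k acc) (fun A _ ih acc k => cond (p A) (ih (A :: acc) k) (ih acc k)) L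

theorem flt_spec {p : Tr → Bool} {L acc : List Tr} {k : List Tr → Bool} (h : flt p L acc k = true) :
    ∃ L', k L' = true ∧ (∀ A ∈ acc, A ∈ L') ∧ ∀ A ∈ L, p A = true → A ∈ L' := by
  induction L generalizing acc with
  | nil => exact ⟨acc, h, fun _ h => h, fun _ h => absurd h List.not_mem_nil⟩
  | cons A L ih =>
    change cond (p A) (flt p L (A :: acc) k) (flt p L acc k) = true at h
    cases hp : p A <;> rw [hp] at h
    · obtain ⟨L', h1, h2, h3⟩ := ih h
      exact ⟨L', h1, h2, List.forall_mem_cons.2 ⟨fun e => absurd (hp.symm.trans e) Bool.false_ne_true, h3⟩⟩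
    · obtain ⟨L', h1, h2, h3⟩ := ih h
      exact ⟨L', h1, fun B hB => h2 B (List.mem_cons_of_mem _ hB),
        List.forall_mem_cons.2 ⟨fun _ => h2 _ List.mem_cons_self, h3⟩⟩

end Cfsg.Agent.N2.Ex.Mu.T3
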