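import Cfsg.Agent.N2.Ex.Mu.T33A

/-!
# N2, multiplicities: two functionals modulo three and one modulo two (helper72)

`Ii` : the lattice form of `In`; `chk` : the check; `chk_spec` : its meaning; `t33_of`, `f9_of` : the two statements.
-/

set_option autoImplicit false
set_option linter.unusedSectionVars false

namespace Cfsg.Agent.N2.Ex.Mu.T3

open CoxeterSystem Cfsg Cfsg.Lie Cfsg.Lie.ChevalleyDatum
open Cfsg.Agent.ChevalleyStructure Cfsg.Agent.ChevalleyStructure.CoxeterGeom Cfsg.Agent.ChevalleyStructure.CoxeterGeomTypes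
  Cfsg.Agent.Tits.Roots Cfsg.Agent.Nodes Cfsg.Agent.Nodes.RGDChev Cfsg.Agent.Nodes.Coroot
open Cfsg.Agent.DS.Ex Cfsg.Agent.DS.Nt Cfsg.Agent.H931.KC
open Cfsg.Agent.DS.Ex.Tor (RT)
open Cfsg.Agent.N2.Ex.Al Cfsg.Agent.N2.Ex.Al.Ck Cfsg.Agent.N2.Ex.Mu.Lt

section Chk

variable (T : Tb) (l : ℕ) (X : List (List ℤ))

/-- the coordinates of the roots and of the test vectors -/
def wi (a i : ℕ) : ℤ := cond (Nat.blt a T.n) ((T.u a i : ℤ) - 8) ((X.getD (a - T.n) []).getD i 0)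

/-- the test vectors: the roots which are not orthogonal, the position -/
noncomputable def xl : List Tr := (List.range X.length).map fun k =>
  ⟨mk (fun a => !decide (cz T l (X.getD k []) a = 0)) T.n, Nat.pow 2 (Nat.mul 8 (Nat.add T.n k)), 0⟩

/-- the test of `In` -/
noncomputable def ib (Y : List Tr) (A K : ℕ) : Bool :=
  and (not (Nat.beq (Nat.land A K) A)) (lA (fun e => or (not (Nat.beq (Nat.land e.a A) 0)) (Nat.beq (Nat.land e.b K) e.b)) Y)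

/-- at most `bd` members -/
def sm (bd A : ℕ) : Bool := Nat.ble (Nat.mod A 255) bd

/-- **the check** -/
noncomputable def chk (L : List Rw) (bd : ℕ) (pre : List Tr → ℕ → Tr → Bool) (leaf : List Tr → ℕ → Tr → Tr → ℕ → ℕ → Bool) : Bool :=
  fN (mk (fun _ => true) T.n) fun R => fL (xl T l X) [] fun Y =>
    all3 (wi T X) (Nat.add T.n X.length) l fun L3 => all2 (wi T X) (Nat.add T.n X.length) l fun L2 =>
      aL (fun j => fN (mk (rw0 L j).m.testBit T.n) fun B => or (sm bd B) (flt (pre Y B) L3 [] fun S =>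
        lA (fun b => or (not (Nat.beq (Nat.land B b.a) B)) (lA (fun k => fN (Nat.land R k) fun kR =>
          or (not (Nat.beq (Nat.land kR b.a) B)) (or (not (ib Y (Nat.land R b.a) k)) (or (not (ib Y kR b.a))
            (lA (fun a => leaf Y R a b k kR) S)))) L2)) L3)) L.length

/-- the leaf for three components -/
noncomputable def lf3 (bd x y : ℕ) (Y : List Tr) (R : ℕ) (a b : Tr) (k kR : ℕ) : Bool :=
  or (sm bd (Nat.land kR a.a)) (or (sm bd (Nat.land kR (ad a b).a)) (or (sm bd (Nat.land kR (ad a (ng b)).a))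
    (or (and (Nat.beq (Nat.mod (Nat.land R a.a) 255) x) (Nat.beq (Nat.mod (Nat.land R b.a) 255) y))
      (or (and (Nat.beq (Nat.mod (Nat.land R a.a) 255) y) (Nat.beq (Nat.mod (Nat.land R b.a) 255) x))
        (or (not (ib Y (Nat.land (Nat.land R a.a) b.a) k)) (not (ib Y (Nat.land kR a.a) b.a)))))))

/-- the leaf for a group of order nine -/
noncomputable def lf9 (bd : ℕ) (Y : List Tr) (R : ℕ) (a b : Tr) (k kR : ℕ) : Bool :=
  lE (fun e => or (sm bd (Nat.land kR e)) (or (not (ib Y (Nat.land R e) k)) (not (ib Y kR e))))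
    [a.a, (ad a b).a, (ad a (ng b)).a]

end Chk

variable {D : ChevalleyDatum} {l : ℕ} {M : CoxeterMatrix (Fin l)} {hp : IsType D l M} {T : Tb} {X : List (List ℤ)}

variable (hp) in
/-- the lattice form of `In` -/
def Ii (A : Set (LL l)) (N : ℕ) (χ : LL l →+ ℤ) : Prop :=
  (∀ x, (∀ a ∈ A, cp hp x a = 0) → (N : ℤ) ∣ χ x) ∧ ∃ a ∈ A, ¬ (N : ℤ) ∣ χ a

variable (hp) in
/-- transport of a functional -/
noncomputable def mv (v : M.Group) (F : LL l →+ ℤ) : LL l →+ ℤ := F.comp (ac hp v⁻¹).toAddMonoidHom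

theorem Ii.img {A : Set (LL l)} {N : ℕ} {χ : LL l →+ ℤ} (h : Ii hp A N χ) (hA : ∀ a ∈ A, RT hp a) (v : M.Group) :
    Ii hp (ac hp v '' A) N (mv hp v χ) := by
  obtain ⟨h1, a, h2, h3⟩ := h
  refine ⟨fun x hx => h1 (ac hp v⁻¹ x) fun a ha => ?_, _, ⟨a, h2, rfl⟩, ?_⟩
  · rw [← cp_ac hp v _ (hA a ha), ac_inv']
    exact hx _ ⟨a, ha, rfl⟩
  · show ¬ _ ∣ χ (ac hp v⁻¹ _)
    rwa [ac_inv]

theorem kl_mv (r : ℕ) (F : LL l →+ ℤ) (v : M.Group) : Kl hp r (mv hp v F) = ac hp v '' Kl hp r F := (kl_image r F v).symm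

theorem kl_mv2 (r r' : ℕ) (F F' : LL l →+ ℤ) (v : M.Group) :
    Kl hp r (mv hp v F) ∩ Kl hp r' (mv hp v F') = ac hp v '' (Kl hp r F ∩ Kl hp r' F') := by
  rw [kl_mv, kl_mv, Set.image_inter (ac hp v).injective]

theorem Ii.mv1 {r N : ℕ} {F χ : LL l →+ ℤ} (h : Ii hp (Kl hp r F) N χ) (v : M.Group) :
    Ii hp (Kl hp r (mv hp v F)) N (mv hp v χ) := kl_mv r F v ▸ h.img (fun _ h => h.1) v

theorem Ii.mv2 {r r' N : ℕ} {F F' χ : LL l →+ ℤ} (h : Ii hp (Kl hp r F ∩ Kl hp r' F') N χ) (v : M.Group) :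
    Ii hp (Kl hp r (mv hp v F) ∩ Kl hp r' (mv hp v F')) N (mv hp v χ) := kl_mv2 r r' F F' v ▸ h.img (fun _ h => h.1.1) v

variable (T l X) in
/-- the roots and the test vectors -/
def ww (a : ℕ) : LL l := fun i => wi T X a i

theorem ww_lt {a : ℕ} (h : a < T.n) : ww l T X a = T.vec l a := funext fun i => by
  rw [ww, wi, Nat.blt_eq.mpr h]
  rfl

theorem ww_add (k : ℕ) : ww l T X (T.n + k) = vz l (X.getD k []) := funext fun i => by
  rw [ww, wi, Bool.eq_false_iff.2 (mt Nat.blt_eq.mp (by omega)), Nat.add_sub_cancel_left]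
  rfl

open Classical in
variable (T) in
/-- the mask of a set of roots -/
noncomputable def rm (A : Set (LL l)) : ℕ := mk (fun a => decide (T.vec l a ∈ A)) T.n

variable (T X) in
/-- the mask of the kernel -/
noncomputable def zz (r : ℕ) (F : LL l →+ ℤ) : ℕ := mk (fun a => decide (F (ww l T X a) % r = 0)) (T.n + X.length)

variable (T X) in
/-- the masks of a functional -/
noncomputable def m3 (F : LL l →+ ℤ) : Tr := M3 (fun a => F (ww l T X a)) (T.n + X.length)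

theorem m3_a (F : LL l →+ ℤ) : (m3 T X F).a = zz T X 3 F := rfl

theorem m3_add (F F' : LL l →+ ℤ) : ad (m3 T X F) (m3 T X F') = m3 T X (F + F') := M3_add _ _ _

theorem m3_sub (F F' : LL l →+ ℤ) : ad (m3 T X F) (ng (m3 T X F')) = m3 T X (F - F') := by
  rw [m3, m3, M3_neg, M3_add, sub_eq_add_neg]
  rfl

theorem rm_univ : mk (fun _ => true) T.n = rm T (Set.univ : Set (LL l)) := mk_congr fun _ _ => by simp

theorem val_eq (F : LL l →+ ℤ) : ∃ f : ℕ → ℤ, ∀ a, F (ww l T X a) = ∑ i ∈ Finset.range l, wi T X a i * f i :=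
  ⟨fun i => if h : i < l then F (sr ⟨i, h⟩) else 0, fun a => by
    rw [eq_psi, Finset.sum_range]
    exact Finset.sum_congr rfl fun i _ => by simp only [dif_pos i.2]; rfl⟩

variable (G : Gt hp T)
include G

theorem rm_and (A : Set (LL l)) (r : ℕ) (F : LL l →+ ℤ) : Nat.land (rm T A) (zz T X r F) = rm T (A ∩ Kl hp r F) := by
  rw [Nat.land_eq, rm, zz, mk_and (Nat.le_add_right _ _)]
  refine mk_congr fun a ha => ?_
  rw [ww_lt ha, Bool.eq_iff_iff, Bool.and_eq_true, @decide_eq_true_iff _ (_), @decide_eq_true_iff _ (_),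
    @decide_eq_true_iff _ (_), ← Int.dvd_iff_emod_eq_zero]
  exact and_congr_right' (and_iff_right (G.root a ha)).symm

theorem rm_kl (r : ℕ) (F : LL l →+ ℤ) : Nat.land (rm T (Set.univ : Set (LL l))) (zz T X r F) = rm T (Kl hp r F) := by
  rw [rm_and G, Set.univ_inter]

theorem rm_St (m : ℕ) : mk m.testBit T.n = rm T (St T l m) := mk_congr fun a ha => by
  rw [Bool.eq_iff_iff, ← G.mem_St ha]
  exact (@decide_eq_true_iff _ (_)).symm

theorem rm_mod (hn : T.n < 255) {A : Set (LL l)} (hA : ∀ a ∈ A, RT hp a) : Nat.mod (rm T A) 255 = A.ncard := by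
  classical
  refine ((mk_mod _ _).trans (Nat.mod_eq_of_lt ((cL_le _ _).trans_lt hn))).trans ?_
  rw [← G.ncard_eq (P := fun a => a ∈ A) fun r _ => decide_eq_true_iff.symm]
  exact congrArg Set.ncard (Set.ext fun a => ⟨fun h => h.2, fun h => ⟨hA a h, h⟩⟩)

theorem sm_iff (hn : T.n < 255) {A : Set (LL l)} (hA : ∀ a ∈ A, RT hp a) {bd : ℕ} :
    sm bd (rm T A) = true ↔ A.ncard ≤ bd := by rw [sm, rm_mod G hn hA, Nat.ble_eq]

theorem ib_spec {Y : List Tr} (hY : ∀ e ∈ Y, e ∈ xl T l X) {A : Set (LL l)} (hA : ∀ a ∈ A, RT hp a) {N : ℕ} {χ : LL l →+ ℤ}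
    (h : Ii hp A N χ) : ib Y (rm T A) (zz T X N χ) = true := by
  obtain ⟨h1, a, h2, h3⟩ := h
  simp only [ib, Bool.and_eq_true, Bool.or_eq_true, lA_iff, Bool.not_eq_true', ← Bool.not_eq_true, Nat.beq_eq, rm_and G]
  refine ⟨fun e => ?_, fun e he => ?_⟩
  · obtain ⟨s, hs, rfl⟩ := G.surj a (hA a h2)
    exact h3 ((decide_eq_decide.1 (mk_inj e hs)).2 h2).2.2
  obtain ⟨k, hk, rfl⟩ := List.mem_map.1 (hY e he)
  rw [List.mem_range] at hk
  refine not_or_of_imp fun h4 => pow_and (a := T.n + k) (by omega) (decide_eq_true ?_)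
  rw [ww_add]
  refine Int.emod_eq_zero_of_dvd (h1 _ fun b hb => ?_)
  obtain ⟨s, hs, rfl⟩ := G.surj b (hA b hb)
  have h5 := congrArg (·.testBit (8 * s)) h4
  have h6 : 8 * s / 8 = s := by omega
  rw [cz_eq G _ hs]
  simpa [rm, bit_mk, h6, hs, hb] using h5

/-- **the meaning of the check** -/
theorem chk_spec (hn : T.n < 255) {L : List Rw} (hL : ∀ j < L.length, T.row L j = true) (hL0 : 0 < L.length)
    (hL1 : (rw0 L 0).m = 0) {bd : ℕ} {pre : List Tr → ℕ → Tr → Bool} {leaf : List Tr → ℕ → Tr → Tr → ℕ → ℕ → Bool}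
    (h : chk T l X L bd pre leaf = true) {F' G' : LL l →+ ℤ} (hb : bd < (Kl hp 2 G' ∩ Kl hp 3 F').ncard)
    (h1 : Ii hp (Kl hp 3 F') 2 G') (h2 : Ii hp (Kl hp 2 G') 3 F') : ∃ (v : M.Group) (Y : List Tr), (∀ e ∈ Y, e ∈ xl T l X) ∧
      ∀ F : LL l →+ ℤ, pre Y (rm T (Kl hp 2 (mv hp v G') ∩ Kl hp 3 (mv hp v F'))) (m3 T X F) = true →
        leaf Y (rm T (Set.univ : Set (LL l))) (m3 T X F) (m3 T X (mv hp v F')) (zz T X 2 (mv hp v G'))
          (rm T (Kl hp 2 (mv hp v G'))) = true := by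
  obtain ⟨j, hj, v, e⟩ := G.cls_of hL hL0 hL1 (S := Kl hp 2 G' ∩ Kl hp 3 F')
    ⟨fun _ h => h.1.1, fun a h => ⟨(kl_sy _ _).neg a h.1, (kl_sy _ _).neg a h.2⟩⟩
    fun a ha b hb => ⟨kl_rc _ _ a ha.1 b hb.1, kl_rc _ _ a ha.2 b hb.2⟩
  rw [← ncard_ac (hp := hp) v, ← kl_mv2] at hb
  rw [← kl_mv2] at e
  have k1 := h1.mv1 v
  have k2 := h2.mv1 v
  generalize hF : mv hp v F' = F₁ at *
  generalize hG : mv hp v G' = G₁ at *
  rw [chk, fN_eq, fL_eq, rm_univ (l := l)] at h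
  obtain ⟨L3, h, a3⟩ := all3_spec h
  obtain ⟨L2, h, a2⟩ := all2_spec h
  have b3 : ∀ F : LL l →+ ℤ, m3 T X F ∈ L3 := fun F => by
    obtain ⟨f, hf⟩ := val_eq (T := T) (X := X) F
    exact mem_of_eq_of_mem (congrArg (M3 · _) (funext hf)) (a3 f)
  have b2 : zz T X 2 G₁ ∈ L2 := by
    obtain ⟨f, hf⟩ := val_eq (T := T) (X := X) G₁
    exact mem_of_eq_of_mem (mk_congr fun a _ => by rw [hf]; rfl) (a2 f)
  have hY : ∀ e ∈ (xl T l X).reverseAux [], e ∈ xl T l X := fun e he => List.mem_reverse.1 he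
  subst hF hG
  refine ⟨v, _, hY, fun F hP => ?_⟩
  have h3 := aL_iff.1 h j hj
  rw [fN_eq, rm_St G, ← e, Bool.or_eq_true, sm_iff G hn fun _ h => h.1.1] at h3
  obtain ⟨S, h4, -, h5⟩ := flt_spec (h3.resolve_left hb.not_ge)
  have h6 := lA_iff.1 h4 _ (b3 (mv hp v F'))
  rw [m3_a, rm_and G, Set.inter_assoc, Set.inter_self, Nat.beq_refl, Bool.not_true, Bool.false_or] at h6
  have h7 := lA_iff.1 h6 _ b2
  rw [fN_eq, rm_kl G, rm_kl G, rm_and G, Nat.beq_refl, ib_spec G hY (fun _ h => h.1) k1, ib_spec G hY (fun _ h => h.1) k2] at h7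
  exact lA_iff.1 h7 _ (h5 _ (b3 F) hP)

/-- **three components** -/
theorem t33_of (hn : T.n < 255) {L : List Rw} (hL : ∀ j < L.length, T.row L j = true) (hL0 : 0 < L.length)
    (hL1 : (rw0 L 0).m = 0) {bd x y : ℕ} (h : chk T l X L bd (fun Y B a => ib Y B a.a) (lf3 bd x y) = true)
    {F F' G' : LL l →+ ℤ} (h1 : Ii hp (Kl hp 3 F') 2 G') (h2 : Ii hp (Kl hp 2 G') 3 F')
    (h3 : Ii hp (Kl hp 3 F ∩ Kl hp 3 F') 2 G') (h4 : Ii hp (Kl hp 2 G' ∩ Kl hp 3 F) 3 F')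
    (h5 : Ii hp (Kl hp 2 G' ∩ Kl hp 3 F') 3 F) :
    (∃ E ∈ [F, F', F + F', F - F'], (Kl hp 2 G' ∩ Kl hp 3 E).ncard ≤ bd) ∨
      (Kl hp 3 F).ncard = x ∧ (Kl hp 3 F').ncard = y ∨ (Kl hp 3 F).ncard = y ∧ (Kl hp 3 F').ncard = x := by
  by_cases hb : (Kl hp 2 G' ∩ Kl hp 3 F').ncard ≤ bd
  · exact .inl ⟨F', by simp, hb⟩
  obtain ⟨v, Y, hY, k⟩ := chk_spec G hn hL hL0 hL1 h (not_le.1 hb) h1 h2
  have k1 := k (mv hp v F) (ib_spec G hY (fun _ h => h.1.1) (h5.mv2 v))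
  have e1 : mv hp v F + mv hp v F' = mv hp v (F + F') := rfl
  have e2 : mv hp v F - mv hp v F' = mv hp v (F - F') := rfl
  have n1 : ∀ E, sm bd (rm T (Kl hp 2 (mv hp v G') ∩ Kl hp 3 (mv hp v E))) = true ↔ (Kl hp 2 G' ∩ Kl hp 3 E).ncard ≤ bd :=
    fun E => by rw [sm_iff G hn fun _ h => h.1.1, kl_mv2, ncard_ac]
  have n2 : ∀ E, Nat.mod (rm T (Kl hp 3 (mv hp v E))) 255 = (Kl hp 3 E).ncard := fun E => by
    rw [rm_mod G hn fun _ h => h.1, kl_mv, ncard_ac]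
  rw [lf3, m3_add, m3_sub, e1, e2] at k1
  simp only [m3_a, rm_kl G, rm_and G, ib_spec G hY (fun _ h => h.1.1) (h3.mv2 v), ib_spec G hY (fun _ h => h.1.1) (h4.mv2 v),
    Bool.or_eq_true, Bool.and_eq_true, n1, n2, Nat.beq_eq, Bool.not_true, Bool.false_eq_true, or_false] at k1
  rcases k1 with k1 | k1 | k1 | k1
  exacts [.inl ⟨_, by simp, k1⟩, .inl ⟨_, by simp, k1⟩, .inl ⟨_, by simp, k1⟩, .inr k1]

/-- **a group of order nine** -/
theorem f9_of (hn : T.n < 255) {L : List Rw} (hL : ∀ j < L.length, T.row L j = true) (hL0 : 0 < L.length)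
    (hL1 : (rw0 L 0).m = 0) {bd : ℕ} (h : chk T l X L bd (fun _ _ _ => true) (lf9 bd) = true) {F F' G' : LL l →+ ℤ}
    (h1 : ∀ E ∈ [F, F', F + F', F - F'], Ii hp (Kl hp 3 E) 2 G' ∧ Ii hp (Kl hp 2 G') 3 E) :
    ∃ E ∈ [F, F', F + F', F - F'], (Kl hp 2 G' ∩ Kl hp 3 E).ncard ≤ bd := by
  by_contra hb
  obtain ⟨v, Y, hY, k⟩ := chk_spec G hn hL hL0 hL1 h (not_le.1 fun e => hb ⟨F', by simp, e⟩) (h1 F' (by simp)).1
    (h1 F' (by simp)).2
  have k1 := k (mv hp v F) rfl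
  have e1 : mv hp v F + mv hp v F' = mv hp v (F + F') := rfl
  have e2 : mv hp v F - mv hp v F' = mv hp v (F - F') := rfl
  rw [lf9, m3_add, m3_sub, e1, e2, lE_iff] at k1
  obtain ⟨_, k2, k1⟩ := k1
  obtain ⟨E, hE, rfl⟩ : ∃ E ∈ [F, F', F + F', F - F'], zz T X 3 (mv hp v E) = _ := by
    simp only [List.mem_cons, List.not_mem_nil, or_false, m3_a] at k2
    rcases k2 with k2 | k2 | k2 <;> exact ⟨_, by simp, k2.symm⟩
  rw [rm_kl G, rm_and G, ib_spec G hY (fun _ h => h.1) ((h1 E hE).1.mv1 v), ib_spec G hY (fun _ h => h.1) ((h1 E hE).2.mv1 v),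
    Bool.not_true, Bool.or_false, Bool.or_false, sm_iff G hn fun _ h => h.1.1, kl_mv2, ncard_ac] at k1
  exact hb ⟨E, hE, k1⟩

end Cfsg.Agent.N2.Ex.Mu.T3
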